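import Cfsg.Agent.Lib.U5.Final

/-!
Comparison of automizers: the generic lemma and the fixed-point-freeness of the torus.
-/

set_option autoImplicit false

namespace Cfsg.Agent.U5

open Cfsg.Agent.Fus Subgroup

universe u v

/-- Two lifts of the same Weyl element differ by an inner automorphism. -/
theorem cmp_gen {G : Type*} [Group G] [Finite G] {p : ℕ} [hp : Fact p.Prime] (hG : IsPGroup p G)
    {Γ H : Subgroup (MulAut G)} {C : Subgroup G} (hcop : ¬ p ∣ Nat.card H) (hI : Inn G ≤ Γ)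
    (hIC : ∀ g x : G, x⁻¹ * (g * x * g⁻¹) ∈ C) (hN : ∀ α ∈ Γ, TrivOn α ⊤ C → α ∈ Inn G)
    (hC : ∀ h ∈ H, ∀ x ∈ C, h x ∈ C) (hH : H ≤ Γ)
    (hfix : ∀ n, TrivOn n ⊤ C → (∀ h ∈ H, h * n = n * h) → n = 1) {w w' : MulAut G}
    (hw' : w' ∈ Γ) (hn : TrivOn (w'⁻¹ * w) ⊤ C) (hw : ∀ h ∈ H, w * h * w⁻¹ ∈ Γ) : w ∈ Γ := by
  haveI : Finite (MulAut G) := Finite.of_injective (fun α : MulAut G => (α : G → G))
    DFunLike.coe_injective
  have hIp : IsPGroup p (Inn G) := hG.of_surjective _ (MonoidHom.rangeRestrict_surjective _)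
  haveI := hIp.isNilpotent
  haveI := innNormal G
  obtain ⟨k, hk⟩ := IsPGroup.iff_card.1 hIp
  obtain ⟨i, hi, hc⟩ := Solv.exists_mul_mem_centralizer (A := H) (N := Inn G)
    le_normalizer_of_normal (hk ▸ (((Nat.Prime.coprime_iff_not_dvd hp.out).2 hcop).symm.pow_right k))
    (.inr inferInstance) (w'⁻¹ * w) fun h hh => hN _ (by
      have := mul_mem (hH hh) (mul_mem (mul_mem (inv_mem hw') (hw _ (inv_mem hh))) hw')
      rwa [show h * (w'⁻¹ * (w * h⁻¹ * w⁻¹) * w') = h * (w'⁻¹ * w) * h⁻¹ * (w'⁻¹ * w)⁻¹ by group]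
        at this) ((hn.conj (fun _ _ => trivial) (hC h hh)).mul le_top (hn.inv le_top))
  have hiC : TrivOn i ⊤ C := by
    obtain ⟨g, rfl⟩ := hi
    exact fun x _ => hIC g x
  have := hfix _ (hiC.mul le_top hn) fun h hh => hc h hh
  rw [show w = w' * i⁻¹ * (i * (w'⁻¹ * w)) by group, this, mul_one]
  exact mul_mem hw' (inv_mem (hI hi))

variable {K : Type v} [Field K] [Fintype K] [Uf K]

theorem exists_icj_Z' {x : P K} (hx : x ∈ Z K) :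
    ∃ g ∈ Y3 K, ∃ y ∈ Y3 K, x = y⁻¹ * (g * y * g⁻¹) := by
  obtain ⟨g, hg, y, hy, rfl⟩ := exists_icj_Z hx
  obtain ⟨g', g₁, g₂, g₃, -, g₄⟩ := exists_elt 0 0 g.d (0 : K)
  obtain ⟨y', y₁, y₂, y₃, -, y₄⟩ := exists_elt 0 0 y.d (0 : K)
  refine ⟨g', ⟨g₁, g₂, g₄ rfl⟩, y', ⟨y₁, y₂, y₄ rfl⟩, ?_⟩
  ext <;> simp [hg.1, hg.2, hy.1, hy.2, g₁, g₂, g₃, y₁, y₂, y₃, P.star_z, P.star_t]
  ring

theorem exists_icj_W {x : P K} (hx : x ∈ W K) :
    ∃ g ∈ Q2 K, ∃ y ∈ Q2 K, ∃ z ∈ Z2 K, x = y⁻¹ * (g * y * g⁻¹) * z := by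
  obtain ⟨t, ht, ht'⟩ := exists_k0_ne K
  have hz : star x.t = -x.t := by rw [P.star_t]; simp [hx.2.1]
  obtain ⟨r, hr⟩ := exists_trace (y := x.t / t) (by rw [star_div₀, hz, ht', neg_div_neg_eq])
  obtain ⟨g, g₁, g₂, -⟩ := exists_elt 0 1 0 (0 : K)
  obtain ⟨y, y₁, y₂, -⟩ := exists_elt 0 (t * r) 0 (0 : K)
  have h := icj_Q2 (g := g) (x := y) g₁ y₁
  have hc : (y⁻¹ * (g * y * g⁻¹)).t = x.t := by
    rw [icj_t]; simp [g₂, y₂, ht']
    field_simp at hr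
    linear_combination hr
  refine ⟨g, g₁, y, y₁, (y⁻¹ * (g * y * g⁻¹))⁻¹ * x, ?_, by group⟩
  generalize y⁻¹ * (g * y * g⁻¹) = w at h hc
  simp [mem_Z2, hx.1, hx.2.1, hx.2.2, h.1, h.2.1, h.2.2, hc, hz]

/-- An additive map into `k₀` whose kernel is invariant under scalars vanishes. -/
theorem van_k0 (g : K → K) (hadd : ∀ x y, g (x + y) = g x + g y) (h0 : ∀ x, g x ∈ k0 K)
    (h : ∀ ν : Kˣ, ∃ χ, ∀ x, g (ν * x) = χ * g x) (x : K) : g x = 0 := by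
  let f : K →+ k0 K := AddMonoidHom.mk' (fun x => ⟨g x, h0 x⟩) fun x y => Subtype.ext (hadd x y)
  obtain ⟨b, hb, hb'⟩ : ∃ b, b ≠ 0 ∧ g b = 0 := by
    by_contra hc
    push Not at hc
    have := Nat.card_le_card_of_injective f ((injective_iff_map_eq_zero f).2 fun b hb => by
      by_contra h'
      exact hc b h' (congrArg Subtype.val hb))
    rw [card_K, card_k0] at this
    have := two_le_q K
    nlinarith
  by_cases hx : x = 0
  · have := hadd 0 0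
    rw [add_zero] at this
    rw [hx]; linear_combination -this
  obtain ⟨χ, hχ⟩ := h (Units.mk0 (x / b) (div_ne_zero hx hb))
  simpa [hb, hb'] using hχ b

omit [Fintype K] [Uf K] in
theorem van_of_fix (g : K → K) (hadd : ∀ x y, g (x + y) = g x + g y) {β χ : K}
    (h : ∀ x, g (β * x) = χ * g x) (hβ : β ≠ 1 ∧ χ = 1 ∨ β = 1 ∧ χ ≠ 1) (x : K) : g x = 0 := by
  rcases hβ with ⟨h₁, rfl⟩ | ⟨rfl, h₂⟩
  · have h' := sub_ne_zero.2 h₁
    have e := hadd x (x / (β - 1))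
    rw [show x + x / (β - 1) = β * (x / (β - 1)) by field_simp; ring, h] at e
    linear_combination -e
  · have := h x
    rw [one_mul] at this
    exact mul_left_cancel₀ (sub_ne_zero.2 h₂) (by linear_combination -this)

variable (K) in
/-- Either the fixed field has more than two elements, or `q = 2`. -/
theorem real_or : (∃ ν : Kˣ, star (ν : K) = ν ∧ (ν : K) ≠ 1) ∨
    ∃ ρ : Kˣ, star (ρ : K) = ρ ^ 2 ∧ (ρ : K) ≠ 1 ∧ (ρ : K) ^ 3 = 1 := by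
  by_contra hc
  push Not at hc
  obtain ⟨h₁, h₂⟩ := hc
  have key : ∀ x : K, star x = x → x ≠ 0 → x = 1 := fun x hx h0 => h₁ (Units.mk0 x h0) hx
  obtain ⟨x, hx⟩ := exists_star_ne K
  have h0 : x ≠ 0 := by rintro rfl; simp at hx
  have hN : x * star x = 1 := key _ (by simp [mul_comm]) (mul_ne_zero h0 (star_ne_zero.2 h0))
  have h2 : (2 : K) = 0 := by
    by_contra h
    exact one_ne_zero (α := K) (by linear_combination key 2 (by simp) h)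
  have hT : x + star x = 1 := key _ (by simp [add_comm]) fun h =>
    hx (by linear_combination h - x * h2)
  have e : star x = x ^ 2 := by linear_combination (1 - x) * hT + hN + (1 - x) * h2
  exact h₂ (Units.mk0 x h0) e (fun h => hx (by rw [show x = 1 from h, star_one]))
    (show x ^ 3 = 1 by linear_combination hN - x * e)

/-- Automorphisms of `Q₁` trivial on `Q₁ / Z` and commuting with `η(ρ)` are trivial. -/
theorem fix₁ {n : P K → P K} (hm : ∀ x ∈ Q1 K, ∀ y ∈ Q1 K, n (x * y) = n x * n y)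
    (hZ : ∀ x ∈ Q1 K, x⁻¹ * n x ∈ Z K) (hc : ∀ ρ, ∀ x ∈ Q1 K, eta ρ (n x) = n (eta ρ x))
    {x : P K} (hx : x ∈ Q1 K) : n x = x := by
  obtain ⟨ζ, e, hZ⟩ : ∃ ζ : P K → P K, (∀ x, n x = x * ζ x) ∧ ∀ x ∈ Q1 K, ζ x ∈ Z K :=
    ⟨fun x => x⁻¹ * n x, by simp, hZ⟩
  have hζ : ∀ x ∈ Q1 K, ∀ y ∈ Q1 K, ζ (x * y) = ζ x * ζ y := fun x hx y hy => by
    rw [← mul_right_inj (x * y), ← e, hm x hx y hy, e x, e y, mul_assoc, ← mul_assoc (ζ x),
      comm_Z (hZ x hx) y]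
    simp only [mul_assoc]
  have h1 : ζ 1 = 1 := by simpa using hζ 1 (one_mem _) 1 (one_mem _)
  have hi : ∀ x ∈ Q1 K, ζ x⁻¹ = (ζ x)⁻¹ := fun x hx =>
    eq_inv_of_mul_eq_one_left (by rw [← hζ _ (inv_mem hx) x hx, inv_mul_cancel, h1])
  have hZ1 : ∀ z ∈ Z K, ζ z = 1 := fun z hz => by
    obtain ⟨g, hg, y, hy, rfl⟩ := exists_icj_Z' hz
    replace hg := Y3_le_Q1 hg
    replace hy := Y3_le_Q1 hy
    rw [hζ _ (inv_mem hy) _ (mul_mem (mul_mem hg hy) (inv_mem hg)),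
      hζ _ (mul_mem hg hy) _ (inv_mem hg), hζ _ hg _ hy, hi _ hy, hi _ hg, conj_Z (hZ y hy),
      inv_mul_cancel]
  obtain ⟨r, hr⟩ := exists_star_ne K
  have h0 : r ≠ 0 := by rintro rfl; simp at hr
  have h0' : star r ≠ 0 := star_ne_zero.2 h0
  have h₁ : r⁻¹ - 1 ≠ 0 := fun h => hr (by rw [inv_eq_one.1 (sub_eq_zero.1 h), star_one])
  have h₂ : r / star r - 1 ≠ 0 := fun h => hr (div_eq_one_iff_eq h0' |>.1 (sub_eq_zero.1 h)).symm
  have h₃ : star r - 1 ≠ 0 := fun h => hr (by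
    have := sub_eq_zero.1 h
    rw [this, ← star_star r, this, star_one])
  let ρ := Units.mk0 r h0
  obtain ⟨y, ya, yb, yd, yc, yt⟩ :=
    exists_elt (x.a / (r⁻¹ - 1)) 0 (x.d / (r / star r - 1)) (x.c / (star r - 1))
  have hy : y ∈ Q1 K := ⟨yb, yt rfl⟩
  have hy' : eta ρ y ∈ Q1 K := by simp [mem_Q1, eta, yb, yt rfl]
  have hf : ∀ z ∈ Z K, eta ρ z = z := fun z hz => by
    ext <;> simp [eta, ρ, hz.1, hz.2.1, hz.2.2.1, hz.2.2.2.1, hz.2.2.2.2]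
    field_simp
  have e₁ : ζ (eta ρ y) = ζ y := by
    rw [← mul_right_inj (eta ρ y), ← e, ← hc ρ y hy, e y, map_mul, hf _ (hZ y hy)]
  have e₂ : (y⁻¹ * eta ρ y)⁻¹ * x ∈ Z K := by
    have a₁ : (y⁻¹ * eta ρ y).a = x.a := by
      rw [← mul_div_cancel₀ x.a h₁, ← ya]; simp [eta, ρ]; ring
    have d₁ : (y⁻¹ * eta ρ y).d = x.d := by
      rw [← mul_div_cancel₀ x.d h₂, ← yd]; simp [eta, ρ, yb]; field_simp; ring
    have c₁ : (y⁻¹ * eta ρ y).c = x.c := by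
      rw [← mul_div_cancel₀ x.c h₃, ← yc]; simp [eta, ρ, yb, yt rfl]; field_simp; ring
    have := mul_mem (inv_mem hy) hy'
    generalize y⁻¹ * eta ρ y = w at a₁ d₁ c₁ this
    simp [mem_Z, a₁, d₁, c₁, this.1, this.2, hx.1, hx.2]
  have := hζ _ (mul_mem (inv_mem hy) hy') _ (Z2_le_Q1 (Z_le_Z2 e₂))
  rw [mul_inv_cancel_left, hZ1 _ e₂, hζ _ (inv_mem hy) _ hy', e₁, hi _ hy] at this
  rw [e, this]; simp

/-- Automorphisms of `Q₂` trivial on `Q₂ / W` and commuting with the torus are trivial. -/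
theorem fix₂ {n : P K → P K} (hm : ∀ x ∈ Q2 K, ∀ y ∈ Q2 K, n (x * y) = n x * n y)
    (hW : ∀ x ∈ Q2 K, x⁻¹ * n x ∈ W K) (hc : ∀ ρ, ∀ x ∈ Q2 K, eta ρ (n x) = n (eta ρ x))
    (hc' : ∀ μ, ∀ x ∈ Q2 K, hh μ (n x) = n (hh μ x)) {x : P K} (hx : x ∈ Q2 K) : n x = x := by
  obtain ⟨ζ, e, hW⟩ : ∃ ζ : P K → P K, (∀ x, n x = x * ζ x) ∧ ∀ x ∈ Q2 K, ζ x ∈ W K :=
    ⟨fun x => x⁻¹ * n x, by simp, hW⟩
  have hζ : ∀ x ∈ Q2 K, ∀ y ∈ Q2 K, ζ (x * y) = ζ x * ζ y := fun x hx y hy => by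
    rw [← mul_right_inj (x * y), ← e, hm x hx y hy, e x, e y, mul_assoc, ← mul_assoc (ζ x),
      comm_W (hW x hx) hy]
    simp only [mul_assoc]
  have h1 : ζ 1 = 1 := by simpa using hζ 1 (one_mem _) 1 (one_mem _)
  have hi : ∀ x ∈ Q2 K, ζ x⁻¹ = (ζ x)⁻¹ := fun x hx =>
    eq_inv_of_mul_eq_one_left (by rw [← hζ _ (inv_mem hx) x hx, inv_mul_cancel, h1])
  have hcj : ∀ g ∈ Q2 K, ∀ y ∈ Q2 K, ζ (y⁻¹ * (g * y * g⁻¹)) = 1 := fun g hg y hy => by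
    rw [hζ _ (inv_mem hy) _ (mul_mem (mul_mem hg hy) (inv_mem hg)),
      hζ _ (mul_mem hg hy) _ (inv_mem hg), hζ _ hg _ hy, hi _ hy, hi _ hg,
      conj_W (hW y hy) (W_le_Q2 (hW g hg)), inv_mul_cancel]
  have hZ1 : ∀ z ∈ Z K, ζ z = 1 := fun z hz => by
    obtain ⟨g, hg, y, hy, rfl⟩ := exists_icj_Z hz
    exact hcj g hg.1 y hy.1
  have hZ2 : ∀ z ∈ Z2 K, ζ z = 1 := fun z hz => by
    obtain ⟨g, hg, y, hy, z', hz', rfl⟩ := exists_icj_Z2 hz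
    rw [hζ _ (icj_a ..) _ hz'.1, hcj g hg y hy.1, hZ1 z' hz', one_mul]
  have hW1 : ∀ z ∈ W K, ζ z = 1 := fun z hz => by
    obtain ⟨g, hg, y, hy, z', hz', rfl⟩ := exists_icj_W hz
    rw [hζ _ (icj_a ..) _ hz'.1, hcj g hg y hy, hZ2 z' hz', one_mul]
  choose s sa sb sd sc st using fun b d : K => exists_elt 0 b d 0
  have hs : ∀ x ∈ Q2 K, ζ x = ζ (s x.b x.d) := fun x hx => by
    have : (s x.b x.d)⁻¹ * x ∈ W K := by simp [mem_W, sa, sb, sd, mem_Q2.1 hx]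
    rw [← mul_inv_cancel_left (s x.b x.d) x, hζ _ (sa ..) _ this.1, hW1 _ this,
      mul_inv_cancel_left, mul_one]
  have hadd : ∀ b d b' d', ζ (s (b + b') (d + d')) = ζ (s b d) * ζ (s b' d') := fun b d b' d' => by
    rw [← hζ _ (sa ..) _ (sa ..), hs _ (mul_mem (sa ..) (sa ..))]
    simp [sa, sb, sd]
  have hw : ∀ b d, ζ (s b d) ∈ W K := fun b d => hW _ (sa ..)
  have heq : ∀ l m : Kˣ, (∀ x ∈ Q2 K, dg l m (RingEquiv.refl K) (n x) =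
      n (dg l m (RingEquiv.refl K) x)) → ∀ b d, ζ (s (m * b) (l * m * d)) =
      dg l m (RingEquiv.refl K) (ζ (s b d)) := fun l m h b d => by
    have h₁ : dg l m (RingEquiv.refl K) (s b d) ∈ Q2 K := by simp [mem_Q2, sa]
    have := hs _ h₁
    simp only [dg_b, dg_d, sb, sd, RingEquiv.refl_apply] at this
    rw [← this, ← mul_right_inj (dg l m (RingEquiv.refl K) (s b d)), ← e, ← h _ (sa ..), e, map_mul]
  have at' : ∀ b d b' d', (ζ (s (b + b') (d + d'))).t = (ζ (s b d)).t + (ζ (s b' d')).t :=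
    fun b d b' d' => by rw [hadd]; simp [(hw b d).2.1]
  have ac : ∀ b d b' d', (ζ (s (b + b') (d + d'))).c = (ζ (s b d)).c + (ζ (s b' d')).c :=
    fun b d b' d' => by rw [hadd]; simp [(hw b d).1, (hw b d).2.2]
  have az : ∀ b d b' d', (ζ (s (b + b') (d + d'))).z = (ζ (s b d)).z + (ζ (s b' d')).z :=
    fun b d b' d' => by rw [hadd]; simp [(hw b d).1, (hw b d).2.2, (hw b' d').1]
  have kt : ∀ b d, (ζ (s b d)).t ∈ k0 K := fun b d => by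
    rw [mem_k0, P.star_t]; simp [(hw b d).2.1]
  have kz : ∀ b d, (ζ (s b d)).z ∈ k0 K := fun b d => by
    rw [mem_k0, P.star_z]; simp [(hw b d).1, (hw b d).2.2]
  have q₁ : ∀ (μ : Kˣ) b, ζ (s (μ * b) 0) = hh μ⁻¹ (ζ (s b 0)) := fun μ b => by
    simpa [hh] using heq _ _ (hc' μ⁻¹) b 0
  have q₂ : ∀ (μ : Kˣ) d, ζ (s 0 (μ * d)) = hh μ (ζ (s 0 d)) := fun μ d => by
    simpa [hh, sq] using heq _ _ (hc' μ) 0 d
  have q₃ := fun ρ => heq _ _ (hc ρ)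
  have t₁ := van_k0 (fun b => (ζ (s b 0)).t) (fun x y => by simpa using at' x 0 y 0)
    (fun b => kt b 0) fun μ => ⟨_, fun b => by rw [q₁]; rfl⟩
  have t₂ := van_k0 (fun d => (ζ (s 0 d)).t) (fun x y => by simpa using at' 0 x 0 y)
    (fun b => kt 0 b) fun μ => ⟨_, fun b => by rw [q₂]; rfl⟩
  have z₁ := van_k0 (fun b => (ζ (s b 0)).z) (fun x y => by simpa using az x 0 y 0)
    (fun b => kz b 0) fun μ => ⟨_, fun b => by rw [q₁]; rfl⟩
  have z₂ := van_k0 (fun d => (ζ (s 0 d)).z) (fun x y => by simpa using az 0 x 0 y)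
    (fun b => kz 0 b) fun μ => ⟨_, fun b => by rw [q₂]; rfl⟩
  have c₁ : ∀ b, (ζ (s b 0)).c = 0 := by
    rcases real_or K with ⟨ν, hν, hν'⟩ | ⟨ρ, hρ, hρ', h3⟩
    · exact van_of_fix _ (fun x y => by simpa using ac x 0 y 0) (β := ν) (χ := 1) (fun b => by
        rw [q₁]; simp [hh, hν]; field_simp) (.inl ⟨hν', rfl⟩)
    · refine van_of_fix _ (fun x y => by simpa using ac x 0 y 0) (β := 1) (χ := (ρ : K)⁻¹)
        (fun b => ?_) (.inr ⟨rfl, fun h => hρ' (inv_eq_one.1 h)⟩)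
      simpa [hρ] using congrArg P.c (q₃ ρ b 0)
  have c₂ : ∀ d, (ζ (s 0 d)).c = 0 := by
    rcases real_or K with ⟨ν, hν, hν'⟩ | ⟨ρ, hρ, hρ', h3⟩
    · exact van_of_fix _ (fun x y => by simpa using ac 0 x 0 y) (β := ν) (χ := 1) (fun b => by
        rw [q₂]; simp [hh, hν]; field_simp) (.inl ⟨hν', rfl⟩)
    · refine van_of_fix _ (fun x y => by simpa using ac 0 x 0 y) (β := 1) (χ := ρ)
        (fun d => ?_) (.inr ⟨rfl, hρ'⟩)
      have h₁ := congrArg P.c (q₃ ρ 0 (ρ * d))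
      have h₂ := congrArg P.c (q₂ ρ d)
      simp [hρ, hh] at h₁ h₂
      rw [h₂] at h₁
      field_simp at h₁
      rw [one_mul]
      linear_combination ρ * h₁ - (ζ (s 0 d)).c * h3
  have := hadd x.b 0 0 x.d
  rw [add_zero, zero_add, ← hs x hx,
    show ζ (s x.b 0) = 1 from P.ext (hw ..).1 (hw ..).2.1 (hw ..).2.2 (c₁ _) (t₁ _) (z₁ _),
    show ζ (s 0 x.d) = 1 from P.ext (hw ..).1 (hw ..).2.1 (hw ..).2.2 (c₂ _) (t₂ _) (z₂ _)] at this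
  rw [e, this]; simp

end Cfsg.Agent.U5
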