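import Cfsg.Agent.Lib.U5.Ext

/-!
Assembly: every saturated system on a Sylow subgroup of `PSU₅(q)` is realizable.
-/

set_option autoImplicit false

namespace Cfsg.Agent.U5

open Cfsg.Agent.Fus Cfsg.Agent.Fus2 Subgroup

universe u v

/-- Realizability passes along isomorphisms of fusion systems (in any universes). -/
theorem real_of_isoM {Ω : Type u} {Ω' : Type v} [Group Ω] [Group Ω'] {S : Subgroup Ω}
    {S' : Subgroup Ω'} {F : FusionSystem S} {F' : FusionSystem S'} {a : Ω → Ω'} {b : Ω' → Ω}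
    {p : ℕ} [Fact p.Prime] (h : IsoM F F' a b) (hr : F'.IsRealizable p) : F.IsRealizable p := by
  obtain ⟨G, _, _, ι, hι, T, hT⟩ := hr
  obtain ⟨b', hb⟩ := Asch.realized_isoM hι
  obtain ⟨⟨h1, h2⟩, h3⟩ := (h.trans hb).isRealizedBy
  generalize (h.trans hb).hom.toHom = κ at h1 h2 h3
  let e : G ≃* Shrink.{u} G := Shrink.mulEquiv.symm
  refine ⟨Shrink.{u} G, inferInstance, Finite.of_equiv _ e.toEquiv, e.toMonoidHom.comp κ,
    ⟨e.injective.comp h1, fun P hP φ hφ => ?_⟩,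
    T.mapSurjective (f := e.toMonoidHom) e.surjective, ?_⟩
  · rw [h2 P hP φ hφ]
    constructor
    · rintro ⟨g, hg⟩
      exact ⟨e g, fun x => by simp [hg x]⟩
    · rintro ⟨g, hg⟩
      exact ⟨e.symm g, fun x => e.injective (by simpa using hg x)⟩
  · exact (Sylow.coe_mapSurjective _ T).trans (by rw [hT, ← h3, MonoidHom.map_range])

variable {K : Type v} [Field K] [Fintype K] [Uf K]

theorem dg_mul (l m l' m' : Kˣ) (σ σ' : K ≃+* K) : dg l m σ * dg l' m' σ' =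
    dg (l * Units.map (σ : K →* K) l') (m * Units.map (σ : K →* K) m') (σ'.trans σ) := by
  ext x <;> simp [map_star'] <;> ring

theorem dg_one : dg 1 1 (RingEquiv.refl K) = 1 := by ext x <;> simp

theorem dg_inv (l m : Kˣ) (σ : K ≃+* K) : (dg l m σ)⁻¹ = dg (Units.map (σ.symm : K →* K) l⁻¹)
    (Units.map (σ.symm : K →* K) m⁻¹) σ.symm := by
  rw [inv_eq_iff_mul_eq_one, dg_mul, ← dg_one]
  congr 1
  · ext; simp
  · ext; simp
  · ext; simp

theorem dg_eq_one {l m : Kˣ} {σ : K ≃+* K} (ha : ∀ a : K, l * σ a = a) (hb : (m : K) = 1) :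
    dg l m σ = 1 := by
  have hl : (l : K) = 1 := by simpa using ha 1
  have hσ : ∀ a, σ a = a := fun a => by simpa [hl] using ha a
  ext x <;> simp [hl, hb, hσ]

/-- The diagonal-field automorphisms in `F`. -/
def HF (F : FusionSystem (⊤ : Subgroup (P K))) : Subgroup (MulAut (P K)) where
  carrier := {h | (∃ l m σ, h = dg l m σ) ∧ M F ⊤ h}
  one_mem' := ⟨⟨1, 1, _, dg_one.symm⟩, M_id F le_rfl⟩
  mul_mem' := by
    rintro _ _ ⟨⟨l, m, σ, rfl⟩, h⟩ ⟨⟨l', m', σ', rfl⟩, h'⟩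
    exact ⟨⟨_, _, _, dg_mul ..⟩, h'.comp h fun _ _ => trivial⟩
  inv_mem' := by
    rintro _ ⟨⟨l, m, σ, rfl⟩, h⟩
    refine ⟨⟨_, _, _, dg_inv ..⟩, ?_⟩
    obtain ⟨g, hg, -, e, -⟩ := h.inv' (h.img_eq_self fun _ _ => trivial)
    exact hg.congr fun x _ => by simpa using e ((dg l m σ)⁻¹ x) trivial

variable {p : ℕ} [hp : Fact p.Prime] [CharP K p] {F : FusionSystem (⊤ : Subgroup (P K))}

theorem not_dvd_HF (hF : F.IsSaturated p) : ¬ p ∣ Nat.card (HF F) := fun hd => by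
  haveI : Finite (MulAut (P K)) := Finite.of_injective (fun α : MulAut (P K) => (α : P K → P K))
    DFunLike.coe_injective
  obtain ⟨⟨_, ⟨l, m, σ, rfl⟩, h⟩, ho⟩ := exists_prime_orderOf_dvd_card' p hd
  rw [← orderOf_coe] at ho
  let c := MulAut.congr (topEquiv (G := P K)).symm
  have hα : c (dg l m σ) ∈ F.autGroup ⊤ := h.mem_autGroup fun x hx => by
    rw [afn_apply _ hx]; rfl
  have hT := sat_sylow_top (pg_top K p) hF
  have hz : IsPGroup p (zpowers (c (dg l m σ))) := IsPGroup.of_card (n := 1) (by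
    rw [Nat.card_zpowers, MulEquiv.orderOf_eq, pow_one]; exact ho)
  haveI := innNormal (⊤ : Subgroup (P K))
  obtain ⟨g, hg⟩ := (hT.eq_of_le (hT.isPGroup.to_sup_of_normal_left hz) le_sup_left
    (sup_le hT.le (zpowers_le.2 hα))).le (mem_sup_right (mem_zpowers _))
  have e : ∀ y, dg l m σ y = g * y * (g : P K)⁻¹ := fun y => by
    have := congrArg Subtype.val (DFunLike.congr_fun hg ⟨y, mem_top y⟩)
    exact this.symm
  have h1 : dg l m σ = 1 := dg_eq_one (fun a => by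
    obtain ⟨y, rfl, -⟩ := exists_elt a 0 0 (0 : K)
    rw [← dg_a l m, e, conj_a]) (by
    obtain ⟨y, -, hy, -⟩ := exists_elt 0 1 0 (0 : K)
    have := congrArg P.b (e y)
    simpa [hy] using this)
  simp only [h1, orderOf_one] at ho
  exact hp.out.one_lt.ne ho

theorem le_of_cmp (h12 : Ess12Stmt.{v}) (h3 : Ess3Stmt.{v}) (hC : CmpStmt.{v})
    {F' : FusionSystem (⊤ : Subgroup (P K))} (hF : F.IsSaturated p) (hF' : F'.IsSaturated p)
    (hN : NF F) (h : ∀ f, M F ⊤ f ↔ M F' ⊤ f) (m₁ : Mv1 F) (m₂ : Mv2 F) (m₁' : Mv1 F')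
    (m₂' : Mv2 F') : F ≤ F' := by
  obtain ⟨c₁, c₂⟩ := hC hF hF' hN h m₁ m₂ m₁' m₂'
  refine alperin_le (pg_top K p) hF ?_
  rintro E (rfl | hE)
  · exact fun α hα => ((h _).1 (M_afn le_rfl hα)).mem_autGroup fun _ _ => rfl
  by_cases hW : W K ≤ E
  · obtain rfl := h3 hF hE hW
    exact fun α hα => (c₂ _ (au_afn hα)).mem_autGroup fun _ _ => rfl
  · obtain rfl := h12 hF hE hW
    exact fun α hα => (c₁ _ (au_afn hα)).mem_autGroup fun _ _ => rfl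

theorem real_NF (h12 : Ess12Stmt.{v}) (h3 : Ess3Stmt.{v}) (h₁ : L1Stmt.{v}) (h₂ : L2Stmt.{v})
    (hC : CmpStmt.{v}) (hM : ModelStmt.{v}) (hF : F.IsSaturated p) (hN : NF F) :
    F.IsRealizable p := by
  by_contra hex
  obtain ⟨m₁, m₂⟩ : Mv1 F ∧ Mv2 F := by
    obtain ⟨E₁, E₂, e₁, e₂, hne⟩ := SP4.two_ess (pg_top K p) hF hex
    by_cases w₁ : W K ≤ E₁ <;> by_cases w₂ : W K ≤ E₂
    · exact absurd ((h3 hF e₂ w₂).trans (h3 hF e₁ w₁).symm) hne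
    · exact ⟨mv1_of_ess hF (h12 hF e₂ w₂ ▸ e₂), mv2_of_ess hF (h3 hF e₁ w₁ ▸ e₁)⟩
    · exact ⟨mv1_of_ess hF (h12 hF e₁ w₁ ▸ e₁), mv2_of_ess hF (h3 hF e₂ w₂ ▸ e₂)⟩
    · exact absurd ((h12 hF e₂ w₂).trans (h12 hF e₁ w₁).symm) hne
  obtain ⟨G, _, _, ι, hι, ⟨T, hT⟩, hn, hH, ⟨g₁, hg₁⟩, g₂, hg₂⟩ := hM (p := p) (HF F)
    (fun h hh => hh.1) (not_dvd_HF hF) (fun ρ => ⟨⟨_, _, _, rfl⟩, (h₁ hF hN m₁).1 ρ⟩)
    fun μ => ⟨⟨_, _, _, rfl⟩, (h₂ hF hN m₂).1 μ⟩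
  obtain ⟨b, hb⟩ := exists_gIso (homOn_hom ⊤ ι) (fun _ _ _ _ e => hι e) (S' := T)
    (by rw [img_hom, hT, MonoidHom.range_eq_map])
  obtain ⟨E, hE⟩ := hb.symm.exists_isoM (groupFusionSystem (T : Subgroup G))
  have hI := hE.symm
  have hE' : E.IsSaturated p := hE.saturated T.isPGroup' (group_isSaturated T)
  have key : ∀ Q f, M E Q f ↔ ∃ g, ∀ x ∈ Q, ι (f x) = g * ι x * g⁻¹ := fun Q f => by
    rw [Asch.M_iff_of_realized hI.isRealizedBy.1]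
    simp only [le_top, mem_top, implies_true, true_and, hI.hom.fn_toHom (mem_top _)]
  have hM : ∀ f, M F ⊤ f ↔ M E ⊤ f := fun f => by
    rw [key]
    constructor
    · intro hf
      obtain ⟨x, l, m, σ, e⟩ := hN f hf
      obtain ⟨g, hg⟩ := hH (dg l m σ) ⟨⟨_, _, _, rfl⟩,
        (hf.comp (M_conj F le_rfl (mem_top x⁻¹)) fun _ _ => trivial).congr fun y _ => by
          simp [e, mul_assoc]⟩
      exact ⟨ι x * g, fun y _ => by rw [e, map_mul, map_mul, ← hg, map_inv]; group⟩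
    · rintro ⟨g, hg⟩
      obtain ⟨x, h, hh, e⟩ := hn g fun y => ⟨f y, (hg y trivial).symm⟩
      exact (hh.2.comp (M_conj F le_rfl (mem_top x)) fun _ _ => trivial).congr fun y _ =>
        hι (by rw [hg y trivial, e])
  obtain ⟨x₁, a₁, b₁, d₁, c₁, t₁⟩ := exists_elt 0 0 0 (1 : K)
  obtain ⟨x₂, a₂, b₂, d₂, -⟩ := exists_elt 0 0 1 (0 : K)
  choose! w₁ hw₁ ew₁ aw₁ using hg₁
  choose! w₂ hw₂ ew₂ aw₂ using hg₂
  have n₁ : Mv1 E := ⟨w₁, ⟨(key _ _).2 ⟨g₁, fun x hx => (ew₁ x hx).symm⟩, hw₁⟩, x₁,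
    ⟨a₁, b₁, d₁, t₁ rfl⟩, fun h => one_ne_zero (c₁.symm.trans ((aw₁ x₁ ⟨b₁, t₁ rfl⟩).symm.trans h.1))⟩
  have n₂ : Mv2 E := ⟨w₂, ⟨(key _ _).2 ⟨g₂, fun x hx => (ew₂ x hx).symm⟩, hw₂⟩, x₂,
    ⟨a₂, b₂⟩, fun h => one_ne_zero (d₂.symm.trans ((aw₂ x₂ a₂).symm.trans h.2))⟩
  obtain rfl : F = E := fs_le_antisymm (le_of_cmp h12 h3 hC hF hE' hN hM m₁ m₂ n₁ n₂)
    (le_of_cmp h12 h3 hC hE' hF (fun f hf => hN f ((hM f).2 hf)) (fun f => (hM f).symm) n₁ n₂ m₁ m₂)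
  exact hex ⟨G, _, inferInstance, _, hI.isRealizedBy.1, T, hI.isRealizedBy.2.symm⟩

theorem real_P (h12 : Ess12Stmt.{v}) (h3 : Ess3Stmt.{v}) (hN : NrmStmt.{v}) (h₁ : L1Stmt.{v})
    (h₂ : L2Stmt.{v}) (hC : CmpStmt.{v}) (hM : ModelStmt.{v}) (hF : F.IsSaturated p) :
    F.IsRealizable p := by
  obtain ⟨θ, hθ⟩ := hN hF
  have hG : GIso (⊤ : Subgroup (P K)) ⊤ θ θ.symm := ⟨homOn_hom ⊤ θ.toMonoidHom, fun _ _ => trivial,
    fun _ _ => trivial, fun x _ => θ.symm_apply_apply x, fun x _ => θ.apply_symm_apply x⟩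
  obtain ⟨E, hE⟩ := hG.exists_isoM F
  refine real_of_isoM hE (real_NF h12 h3 h₁ h₂ hC hM (hE.saturated (pg_top K p) hF) fun f hf => ?_)
  have := hE.pull _ f hf
  rw [hG.symm.img_top] at this
  simpa using hθ _ this

theorem s5258_of (h12 : Ess12Stmt.{v}) (h3 : Ess3Stmt.{v}) (hN : NrmStmt.{v}) (h₁ : L1Stmt.{v})
    (h₂ : L2Stmt.{v}) (hC : CmpStmt.{v}) (hM : ModelStmt.{v}) (hY : SylStmt.{v}) {Ω : Type u}
    [Group Ω] {S : Subgroup Ω} [Finite S] (p : ℕ) [Fact p.Prime] (hS : IsPGroup p S)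
    (F : FusionSystem S) (hF : F.IsSaturated p) {K : Type v} [Field K] [Fintype K] [CharP K p]
    (n : ℕ) (hK : Fintype.card K = (p ^ n) ^ 2) (T : Sylow p (PSU 5 K (p ^ n)))
    (e : S ≃* (T : Subgroup (PSU 5 K (p ^ n)))) : F.IsRealizable p := by
  letI : Uf K :=
    { star := fun x => x ^ p ^ n
      star_involutive := fun x => by
        show (x ^ p ^ n) ^ p ^ n = x
        rw [← pow_mul, ← sq, ← hK, FiniteField.pow_card]
      star_mul := fun x y => by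
        show (x * y) ^ p ^ n = y ^ p ^ n * x ^ p ^ n
        rw [mul_pow, mul_comm]
      star_add := fun x y => add_pow_char_pow x y p n
      q := p ^ n
      star_eq := fun _ => rfl
      card_eq := hK }
  obtain ⟨e'⟩ := hY (K := K) T
  let ι : S →* P K := (e.trans e').toMonoidHom
  obtain ⟨b, hb⟩ := exists_gIso (homOn_fn ι) (fn_inj (e.trans e').injective) (S' := ⊤)
    ((img_fn ι).trans (MonoidHom.range_eq_top.2 (e.trans e').surjective))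
  obtain ⟨E, hE⟩ := hb.exists_isoM F
  exact real_of_isoM hE (real_P h12 h3 hN h₁ h₂ hC hM (hE.saturated hS hF))

end Cfsg.Agent.U5
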