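import Cfsg.Agent.Lib.U5.Basic
import Cfsg.Agent.Lib.SP4.OddB1

/-!
Row ESS3: an essential subgroup containing `W` is `Q₂`.
-/

set_option autoImplicit false

namespace Cfsg.Agent.U5

open Cfsg.Agent.Fus Cfsg.Agent.Fus2 Subgroup

universe u v

namespace E3

section Gen

variable {G : Type*} [Group G]

theorem le_relIndex [Finite G] {E B : Subgroup G} {ι : Type*} (x : ι → G) (hx : ∀ i, x i ∈ B)
    (h : ∀ i j, (x i)⁻¹ * x j ∈ E → i = j) : Nat.card ι ≤ E.relIndex B :=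
  Nat.card_le_card_of_injective (fun i => (QuotientGroup.mk ⟨x i, hx i⟩ : B ⧸ E.subgroupOf B))
    fun i j e => h i j (QuotientGroup.eq (s := E.subgroupOf B) (a := ⟨x i, hx i⟩)
      (b := ⟨x j, hx j⟩) |>.1 e)

theorem relIndex_le {C E : Subgroup G} {ι : Type*} [Finite ι] (f : E → ι)
    (h : ∀ e e', f e = f e' → (e : G)⁻¹ * e' ∈ C) : C.relIndex E ≤ Nat.card ι :=
  Nat.card_le_card_of_injective (fun c : E ⧸ C.subgroupOf E => f c.out) fun c c' e => by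
    rw [← QuotientGroup.out_eq' c, ← QuotientGroup.out_eq' c']
    exact QuotientGroup.eq.2 (h _ _ e)

variable {E : Subgroup G}

theorem afn_icj (β : MulAut E) {x g : G} (hx : x ∈ E) (hg : g ∈ E) :
    afn β (x⁻¹ * (g * x * g⁻¹)) = (afn β x)⁻¹ * (afn β g * afn β x * (afn β g)⁻¹) := by
  have h := homOn_afn β
  rw [h.map_mul (inv_mem hx) (mul_mem (mul_mem hg hx) (inv_mem hg)), h.map_inv hx, h.map_conj hg hx]

theorem afn_comm (β : MulAut E) {x y : G} (hx : x ∈ E) (hy : y ∈ E) (e : x * y = y * x) :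
    afn β x * afn β y = afn β y * afn β x := by
  rw [← (homOn_afn β).map_mul hx hy, e, (homOn_afn β).map_mul hy hx]

/-- The largest `A`-invariant subgroup of `E ⊓ X`. -/
def cr (A : Subgroup (MulAut E)) (X : Subgroup G) : Subgroup G where
  carrier := {x | x ∈ E ∧ ∀ β ∈ A, afn β x ∈ X}
  one_mem' := ⟨one_mem _, fun β _ => by rw [(homOn_afn β).map_one]; exact one_mem _⟩
  mul_mem' := fun {x y} hx hy => ⟨mul_mem hx.1 hy.1, fun β hβ => by
    rw [(homOn_afn β).map_mul hx.1 hy.1]; exact mul_mem (hx.2 β hβ) (hy.2 β hβ)⟩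
  inv_mem' := fun {x} hx => ⟨inv_mem hx.1, fun β hβ => by
    rw [(homOn_afn β).map_inv hx.1]; exact inv_mem (hx.2 β hβ)⟩

theorem cr_inv {A : Subgroup (MulAut E)} {X : Subgroup G} :
    ∀ β ∈ A, ∀ x ∈ E, x ∈ cr A X → afn β x ∈ cr A X := fun β hβ x hx h =>
  ⟨afn_mem β hx, fun γ hγ => by rw [← afn_mul]; exact h.2 _ (mul_mem hγ hβ)⟩

theorem cr_le {A : Subgroup (MulAut E)} {X : Subgroup G} : cr A X ≤ X := fun x h => by
  simpa using h.2 1 (one_mem _)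

theorem inv_of_inv [Finite G] {X : Subgroup G} {β : MulAut E}
    (h : ∀ x ∈ X, afn β⁻¹ x ∈ X) : ∀ x ∈ X, afn β x ∈ X := fun x hx => by
  obtain ⟨y, hy⟩ := Finite.surjective_of_injective (f := fun y : X => (⟨_, h y y.2⟩ : X))
    (fun y y' e => Subtype.ext (afn_injective _ (congrArg Subtype.val e))) ⟨x, hx⟩
  rw [← show afn β⁻¹ y = x from congrArg Subtype.val hy, afn_afn_inv]
  exact y.2

end Gen

/-- The chain lemma with four steps. -/
theorem le_of_chain4 {Ω : Type u} [Group Ω] {S : Subgroup Ω} {F : FusionSystem S}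
    {E : Subgroup Ω} {p : ℕ} [Finite S] [Fact p.Prime] (hS : IsPGroup p S)
    (hE : F.IsEssential p E) {Q D₁ D₂ D₃ : Subgroup Ω} (hQ : Q ≤ S)
    (hn : E ≤ normalizer (Q : Set Ω)) (h12 : D₁ ≤ D₂) (h23 : D₂ ≤ D₃)
    (i₁ : ∀ β ∈ F.autGroup E, ∀ x ∈ E, x ∈ D₁ → afn β x ∈ D₁)
    (i₂ : ∀ β ∈ F.autGroup E, ∀ x ∈ E, x ∈ D₂ → afn β x ∈ D₂)
    (i₃ : ∀ β ∈ F.autGroup E, ∀ x ∈ E, x ∈ D₃ → afn β x ∈ D₃)
    (t₀ : ∀ g ∈ Q, ∀ x ∈ E, x⁻¹ * (g * x * g⁻¹) ∈ D₃)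
    (t₁ : ∀ g ∈ Q, ∀ x ∈ E, x ∈ D₃ → x⁻¹ * (g * x * g⁻¹) ∈ D₂)
    (t₂ : ∀ g ∈ Q, ∀ x ∈ E, x ∈ D₂ → x⁻¹ * (g * x * g⁻¹) ∈ D₁)
    (t₃ : ∀ g ∈ Q, ∀ x ∈ E, x ∈ D₁ → g * x * g⁻¹ = x) : Q ≤ E := by
  refine le_of_conjAut_mem_autCore hS hE.1 (isRadical_of_isEssential hS hE) hQ hn fun g hg hN => ?_
  refine mem_autCore_of_chain' hS hE.1.1 (fun i => if i = 0 then ⊥ else if i = 1 then D₁ else
    if i = 2 then D₂ else if i = 3 then D₃ else ⊤) 4 ?_ ?_ rfl ?_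
    (conjAut_mem_autGroup hE.1.1 (hQ hg) hN) ?_
  · intro i hi
    interval_cases i <;> simp [h12, h23]
  · simp
  · intro β hβ i hi x hx hxi
    interval_cases i
    · simp only [if_true, mem_bot] at hxi ⊢
      rw [hxi]; exact (homOn_afn β).map_one
    · exact i₁ β hβ x hx hxi
    · exact i₂ β hβ x hx hxi
    · exact i₃ β hβ x hx hxi
    · simp
  · intro i hi x hx hxi
    rw [afn_conjAut hN hx]
    interval_cases i
    · simp only [if_true, mem_bot]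
      rw [t₃ g hg x hx hxi, inv_mul_cancel]
    · exact t₂ g hg x hx hxi
    · exact t₁ g hg x hx hxi
    · exact t₀ g hg x hx

variable {K : Type v} [Field K] [Fintype K] [Uf K]

theorem card_lt : Nat.card (kf K) < Nat.card K := by
  have := two_le_q K
  rw [card_kf, card_K]
  nlinarith

theorem mem_Q2_of {x : P K} (h : ∀ y ∈ Z2 K, x * y = y * x) : x ∈ Q2 K := by
  obtain ⟨j, hj⟩ := exists_star_ne K
  have := (commute_iff.1 (h (xw (j * x.a) 0 0 (by simp) (by simp)) (by simp [mem_Z2, xw]))).2.2.2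
  simp only [xw, star_mul', star_zero] at this
  have e : x.a * star x.a * (star j - j) = 0 := by linear_combination this
  rcases mul_eq_zero.1 ((mul_eq_zero.1 e).resolve_right (sub_ne_zero.2 hj)) with h | h
  · exact h
  · exact star_eq_zero.1 h

/-- Elements of the centre are commutators of `x` with elements of `Z₂`. -/
theorem exists_icj_Z {x z : P K} (hx : x.a ≠ 0) (hz : z ∈ Z K) :
    ∃ y ∈ Z2 K, y⁻¹ * (x * y * x⁻¹) = z := by
  obtain ⟨e, he⟩ := exists_trace (K := K) (y := 1) (star_one K)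
  have hs : star x.a ≠ 0 := star_ne_zero.2 hx
  have h₁ := z.star_z
  obtain ⟨h₂, h₃, h₄, h₅, h₆⟩ := hz
  refine ⟨xw (e * z.z / star x.a) 0 0 (by simp) (by simp), by simp [mem_Z2, xw], ?_⟩
  ext
  · rw [icj_a, h₂]
  · rw [icj_b, h₃]
  · rw [icj_d]; simp [xw, h₄]
  · rw [icj_c]; simp [xw, h₆]
  · rw [icj_t]; simp [xw, h₅]
  · simp only [h₂, h₄, h₆, zero_mul, sub_zero] at h₁
    simp [xw, x.star_t, x.star_z, h₁]
    field_simp
    linear_combination z.z * he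

/-- Elements of the centre are commutators in `Z₃`. -/
theorem exists_icj_Z3 {z : P K} (hz : z ∈ Z K) :
    ∃ x ∈ Z3 K, ∃ y ∈ Z3 K, y⁻¹ * (x * y * x⁻¹) = z := by
  obtain ⟨e, he⟩ := exists_trace (K := K) (y := 1) (star_one K)
  have h₁ := z.star_z
  obtain ⟨h₂, h₃, h₄, h₅, h₆⟩ := hz
  obtain ⟨x, a₁, a₂, a₃, a₄, a₅⟩ := exists_elt (K := K) 0 0 1 0
  obtain ⟨y, b₁, b₂, b₃, b₄, b₅⟩ := exists_elt (K := K) 0 0 (e * z.z) 0
  refine ⟨x, ⟨a₁, a₂⟩, y, ⟨b₁, b₂⟩, ?_⟩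
  ext
  · rw [icj_a, h₂]
  · rw [icj_b, h₃]
  · rw [icj_d]; simp [a₁, b₁, h₄]
  · rw [icj_c]; simp [a₁, b₁, a₂, b₂, h₆]
  · rw [icj_t]; simp [a₂, b₂, h₅]
  · simp only [h₂, h₄, h₆, zero_mul, sub_zero] at h₁
    simp [x.star_z, y.star_z, a₁, a₂, a₃, a₄, b₁, b₂, b₃, b₄, h₁]
    linear_combination z.z * he

section Main

variable {p : ℕ} [Fact p.Prime] [CharP K p] {F : FusionSystem (⊤ : Subgroup (P K))}
  (hF : F.IsSaturated p) {E : Subgroup (P K)} (hE : F.IsEssential p E) (hW : W K ≤ E)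
include hF hE hW

theorem partA (hQ : QfStmt.{v}) (h : E ≤ Q2 K) : E = Q2 K := by
  refine le_antisymm h ?_
  by_cases i : ∀ β ∈ F.autGroup E, ∀ x ∈ E, x ∈ W K → afn β x ∈ W K
  · exact SP4.OB.le_of_chain (pg_top K p) hF hE le_top le_normalizer_of_normal le_rfl i i
      (fun g hg x hx => icj_Q2 hg (h hx))
      (fun g hg x _ hx => by rw [conj_W hx hg, inv_mul_cancel]; exact one_mem _)
      fun g hg x _ hx => conj_W hx hg
  push Not at i
  obtain ⟨β, -, x, hx, hxW, hy⟩ := i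
  set y := afn β x
  have ya : y.a = 0 := h (afn_mem β hx)
  have cy : ∀ e ∈ E, y * e = e * y := fun e he => by
    rw [← afn_afn_inv β e]
    exact afn_comm β hx (afn_mem _ he) (comm_W hxW (h (afn_mem _ he)))
  obtain ⟨r, s, hrs⟩ : ∃ r s, r * y.b + s * y.d = 1 := by
    by_cases hb : y.b = 0
    · exact ⟨0, y.d⁻¹, by simp [show y.d ≠ 0 from fun e => hy ⟨ya, hb, e⟩]⟩
    · exact ⟨y.b⁻¹, 0, by simp [hb]⟩
  have key : ∀ e ∈ E, star (r * e.b + s * e.d) = r * e.b + s * e.d ∧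
      e.b = (r * e.b + s * e.d) * y.b ∧ e.d = (r * e.b + s * e.d) * y.d := fun e he => by
    obtain ⟨-, h₁, h₂, h₃⟩ := commute_iff.1 (cy e he)
    have ea : e.a = 0 := h he
    simp only [ya, ea, zero_mul, zero_sub, star_zero, mul_zero, add_zero] at h₂ h₃
    have h₄ := congrArg star h₂
    have h₅ := congrArg star hrs
    simp only [star_neg, star_add, star_mul', star_star, star_one] at h₄ h₅
    have det : y.d * e.b = e.d * y.b := by
      linear_combination (-(y.d * e.b - e.d * y.b)) * h₅ - star r * y.b * h₂ -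
        star r * y.d * h₁ - star s * y.d * h₄ + star s * y.b * h₃
    have m₁ : e.b = (r * e.b + s * e.d) * y.b := by linear_combination -e.b * hrs + s * det
    have m₂ : e.d = (r * e.b + s * e.d) * y.d := by linear_combination -e.d * hrs - r * det
    refine ⟨?_, m₁, m₂⟩
    simp only [star_add, star_mul']
    linear_combination (-(star r * star e.b + star s * star e.d)) * hrs +
      (r * e.b + s * e.d) * h₅ + star r * r * h₁ - star r * s * h₂ + star s * r * h₄ +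
        star s * s * h₃
  by_contra hne
  obtain ⟨g, hg, hgE⟩ := SetLike.not_le_iff_exists.1 hne
  have h₁ := hQ (pg_top K p) hF hE (B := Q2 K) le_top (fun g hg e he => hW (icj_Q2 hg (h he)))
    (fun g hg e he g' hg' => (comm_W (icj_Q2 hg (h he)) hg').symm) g hg hgE
  have h₂ := relIndex_le (C := centralizer {g}) (E := E) (ι := kf K)
    (fun e => ⟨_, (key e e.2).1⟩) fun e e' he => by
      have he : r * e.1.b + s * e.1.d = r * e'.1.b + s * e'.1.d := congrArg Subtype.val he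
      have ea : e.1.a = 0 := h e.2
      have ea' : e'.1.a = 0 := h e'.2
      refine mem_centralizer_singleton_iff.2 (comm_W ⟨by simp [ea, ea'], ?_, ?_⟩ hg)
      · rw [P.mul_b, P.inv_b, (key _ e.2).2.1, (key _ e'.2).2.1, he]; ring
      · rw [P.mul_d, P.inv_d, P.inv_a, ea, (key _ e.2).2.2, (key _ e'.2).2.2, he]; ring
  choose xs x₁ x₂ x₃ x₄ x₅ using fun t : K => exists_elt 0 (-s * t) (r * t) (0 : K)
  have h₃ := le_relIndex (E := E) (B := Q2 K) xs x₁ fun i j he => by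
    obtain ⟨-, m₁, m₂⟩ := key _ he
    simp only [P.mul_b, P.inv_b, P.mul_d, P.inv_d, P.inv_a, x₁, x₂, x₃] at m₁ m₂
    linear_combination (i - j) * -hrs + y.d * m₁ - y.b * m₂
  exact (h₃.trans (h₁.trans h₂)).not_gt card_lt

omit hF hE in
theorem icj_comm (β : MulAut E) {y y' g : P K} (hy : y ∈ W K) (hy' : y' ∈ W K) (hg : g ∈ E) :
    (afn β y)⁻¹ * (g * afn β y * g⁻¹) * afn β y' =
      afn β y' * ((afn β y)⁻¹ * (g * afn β y * g⁻¹)) := by
  have hm : y⁻¹ * (afn β⁻¹ g * y * (afn β⁻¹ g)⁻¹) ∈ W K :=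
    mul_mem (inv_mem hy) (Normal.conj_mem inferInstance _ hy _)
  have := afn_comm β (hW hm) (hW hy') (comm_W hm (W_le_Q2 hy'))
  rwa [afn_icj β (hW hy) (afn_mem _ hg), afn_afn_inv] at this

omit hF hE in
theorem inv_two (h2 : (2 : K) = 0) (β : MulAut E) : ∀ y ∈ W K, afn β y ∈ W K := by
  have inv : ∀ β : MulAut E, ∀ y ∈ W K, (afn β y).b = 0 ∧ ((afn β y).a = 0 → afn β y ∈ W K) :=
    fun β y hy => by
      have e : afn β y * afn β y = 1 := by
        rw [← (homOn_afn β).map_mul (hW hy) (hW hy), ← (homOn_afn β).map_one]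
        congr 1
        ext <;> simp [hy.1, hy.2.1, hy.2.2, ← two_mul, h2]
      have e₁ := congrArg P.t e
      have e₂ := congrArg P.z e
      simp only [P.mul_t, P.one_t, ← two_mul, h2, zero_mul, zero_sub,
        neg_eq_zero, mul_eq_zero, star_eq_zero, or_self] at e₁
      refine ⟨e₁, fun ha => ⟨ha, e₁, ?_⟩⟩
      simpa [ha, ← two_mul, h2] using e₂
  by_contra hn
  have hn' : ¬ ∀ y ∈ W K, afn β⁻¹ y ∈ W K := fun h => hn (inv_of_inv h)
  push Not at hn hn'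
  obtain ⟨y₀, hy₀, hu₀⟩ := hn
  obtain ⟨y', hy', hu'⟩ := hn'
  have a₀ : (afn β y₀).a ≠ 0 := fun e => hu₀ ((inv β _ hy₀).2 e)
  have a' : (afn β⁻¹ y').a ≠ 0 := fun e => hu' ((inv _ _ hy').2 e)
  have neg : ∀ x : K, -x = x := fun x => by linear_combination -x * h2
  have real : ∀ y ∈ W K, star ((afn β y).a / (afn β y₀).a) = (afn β y).a / (afn β y₀).a :=
    fun y hy => by
      have hm : xw 0 1 0 (by simp [neg]) (by simp) ∈ W K := ⟨rfl, rfl, rfl⟩
      have h₁ := (commute_iff.1 (icj_comm hW β hy₀ hy (hW hm))).2.2.2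
      rw [icj_a, icj_b, icj_d, icj_c, icj_t] at h₁
      simp [(inv β _ hy₀).1] at h₁
      have : star (afn β y₀).a ≠ 0 := star_ne_zero.2 a₀
      rw [star_div₀]
      field_simp
      linear_combination h₁
  obtain ⟨j, hj⟩ := exists_star_ne K
  let ys : K → P K := fun x => xw (x * j * (afn β⁻¹ y').a) (x + star x) 0
    (by simp [neg, add_comm]) (by simp)
  have hys : ∀ x, ys x ∈ W K := fun x => ⟨rfl, rfl, rfl⟩
  refine (Nat.card_le_card_of_injective (fun x => (⟨_, real _ (hys x)⟩ : kf K))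
    fun x x' e => ?_).not_gt card_lt
  have e : (afn β (ys x)).a = (afn β (ys x')).a := (div_left_inj' a₀).1 (congrArg Subtype.val e)
  have hm := mul_mem (inv_mem (hys x)) (hys x')
  have h₁ : afn β ((ys x)⁻¹ * ys x') ∈ Q2 K := by
    rw [(homOn_afn β).map_mul (hW (inv_mem (hys x))) (hW (hys x')),
      (homOn_afn β).map_inv (hW (hys x))]
    simp [mem_Q2, e]
  have h₂ := afn_comm β⁻¹ (hW hy') (afn_mem β (hW hm)) (comm_W hy' h₁)
  rw [afn_inv_afn] at h₂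
  obtain ⟨-, -, h₃, h₄⟩ := commute_iff.1 h₂
  simp only [ys, P.mul_a, P.mul_b, P.mul_c, P.mul_d, P.mul_t, P.inv_a, P.inv_b, P.inv_c, P.inv_d,
    P.inv_t, xw_a, xw_b, xw_c, xw_d, xw_t, star_add, star_star, star_zero, star_neg, star_sub,
    star_mul'] at h₃ h₄
  have h₅ : star x = star x' + x' - x := by
    apply mul_left_cancel₀ a'
    linear_combination h₃ - (afn β⁻¹ y').a * (star x' + x') * h2
  rw [h₅] at h₄
  have : (afn β⁻¹ y').a * star (afn β⁻¹ y').a * ((star j - j) * (x - x')) = 0 := by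
    linear_combination h₄ +
      (afn β⁻¹ y').a * star (afn β⁻¹ y').a * j * (x' - x) * h2
  exact sub_eq_zero.1 ((mul_eq_zero.1 ((mul_eq_zero.1 this).resolve_left
    (mul_ne_zero a' (star_ne_zero.2 a')))).resolve_left (sub_ne_zero.2 hj))

theorem inv_odd (h2 : (2 : K) ≠ 0) {e₀ : P K} (he₀ : e₀ ∈ E) (ha₀ : e₀.a ≠ 0) :
    ∀ β ∈ F.autGroup E, ∀ y ∈ W K, afn β y ∈ W K := by
  obtain ⟨i, hi, hi'⟩ := exists_k0_ne K
  have hm : xw 0 i 0 hi' (by simp) ∈ W K := ⟨rfl, rfl, rfl⟩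
  have key : ∀ u : P K, u⁻¹ * (xw 0 i 0 hi' (by simp) * u * (xw 0 i 0 hi' (by simp))⁻¹) * u =
      u * (u⁻¹ * (xw 0 i 0 hi' (by simp) * u * (xw 0 i 0 hi' (by simp))⁻¹)) → u.a = 0 :=
    fun u h => by
      have h₁ := (commute_iff.1 h).2.2.2
      rw [icj_a, icj_b, icj_d, icj_c, icj_t] at h₁
      simp only [xw_a, xw_b, xw_c, xw_d, xw_t, star_add, star_sub, star_mul', star_zero, star_star,
        hi'] at h₁
      have : u.a * star u.a * (2 * i) = 0 := by linear_combination -h₁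
      simpa [h2, hi] using this
  have s₁ : ∀ β : MulAut E, ∀ y ∈ W K, afn β y ∈ Z3 K := fun β y hy => by
    have ha := key _ (icj_comm hW β hy hy (hW hm))
    have h₁ := (commute_iff.1 (icj_comm hW β hy hy he₀)).2.2.1
    rw [icj_a, icj_b, icj_d, icj_t] at h₁
    exact ⟨ha, by simpa [ha, ha₀] using h₁⟩
  have s₂ : ∀ β : MulAut E, ∀ x ∈ E, ∀ y ∈ W K, afn β (y⁻¹ * (x * y * x⁻¹)) ∈ Z2 K :=
    fun β x hx y hy => by
      rw [afn_icj β (hW hy) hx]
      exact icj_mem_Z2 _ (s₁ β y hy)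
  have s₃ : Z3 K ≤ E := SP4.OB.le_of_chain (pg_top K p) hF hE le_top le_normalizer_of_normal
    (D₁ := cr (F.autGroup E) (W K)) (D₂ := cr (F.autGroup E) (Z3 K))
    (fun x hx => ⟨hx.1, fun β hβ => W_le_Z3 (hx.2 β hβ)⟩) cr_inv cr_inv
    (fun g hg x _ => ⟨hW (Z2_le_W (icj_mem_Z2' hg x)), fun β _ =>
      s₁ β _ (Z2_le_W (icj_mem_Z2' hg x))⟩)
    (fun g hg x _ hx => ⟨hW (Z2_le_W (icj_mem_Z2' hg x)), fun β _ => by
      obtain ⟨y, hy, e⟩ := exists_icj_Z ha₀ (icj_Z3 hg (cr_le hx))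
      rw [← e]
      exact Z2_le_W (s₂ β _ he₀ y (Z2_le_W hy))⟩)
    fun g hg x _ hx => conj_W (cr_le hx) (Z3_le_Q2 hg)
  intro β _ y hy
  obtain ⟨j, hj⟩ := exists_star_ne K
  obtain ⟨g, g₁, g₂, g₃, -⟩ := exists_elt 0 0 (j * (afn β y).d) (0 : K)
  have hg : g ∈ E := s₃ ⟨g₁, g₂⟩
  have s₄ : (afn β⁻¹ g).a = 0 := key _ (by
    have hu := afn_mem β⁻¹ hg
    have hx := mul_mem (inv_mem hu) (mul_mem (mul_mem (hW hm) hu) (inv_mem (hW hm)))
    have := afn_comm β⁻¹ (afn_mem β hx) hg (comm_W (x := afn β _) (by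
      rw [afn_icj β hu (hW hm)]; exact Z2_le_W (icj_mem_Z2' (s₁ β _ hm) _)) g₁)
    rwa [afn_inv_afn] at this)
  have h₁ := afn_comm β (hW hy) (afn_mem _ hg) (comm_W hy s₄)
  rw [afn_afn_inv] at h₁
  obtain ⟨u₁, u₂⟩ := s₁ β y hy
  have h₂ := (commute_iff.1 h₁).2.2.2
  simp only [g₁, g₂, g₃, u₁, u₂, star_zero, star_mul'] at h₂
  have : (afn β y).d * star (afn β y).d * (star j - j) = 0 := by linear_combination h₂
  exact ⟨u₁, u₂, by simpa [sub_ne_zero.2 hj] using this⟩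

theorem partB {e₀ : P K} (he₀ : e₀ ∈ E) (ha₀ : e₀.a ≠ 0) : False := by
  have iW : ∀ β ∈ F.autGroup E, ∀ y ∈ W K, afn β y ∈ W K := by
    by_cases h2 : (2 : K) = 0
    · exact fun β _ => inv_two hW h2 β
    · exact inv_odd hF hE hW h2 he₀ ha₀
  have hQ : Q2 K ≤ E := SP4.OB.le_of_chain (pg_top K p) hF hE le_top le_normalizer_of_normal
    W_le_Q2 (fun β hβ x _ => iW β hβ x)
    (fun β hβ x hx hxQ => mem_Q2_of fun y hy => by
      have hy' := iW _ (inv_mem hβ) y (Z2_le_W hy)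
      have := afn_comm β hx (hW hy') (comm_W hy' hxQ).symm
      rwa [afn_afn_inv] at this)
    (fun g _ x _ => Z3_le_Q2 (icj_mem_Z3 g x)) (fun g hg x _ hx => icj_Q2 hg hx)
    fun g hg x _ hx => conj_W hx hg
  have i₃ : ∀ β ∈ F.autGroup E, ∀ x ∈ Z3 K, afn β x ∈ Z3 K := fun β hβ x hx => by
    obtain ⟨g, g₁, g₂, -⟩ := exists_elt 0 (x.d / e₀.a) 0 (0 : K)
    have hw : (g⁻¹ * (e₀ * g * e₀⁻¹))⁻¹ * x ∈ W K := by
      refine ⟨?_, ?_, ?_⟩
      · rw [P.mul_a, P.inv_a, icj_a, hx.1]; ring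
      · rw [P.mul_b, P.inv_b, icj_b, hx.2]; ring
      · rw [P.mul_d, P.inv_d, P.inv_a, icj_a, icj_b, icj_d, g₁, g₂]; field_simp; ring
    rw [← mul_inv_cancel_left (g⁻¹ * (e₀ * g * e₀⁻¹)) x,
      (homOn_afn β).map_mul (hQ (Z3_le_Q2 (icj_mem_Z3 _ _))) (hW hw), afn_icj β (hQ g₁) he₀]
    exact mul_mem (icj_mem_Z3 _ _) (W_le_Z3 (iW β hβ _ hw))
  have i₁ : ∀ β ∈ F.autGroup E, ∀ x ∈ Z K, afn β x ∈ Z K := fun β hβ z hz => by
    obtain ⟨x, hx, y, hy, rfl⟩ := exists_icj_Z3 hz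
    rw [afn_icj β (hQ (Z3_le_Q2 hy)) (hQ (Z3_le_Q2 hx))]
    exact icj_Z3 (i₃ β hβ x hx) (i₃ β hβ y hy)
  have i₂ : ∀ β ∈ F.autGroup E, ∀ x ∈ Z2 K, afn β x ∈ Z2 K := fun β hβ y hy => by
    have h₁ := i₁ β hβ _ (icj_mem_Z (afn β⁻¹ e₀) hy)
    rw [afn_icj β (hW (Z2_le_W hy)) (afn_mem _ he₀), afn_afn_inv] at h₁
    obtain ⟨u₁, u₂, u₃⟩ := iW β hβ y (Z2_le_W hy)
    have h₂ := h₁.2.2.2.2
    rw [icj_c] at h₂
    exact ⟨u₁, u₂, u₃, by simpa [u₁, u₂, u₃, ha₀] using h₂⟩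
  exact (lt_of_isEssential (pg_top K p) hF hE).not_ge (le_of_chain4 (pg_top K p) hE le_rfl
    le_normalizer_of_normal Z_le_Z2 Z2_le_Z3 (fun β hβ x _ => i₁ β hβ x)
    (fun β hβ x _ => i₂ β hβ x) (fun β hβ x _ => i₃ β hβ x) (fun g _ x _ => icj_mem_Z3 g x)
    (fun g _ x _ hx => icj_mem_Z2 g hx) (fun g _ x _ hx => icj_mem_Z g hx)
    fun g _ x _ hx => conj_Z hx g)

end Main

end E3

theorem ess3 (hQ : QfStmt.{v}) : Ess3Stmt.{v} := by
  intro K _ _ _ p _ _ F hF E hE hW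
  exact E3.partA hF hE hW hQ fun x hx => by_contra fun h => E3.partB hF hE hW hx h

end Cfsg.Agent.U5
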