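import Cfsg.Agent.Lib.U5.QF
import Cfsg.Agent.Lib.U5.Ess3

/-!
Row ESS12: an essential subgroup not containing `W` is `Q₁`.
-/

set_option autoImplicit false
set_option linter.unusedVariables false
set_option linter.unusedSectionVars false

namespace Cfsg.Agent.U5

open Cfsg.Agent.Fus Cfsg.Agent.Fus2 Cfsg.Agent.Ess Subgroup

universe u v

namespace E12

section Gen

variable {G : Type*} [Group G]

theorem pigeon [Finite G] {E B : Subgroup G} {ι : Type*} [Finite ι] (x : ι → G)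
    (hx : ∀ i, x i ∈ B) (h : ∀ i j, (x i)⁻¹ * x j ∈ E → i = j) (hle : E.relIndex B ≤ Nat.card ι)
    {y : G} (hy : y ∈ B) : ∃ i, (x i)⁻¹ * y ∈ E := by
  by_contra hc
  push Not at hc
  have := E3.le_relIndex (E := E) (B := B) (fun o : Option ι => o.elim y x)
    (by rintro (_ | i); exacts [hy, hx i]) (by
      rintro (_ | i) (_ | j) e
      · rfl
      · exact absurd (by simpa using E.inv_mem e) (hc j)
      · exact absurd e (hc i)
      · exact congrArg some (h i j e))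
  rw [Finite.card_option] at this
  omega

theorem relIndex_le_card (C U : Subgroup G) [Finite U] : C.relIndex U ≤ Nat.card U :=
  Nat.le_of_dvd Nat.card_pos (index_dvd_card _)

theorem eq_one_of_relIndex {C U : Subgroup G} [Finite U] (h : Nat.card U ≤ C.relIndex U) {x : G}
    (hx : x ∈ U) (hC : x ∈ C) : x = 1 := by
  have e := (C.subgroupOf U).index_mul_card
  have hp : 0 < Nat.card U := Nat.card_pos
  have h₁ : Nat.card (C.subgroupOf U) ≤ 1 := by
    by_contra hc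
    have : (C.subgroupOf U).index * 2 ≤ Nat.card U := e ▸ Nat.mul_le_mul_left _ (by omega)
    have h' : Nat.card U ≤ (C.subgroupOf U).index := h
    omega
  have : (⟨x, hx⟩ : U) ∈ C.subgroupOf U := hC
  rw [eq_bot_of_card_le _ h₁, mem_bot] at this
  exact congrArg Subtype.val this

theorem comm_of_icj {g x : G} (h : x⁻¹ * (g * x * g⁻¹) = 1) : g * x = x * g := by
  rw [inv_mul_eq_one, eq_mul_inv_iff_mul_eq] at h
  exact h.symm

theorem icj_of_comm {g x : G} (h : g * x = x * g) : x⁻¹ * (g * x * g⁻¹) = 1 := by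
  rw [h]; group

/-- The automorphisms in `A` fixing `Y ∩ E` pointwise. -/
def fx {E : Subgroup G} (A : Subgroup (MulAut E)) (Y : Subgroup G) : Subgroup (MulAut E) where
  carrier := {α | α ∈ A ∧ ∀ y ∈ E, y ∈ Y → afn α y = y}
  one_mem' := ⟨one_mem _, fun y _ _ => afn_one y⟩
  mul_mem' := fun {α β} hα hβ => ⟨mul_mem hα.1 hβ.1, fun y hy h => by
    rw [afn_mul, hβ.2 y hy h, hα.2 y hy h]⟩
  inv_mem' := fun {α} hα => ⟨inv_mem hα.1, fun y hy h => by
    conv_lhs => rw [← hα.2 y hy h]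
    exact afn_inv_afn α y⟩

end Gen

variable {K : Type v} [Field K] [Fintype K] [Uf K] {p : ℕ} [Fact p.Prime] [CharP K p]
  {F : FusionSystem (⊤ : Subgroup (P K))} (hF : F.IsSaturated p) {E : Subgroup (P K)}
  (hE : F.IsEssential p E)
include hE

theorem Z_le : Z K ≤ E := fun z hz =>
  IsCentric_centralizerIn_le hE.1 (Fus.mem_centralizerIn.2 ⟨mem_top _, fun x _ => (comm_Z hz x).symm⟩)

include hF

theorem Z2_le : Z2 K ≤ E := by
  by_contra hn
  have hS := pg_top K p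
  have hZ := Z_le hE
  obtain ⟨Mx, h⟩ := sed_of_ess hS hF hE
  have hb : ∀ α ∈ F.autGroup E, ∀ y ∈ E, y ∈ (⊥ : Subgroup (P K)) → afn α y = y :=
    fun α _ y _ hy => by rw [mem_bot.1 hy]; exact (homOn_afn α).map_one
  have hz : ∀ g : P K, ∀ u ∈ Z K, u⁻¹ * (g * u * g⁻¹) ∈ (⊥ : Subgroup (P K)) :=
    fun g u hu => mem_bot.2 (icj_of_comm (comm_Z hu g).symm)
  obtain ⟨γ, -, -, C, k₁, -, k₂, -⟩ := h.qf_gen hS hE.1 (B := Z2 K) (U := Z K) (Y := ⊥) le_top hn hZ
    hb (fun g hg e _ => icj_mem_Z' hg e) fun g _ u hu => hz g u hu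
  have hq : ∀ x : P K, x.a = 0 → ∀ g ∈ Z2 K, x⁻¹ * (g * x * g⁻¹) ∈ (⊥ : Subgroup (P K)) :=
    fun x hx g hg => mem_bot.2 (icj_of_comm (comm_W (Z2_le_W hg) hx))
  obtain ⟨z₀, hz₀, ha⟩ : ∃ z₀ ∈ Z K, (afn γ⁻¹ z₀).a ≠ 0 := by
    by_contra hc
    push Not at hc
    have : C.relIndex (Z K) = 1 := relIndex_eq_one.2 fun z hz' =>
      k₁ z (hZ hz') (hq z hz'.1) (hq _ (hc z hz'))
    rw [this] at k₂
    exact hn (relIndex_eq_one.1 (le_antisymm k₂ (Nat.one_le_iff_ne_zero.2 index_ne_zero_of_finite)))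
  set w := afn γ⁻¹ z₀
  have hw : ∀ e ∈ E, w * e = e * w := fun e he => by
    rw [← afn_inv_afn γ e]
    exact E3.afn_comm _ (hZ hz₀) (afn_mem _ he) (comm_Z hz₀ _)
  have ha' : star w.a ≠ 0 := star_ne_zero.2 ha
  obtain ⟨ω, hω⟩ := exists_star_ne K
  have rel : ∀ y ∈ E, y ∈ Z2 K → w.a * star y.c = y.c * star w.a := fun y hy h₂ => by
    have := (commute_iff.1 (hw y hy)).2.2.2
    simpa [h₂.1, h₂.2.1, h₂.2.2.1, h₂.2.2.2] using this
  let r : kf K → P K := fun l => xw (l * ω * w.a) 0 0 (by simp) (by simp)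
  have hr : ∀ l, r l ∈ Z2 K := fun l => ⟨rfl, rfl, rfl, rfl⟩
  have rc : ∀ l, ∀ y ∈ Z2 K, ((r l)⁻¹ * y).c = y.c - l * ω * w.a := fun l y hy => by
    simp [r]; ring
  have rinj : ∀ l l', (r l)⁻¹ * r l' ∈ E → l = l' := fun l l' e => by
    have h₁ := rel _ e (mul_mem (inv_mem (hr l)) (hr l'))
    rw [rc l _ (hr l')] at h₁
    simp only [r, xw_c, star_sub, star_mul', mem_kf.1 l.2, mem_kf.1 l'.2] at h₁
    have : w.a * star w.a * (star ω - ω) * ((l' : K) - l) = 0 := by linear_combination h₁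
    exact Subtype.ext (sub_eq_zero.1 ((mul_eq_zero.1 this).resolve_left
      (mul_ne_zero (mul_ne_zero ha ha') (sub_ne_zero.2 hω)))).symm
  have k₃ := E3.le_relIndex r hr rinj
  have hqZ : Nat.card (Z K) = Nat.card (kf K) := by rw [card_Z, card_kf]
  have hC : ∀ x ∈ Z K, x ∈ C → x = 1 := fun x => eq_one_of_relIndex (hqZ ▸ k₃.trans k₂)
  have hZw : ∀ y ∈ Z2 K, w.a * star y.c = y.c * star w.a → y ∈ E := fun y hy e => by
    obtain ⟨l, hl⟩ := pigeon r hr rinj (k₂.trans (hqZ ▸ relIndex_le_card C _)) hy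
    have h₁ := rel _ hl (mul_mem (inv_mem (hr l)) hy)
    rw [rc l _ hy] at h₁
    simp only [star_sub, star_mul', mem_kf.1 l.2] at h₁
    have : w.a * star w.a * (star ω - ω) * (l : K) = 0 := by linear_combination e - h₁
    have hl₀ : (l : K) = 0 := (mul_eq_zero.1 this).resolve_left
      (mul_ne_zero (mul_ne_zero ha ha') (sub_ne_zero.2 hω))
    have : r l = 1 := by ext <;> simp [r, hl₀]
    simpa [this] using hl
  have hcm : ∀ g ∈ E, ∀ e ∈ E, e⁻¹ * (g * e * g⁻¹) ∈ Z K → g * e = e * g := fun g hg e he h₁ =>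
    comm_of_icj (hC _ h₁ (k₁ _ (hZ h₁) (hq _ h₁.1) (hq _ (by
      rw [E3.afn_icj _ he hg, icj_a]))))
  have hy₀ : xw w.a 0 0 (by simp) (by simp) ∈ Z2 K := ⟨rfl, rfl, rfl, rfl⟩
  have real : ∀ e ∈ E, star (e.a / w.a) = e.a / w.a := fun e he => by
    have := (commute_iff.1 (hcm _ (hZw _ hy₀ (by simp)) e he (icj_mem_Z' hy₀ e))).2.2.2
    simp at this
    rw [star_div₀]
    field_simp
    linear_combination this
  by_cases hwb : w.b = 0
  · have hQ : ∀ e ∈ E, e ∈ Qt K := fun e he => by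
      have := (commute_iff.1 (hw e he)).1
      simpa [hwb, ha, mem_Qt] using this
    obtain ⟨-, -, -, C', -, -, k₄, -⟩ := h.qf_gen hS hE.1 (B := Y3 K) (U := Z K) (Y := ⊥) le_top
      (fun hle => hn (Z2_le_Y3.trans hle)) hZ hb (fun g hg e he => icj_Y3 hg (hQ e he))
      fun g _ u hu => hz g u hu
    have ex : ∀ d : K, ∃ y ∈ E, y ∈ Z3 K ∧ y.d = d := fun d => by
      obtain ⟨y, y₁, y₂, y₃, -, y₄⟩ := exists_elt 0 0 d (0 : K)
      obtain ⟨l, hl⟩ := pigeon r (fun l => Z2_le_Y3 (hr l)) rinj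
        (k₄.trans (hqZ ▸ relIndex_le_card C' _)) (y := y) ⟨y₁, y₂, y₄ rfl⟩
      exact ⟨_, hl, mul_mem (inv_mem (Z2_le_Z3 (hr l))) ⟨y₁, y₂⟩, by simp [r, y₃]⟩
    obtain ⟨y, hy, y₁, y₂⟩ := ex 1
    obtain ⟨y', hy', y₁', y₂'⟩ := ex ω
    have := (commute_iff.1 (hcm y hy y' hy' (icj_Z3 y₁ y₁'))).2.2.2
    simp [y₁.1, y₁.2, y₁'.1, y₁'.2, y₂, y₂'] at this
    exact hω this
  have hb' : star w.b ≠ 0 := star_ne_zero.2 hwb
  let B : Subgroup (P K) :=
    { carrier := {y | y ∈ Z3 K ∧ (w.a * y.t + y.d * star w.b) * star w.a =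
        w.a * star (w.a * y.t + y.d * star w.b)}
      one_mem' := ⟨one_mem _, by simp⟩
      mul_mem' := fun {x y} hx hy => ⟨mul_mem hx.1 hy.1, by
        have h₁ := hx.2
        have h₂ := hy.2
        simp only [P.mul_t, P.mul_d, hx.1.1, hx.1.2, star_add, star_mul', star_sub, star_zero,
          star_star] at h₁ h₂ ⊢
        linear_combination h₁ + h₂⟩
      inv_mem' := fun {x} hx => ⟨inv_mem hx.1, by
        have h₁ := hx.2
        simp only [P.inv_t, P.inv_d, hx.1.1, hx.1.2, star_add, star_mul', star_sub, star_zero,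
          star_star, P.star_t, star_neg] at h₁ ⊢
        linear_combination -h₁⟩ }
  have hZB : Z2 K ≤ B := fun y hy => ⟨Z2_le_Z3 hy, by simp [hy.2.2.1, hy.2.2.2]⟩
  obtain ⟨x, hx, hxE⟩ := SetLike.not_le_iff_exists.1 hn
  have k₄ := qf hS hF hE (B := B) le_top (fun g hg e he => hZw _ (icj_mem_Z2' hg.1 e) (by
      have h₁ := hg.2
      have h₂ := (commute_iff.1 (hw e he)).1
      have h₃ := real e he
      obtain ⟨l, hl⟩ : ∃ l, e.a = l * w.a := ⟨e.a / w.a, by field_simp⟩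
      rw [hl, mul_div_cancel_right₀ _ ha] at h₃
      have h₄ : e.b = l * w.b := mul_left_cancel₀ ha (by rw [h₂, hl]; ring)
      rw [icj_c]
      simp only [hg.1.1, hg.1.2, hl, h₄, h₃, star_add, star_mul', star_sub, star_zero,
          star_star] at h₁ ⊢
      linear_combination l * h₁))
    (fun g hg e he g' hg' => (comm_W (Z2_le_W (icj_mem_Z2' hg.1 e)) (Z3_le_Q2 hg'.1)).symm)
    x (hZB hx) hxE
  have k₅ := E3.relIndex_le (C := centralizer {x}) (E := E) (ι := kf K)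
    (fun e => ⟨_, real e e.2⟩) fun e e' he => by
      have he : e.1.a = e'.1.a := (div_left_inj' ha).1 (congrArg Subtype.val he)
      exact mem_centralizer_singleton_iff.2 (comm_W (Z2_le_W hx) (by simp [mem_Q2, he])).symm
  obtain ⟨y, y₁, y₂, y₃, -, y₄⟩ := exists_elt 0 0 (w.a / star w.b) (0 : K)
  have y₅ : y.d * star w.b = w.a := by rw [y₃]; field_simp
  obtain ⟨l, hl⟩ := pigeon r (fun l => hZB (hr l)) rinj (k₄.trans k₅) (y := y)
    ⟨⟨y₁, y₂⟩, by simp [y₄ rfl, y₅]⟩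
  have := (commute_iff.1 (hw _ hl)).2.2.1
  simp [r, y₁, y₂, y₄ rfl, y₅] at this
  exact ha this

theorem main (hW : ¬ W K ≤ E) : E = Q1 K := by
  have hS := pg_top K p
  have hZ := Z_le hE
  have hZ2 := Z2_le hF hE
  obtain ⟨Mx, h₀⟩ := sed_of_ess hS hF hE
  obtain ⟨x, hx, hxE⟩ := SetLike.not_le_iff_exists.1 hW
  have hN : x ∈ normalizer (E : Set (P K)) := mem_normalizer_of_conj_mem fun e he => by
    simpa using E.mul_mem he (hZ2 (icj_mem_Z2' (W_le_Z3 hx) e))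
  have h : SEd p (fx (F.autGroup E) (Z K)) (autInducedBy ⊤ E) (Inn E) Mx := by
    refine h₀.her (fun α hα => ⟨h₀.syl.le hα, fun y hy hy' => ?_⟩) (fun α hα => hα.1) fun hle => ?_
    · obtain ⟨g, -, e⟩ := Fus2.mem_autInducedBy_iff.1 hα
      rw [e y hy, conj_Z hy']
    obtain ⟨γ, hγ, hγ'⟩ := h₀.exists_notMem
    have ha := conjAut_mem_autInducedBy (P := E) (mem_top x) hN
    refine h₀.conj_notMem hγ hγ' ha (fun e => hxE ((mem_iff_conjAut_mem_Inn hE.1 (mem_top x) hN).1 e))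
      (hle ⟨mul_mem (mul_mem hγ (h₀.syl.le ha)) (inv_mem hγ), fun y hy hy' => ?_⟩)
    have : afn γ⁻¹ y ∈ Q2 K := E3.mem_Q2_of fun e he => by
      rw [← afn_inv_afn γ e]
      exact E3.afn_comm _ hy (afn_mem _ (hZ2 he)) (comm_Z hy' _)
    rw [afn_mul, afn_mul, afn_conjAut hN (afn_mem _ hy), comm_W hx this, mul_inv_cancel_right,
      afn_afn_inv]
  have hY : ∀ α ∈ fx (F.autGroup E) (Z K), ∀ y ∈ E, y ∈ Z K → afn α y = y := fun α hα => hα.2
  have iZ : ∀ α ∈ fx (F.autGroup E) (Z K), ∀ y ∈ E, y ∈ Z K → afn α y ∈ Z K :=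
    fun α hα y hy hy' => by rwa [hY α hα y hy hy']
  obtain ⟨y, hy, β, hβ, ha⟩ : ∃ y ∈ Z2 K, ∃ β ∈ fx (F.autGroup E) (Z K), (afn β y).a ≠ 0 := by
    by_contra hc
    push Not at hc
    exact hW (h.le_of_chain hS hE.1 le_top le_normalizer_of_normal
      (D₁ := E3.cr (fx (F.autGroup E) (Z K)) (Q2 K)) le_rfl E3.cr_inv E3.cr_inv
      (fun g hg e _ => ⟨hZ2 (icj_mem_Z2' (W_le_Z3 hg) e), hc _ (icj_mem_Z2' (W_le_Z3 hg) e)⟩)
      (fun g hg e _ he => by rw [icj_of_comm (comm_W hg (E3.cr_le he))]; exact one_mem _)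
      fun g hg e _ he => by rw [comm_W hg (E3.cr_le he), mul_inv_cancel_right])
  set δ := afn β y
  have key : ∀ e ∈ E, e⁻¹ * (δ * e * δ⁻¹) ∈ Z K := fun e he => by
    have h₁ := icj_mem_Z' hy (afn β⁻¹ e)
    have := iZ β hβ _ (hZ h₁) h₁
    rwa [E3.afn_icj _ (afn_mem _ he) (hZ2 hy), afn_afn_inv] at this
  have hD : ∀ e ∈ E, e ∈ Q2 K → e⁻¹ * (x * e * x⁻¹) ∈ Z K := fun e _ he => by
    rw [icj_of_comm (comm_W hx he)]; exact one_mem _
  let f : k0 K → P K := fun s => xw 0 s 0 (mem_k0.1 s.2) (by simp)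
  have hf : ∀ s, f s ∈ W K := fun s => ⟨rfl, rfl, rfl⟩
  have rel : ∀ e ∈ E, e ∈ Z3 K → δ.a * e.t + e.d * star δ.b = 0 := fun e he h₃ => by
    have := (key e he).2.2.2.2
    rw [icj_c] at this
    simpa [h₃.1, h₃.2] using this
  have finj : ∀ s s', (f s)⁻¹ * f s' ∈ E → s = s' := fun s s' e => by
    have := rel _ e (W_le_Z3 (mul_mem (inv_mem (hf s)) (hf s')))
    simp [f, ha, mem_k0.1 s.2] at this
    exact Subtype.ext (by linear_combination -this)
  have hqq : Nat.card (kf K) = Nat.card (k0 K) := by rw [card_kf, card_k0]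
  by_cases hb : δ.b = 0
  · have hQ : ∀ e ∈ E, e.b = 0 := fun e he => by
      have := (key e he).2.2.1
      rw [icj_d] at this
      simpa [hb, ha] using this
    have ht : ∀ e ∈ E, δ.a * e.t = e.a * δ.t := fun e he => by
      have := (key e he).2.2.2.2
      rw [icj_c] at this
      simp only [hb, hQ e he, star_zero] at this
      linear_combination this
    by_cases hdt : δ.t = 0
    · have h₁ : E ≤ Q1 K := fun e he => ⟨hQ e he, by simpa [hdt, ha] using ht e he⟩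
      exact le_antisymm h₁ (h.le_of_chain hS hE.1 le_top le_normalizer_of_normal (D₁ := Z K) le_rfl
        iZ iZ (fun g hg e he => icj_Q1 hg (h₁ he)) (fun g hg e he _ => icj_Q1 hg (h₁ he))
        fun g _ e _ he => conj_Z he g)
    exfalso
    obtain ⟨-, -, -, C, -, -, k₁, k₂⟩ := h.qf_gen hS hE.1 (B := Qt K) (U := Z2 K) (Y := Z K) le_top
      (fun hle => hW ((W_le_Z3.trans Z3_le_Qt).trans hle)) hZ2 hY
      (fun g hg e he => icj_Qt hg (hQ e he)) fun g _ u hu => icj_mem_Z g hu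
    have st : ∀ e ∈ E, star e.t = -e.t := fun e he => by rw [P.star_t, hQ e he]; ring
    have k₃ := E3.relIndex_le (C := Q2 K) (E := E) (ι := k0 K) (fun e => ⟨_, st e e.2⟩)
      fun e e' he => by
        have he : e.1.t = e'.1.t := congrArg Subtype.val he
        have := ht _ (mul_mem (inv_mem e.2) e'.2)
        rw [P.mul_t, P.inv_t, P.inv_b, hQ _ e.2, st _ e.2, he] at this
        simp only [neg_add_cancel, neg_zero, zero_mul, sub_zero, mul_zero] at this
        exact (mul_eq_zero.1 this.symm).resolve_right hdt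
    obtain ⟨ω, hω⟩ := exists_star_ne K
    obtain ⟨u, u₁, u₂, -, -, u₃⟩ := exists_elt (ω * δ.a) 0 0 (0 : K)
    obtain ⟨s, hs⟩ := pigeon f (fun s => Z3_le_Qt (W_le_Z3 (hf s))) finj
      (k₁.trans ((k₂ x (Z3_le_Qt (W_le_Z3 hx)) hxE _ hD).trans k₃)) (y := u) u₂
    have h₁ := ht _ hs
    simp [f, u₁, u₃ rfl, mul_assoc] at h₁
    have h₂ : star (s : K) = ω * δ.t := mul_left_cancel₀ ha (by linear_combination h₁)
    have h₃ := congrArg star h₂
    rw [star_star, star_mul', st _ (afn_mem β (hZ2 hy))] at h₃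
    rw [mem_k0.1 s.2] at h₂
    exact hω (mul_right_cancel₀ hdt (by linear_combination h₂ + h₃))
  exfalso
  have hb' : star δ.b ≠ 0 := star_ne_zero.2 hb
  obtain ⟨-, -, -, C, -, -, k₁, k₂⟩ := h.qf_gen hS hE.1 (B := Z3 K) (U := Z2 K) (Y := Z K) le_top
    (fun hle => hW (W_le_Z3.trans hle)) hZ2 hY
    (fun g hg e he => icj_mem_Z2' hg e) fun g _ u hu => icj_mem_Z g hu
  have real : ∀ e ∈ E, star (e.b / δ.b) = e.b / δ.b := fun e he => by
    have := (key e he).2.2.2.1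
    rw [icj_t] at this
    rw [star_div₀]
    field_simp
    linear_combination -this
  have k₃ := E3.relIndex_le (C := Q2 K) (E := E) (ι := kf K) (fun e => ⟨_, real e e.2⟩)
    fun e e' he => by
      have he : e.1.b = e'.1.b := (div_left_inj' hb).1 (congrArg Subtype.val he)
      have := (key _ (mul_mem (inv_mem e.2) e'.2)).2.2.1
      rw [icj_d, P.mul_b, P.inv_b, he] at this
      simp only [neg_add_cancel, mul_zero, zero_sub, neg_eq_zero] at this
      exact (mul_eq_zero.1 this).resolve_right hb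
  obtain ⟨ω, hω⟩ := exists_trace (star_one K)
  obtain ⟨u, u₁, u₂, u₃, -, u₄⟩ := exists_elt 0 0 (δ.a * ω / star δ.b) (0 : K)
  obtain ⟨s, hs⟩ := pigeon f (fun s => W_le_Z3 (hf s)) finj
    (k₁.trans ((k₂ x (W_le_Z3 hx) hxE _ hD).trans (hqq ▸ k₃))) (y := u) ⟨u₁, u₂⟩
  have h₁ := rel _ hs (mul_mem (inv_mem (W_le_Z3 (hf s))) ⟨u₁, u₂⟩)
  simp [f, u₃, u₄ rfl, hb'] at h₁
  have h₂ : ω = -star (s : K) := mul_left_cancel₀ ha (by linear_combination h₁)
  rw [h₂, star_neg, star_star, mem_k0.1 s.2] at hω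
  exact one_ne_zero (by linear_combination -hω)

end E12

theorem ess12 : Ess12Stmt.{v} := by
  intro K _ _ _ p _ _ F hF E hE hW
  exact E12.main hF hE hW

end Cfsg.Agent.U5
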