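import Cfsg.Agent.Lib.U5.Cmp1

/-!
Generic comparison of automizers generated by a Borel part and one Weyl element.
-/

set_option autoImplicit false

namespace Cfsg.Agent.CmpG

open Cfsg.Agent.Fus Cfsg.Agent.Fus2 Subgroup

/-- Two lifts of the same Weyl element differ by an inner automorphism. -/
theorem cmp_gen {G : Type*} [Group G] [Finite G] {p : ℕ} [hp : Fact p.Prime] (hG : IsPGroup p G)
    {Γ H : Subgroup (MulAut G)} {C : Subgroup G} (hcop : ¬ p ∣ Nat.card H) (hI : Inn G ≤ Γ)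
    (hIC : ∀ g x : G, x⁻¹ * (g * x * g⁻¹) ∈ C) (hN : ∀ α ∈ Γ, TrivOn α ⊤ C → α ∈ Inn G)
    (hC : ∀ h ∈ H, ∀ x ∈ C, h x ∈ C) (hH : H ≤ Γ)
    (hfix : ∀ n, TrivOn n ⊤ C → (∀ h ∈ H, h * n = n * h) → n ∈ Inn G) {w w' : MulAut G}
    (hw' : w' ∈ Γ) (hn : TrivOn (w'⁻¹ * w) ⊤ C) (hw : ∀ h ∈ H, w * h * w⁻¹ ∈ Γ) : w ∈ Γ := by
  haveI : Finite (MulAut G) := Finite.of_injective (fun α : MulAut G => (α : G → G))
    DFunLike.coe_injective
  have hIp : IsPGroup p (Inn G) := hG.of_surjective _ (MonoidHom.rangeRestrict_surjective _)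
  haveI := hIp.isNilpotent
  haveI := innNormal G
  obtain ⟨k, hk⟩ := IsPGroup.iff_card.1 hIp
  obtain ⟨i, hi, hc⟩ := Solv.exists_mul_mem_centralizer (A := H) (N := Inn G)
    le_normalizer_of_normal (hk ▸ (((Nat.Prime.coprime_iff_not_dvd hp.out).2 hcop).symm.pow_right k))
    (.inr inferInstance) (w'⁻¹ * w) fun h hh => hN _ (by
      have := mul_mem (hH hh) (mul_mem (mul_mem (inv_mem hw') (hw _ (inv_mem hh))) hw')
      rwa [show h * (w'⁻¹ * (w * h⁻¹ * w⁻¹) * w') = h * (w'⁻¹ * w) * h⁻¹ * (w'⁻¹ * w)⁻¹ by group]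
        at this) ((hn.conj (fun _ _ => trivial) (hC h hh)).mul le_top (hn.inv le_top))
  have hiC : TrivOn i ⊤ C := by
    obtain ⟨g, rfl⟩ := hi
    exact fun x _ => hIC g x
  have := hfix _ (hiC.mul le_top hn) fun h hh => hc h hh
  rw [show w = w' * i⁻¹ * (i * (w'⁻¹ * w)) by group]
  exact mul_mem (mul_mem hw' (inv_mem (hI hi))) (hI this)

variable {G : Type*} [Group G] {D : Type*} [Group D]

/-- Restriction of an action to an invariant subgroup. -/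
def res (δ : D →* MulAut G) (A : Subgroup G) (h : ∀ x, ∀ y ∈ A, δ x y ∈ A) : D →* MulAut A :=
  MonoidHom.mk' (fun x =>
    { toFun := fun y => ⟨δ x y, h x y y.2⟩
      invFun := fun y => ⟨δ x⁻¹ y, h _ y y.2⟩
      left_inv := fun y => Subtype.ext (by simp)
      right_inv := fun y => Subtype.ext (by simp)
      map_mul' := fun y z => Subtype.ext (by simp) })
    fun x y => MulEquiv.ext fun z => Subtype.ext (by simp)

theorem afn_res {δ : D →* MulAut G} {A : Subgroup G} (h : ∀ x, ∀ y ∈ A, δ x y ∈ A) (x : D) {y : G}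
    (hy : y ∈ A) : afn (res δ A h x) y = δ x y := by rw [afn_apply _ hy]; rfl

theorem not_dvd_units (K : Type*) [Field K] [Fintype K] (p : ℕ) [hp : Fact p.Prime] [CharP K p] :
    ¬ p ∣ Nat.card Kˣ := fun h₁ => by
  rw [Nat.card_units] at h₁
  obtain ⟨n, -, hn⟩ := FiniteField.card K p
  have h₂ : p ∣ Nat.card K := by
    rw [Nat.card_eq_fintype_card, hn]; exact dvd_pow_self p n.ne_zero
  exact hp.out.one_lt.ne' (Nat.dvd_one.1 (by
    have := Nat.dvd_sub h₂ h₁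
    rwa [Nat.sub_sub_self (Nat.card_pos (α := K))] at this))

/-- The comparison for one normal subgroup `A`; `δ` is a torus of order prime to `p`. -/
theorem cmp_side [Finite G] {p : ℕ} [Fact p.Prime] (hG : IsPGroup p G)
    {F F' : FusionSystem (⊤ : Subgroup G)} (δ : D →* MulAut G) (hp : ¬ p ∣ Nat.card D)
    {A U C : Subgroup G} (hU : U ≤ A)
    (hQ : ∀ x, ∀ y ∈ A, δ x y ∈ A) (hC : ∀ x, ∀ y ∈ C, δ x y ∈ C)
    (hIC : ∀ g ∈ A, ∀ x ∈ A, x⁻¹ * (g * x * g⁻¹) ∈ C) (hCU : C ≤ U)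
    (hM : ∀ f, M F ⊤ f ↔ M F' ⊤ f) (hD : ∀ d, M F ⊤ (δ d))
    (hE : ∀ f, (M F A f ∧ ∀ x ∈ A, f x ∈ A) → (∀ x ∈ U, f x ∈ U) →
      ∃ g, M F ⊤ g ∧ ∀ x ∈ A, g x = f x)
    (hE' : ∀ f, (M F' A f ∧ ∀ x ∈ A, f x ∈ A) → (∀ x ∈ U, f x ∈ U) →
      ∃ g, M F' ⊤ g ∧ ∀ x ∈ A, g x = f x)
    (hN : ∀ f, M F ⊤ f → (∀ x ∈ A, x⁻¹ * f x ∈ C) → ∃ g ∈ A, ∀ x ∈ A, f x = g * x * g⁻¹)
    (hfix : ∀ n : G → G, (∀ x ∈ A, ∀ y ∈ A, n (x * y) = n x * n y) → (∀ x ∈ A, x⁻¹ * n x ∈ C) →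
      (∀ d, ∀ x ∈ A, δ d (n x) = n (δ d x)) → ∃ g ∈ A, ∀ x ∈ A, n x = g * x * g⁻¹)
    {w w' : G → G} (hw : M F A w ∧ ∀ x ∈ A, w x ∈ A) (hw' : M F' A w' ∧ ∀ x ∈ A, w' x ∈ A)
    (hww : ∀ x ∈ A, ∀ y ∈ A, w' y = w x → x⁻¹ * y ∈ C)
    (hwU : ∀ d, ∀ y ∈ A, w y ∈ U → w (δ d y) ∈ U)
    (hB : ∀ f, (M F A f ∧ ∀ x ∈ A, f x ∈ A) →
      (∀ x ∈ U, f x ∈ U) ∨ ∃ s, ∀ x ∈ U, w (s * f x * s⁻¹) ∈ U) [A.Normal]
    {f : G → G} (hf : M F A f ∧ ∀ x ∈ A, f x ∈ A) : M F' A f := by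
  have key : ∀ f, (M F A f ∧ ∀ x ∈ A, f x ∈ A) → (∀ x ∈ U, f x ∈ U) → M F' A f := fun f hf h => by
    obtain ⟨g, hg, e⟩ := hE f hf h
    exact (((hM g).1 hg).mono le_top).congr e
  obtain ⟨α, hα, eα⟩ := hw.1.exists_aut' hw.2
  obtain ⟨α', hα', eα'⟩ := hw'.1.exists_aut' hw'.2
  have hαF : α ∈ F'.autGroup A := by
    refine cmp_gen (p := p) (hG.to_subgroup A) (C := C.subgroupOf A)
      (H := (res δ A hQ).range) (fun h => hp (h.trans (card_range_dvd _))) (Inn_le_autGroup le_top)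
      (fun g x => hIC g g.2 x x.2) (fun β hβ h => ?_) ?_ ?_ (fun n hn h => ?_) hα'
      (fun x _ => ?_) ?_
    · have h' : ∀ x ∈ A, x⁻¹ * afn β x ∈ C := fun x hx => by
        rw [afn_apply _ hx]; exact h ⟨x, hx⟩ trivial
      obtain ⟨g, hg, e⟩ := hE' _ ⟨M_afn le_top hβ, fun _ hx => afn_mem β hx⟩ fun x hx => by
        simpa using mul_mem hx (hCU (h' x (hU hx)))
      obtain ⟨s, hs, e'⟩ := hN g ((hM g).2 hg) fun x hx => by rw [e x hx]; exact h' x hx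
      exact Fus2.mem_Inn_iff.2 ⟨s, hs, fun x hx => by rw [← e x hx, e' x hx]⟩
    · rintro _ ⟨d, rfl⟩ x hx
      exact hC d x hx
    · rintro _ ⟨d, rfl⟩
      exact (((hM _).1 (hD d)).mono le_top).mem_autGroup fun x hx => afn_res hQ d hx
    · refine Fus2.mem_Inn_iff.2 (hfix _ (homOn_afn n) (fun x hx => by
        rw [afn_apply _ hx]; exact hn ⟨x, hx⟩ trivial) (fun d x hx => ?_))
      rw [← afn_res hQ d hx, ← afn_res hQ d (afn_mem n hx), ← afn_mul, ← afn_mul, h _ ⟨d, rfl⟩]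
    · refine hww x x.2 _ ((α'⁻¹ * α) x).2 ?_
      rw [← eα' _ ((α'⁻¹ * α) x).2, ← eα x x.2, afn_coe, afn_coe]
      simp
    · rintro _ ⟨d, rfl⟩
      have hd' : res δ A hQ d ∈ F.autGroup A :=
        ((hD d).mono le_top).mem_autGroup fun x hx => afn_res hQ d hx
      refine (key _ ⟨M_afn le_top (mul_mem (mul_mem hα hd') (inv_mem hα)),
        fun _ hx => afn_mem _ hx⟩ fun x hx => ?_).mem_autGroup fun _ _ => rfl
      have hy := afn_mem α⁻¹ (hU hx)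
      rw [afn_mul, afn_mul, afn_res hQ d hy, eα _ (hQ d _ hy)]
      exact hwU d _ hy (by rwa [← eα _ hy, afn_afn_inv])
  rcases hB f hf with h | ⟨s, h⟩
  · exact key f hf h
  have hs : ∀ s : G, ∀ x ∈ A, s * x * s⁻¹ ∈ A := fun s x hx => ‹A.Normal›.conj_mem x hx s
  have h₁ := key (fun x => w (s * f x * s⁻¹)) ⟨(hf.1.comp (M_conj F le_top (mem_top s)) hf.2).comp
    hw.1 fun x hx => hs s _ (hf.2 x hx), fun x hx => hw.2 _ (hs s _ (hf.2 x hx))⟩ h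
  refine ((h₁.comp (M_afn le_top (inv_mem hαF)) fun x hx => hw.2 _ (hs s _ (hf.2 x hx))).comp
    (M_conj F' le_top (mem_top s⁻¹)) fun x hx => afn_mem _ (hw.2 _ (hs s _ (hf.2 x hx)))).congr
    fun x hx => ?_
  rw [← eα _ (hs s _ (hf.2 x hx)), afn_inv_afn]
  group

end Cfsg.Agent.CmpG
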