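import Cfsg.Agent.Lib.U5.Defs
import Cfsg.Agent.Lib.Lie.SpSU

/-!
Field lemmas, elements, normality, commutators and orders in the Sylow subgroup of `SU₅(q)`.
-/

set_option autoImplicit false

namespace Cfsg.Agent.U5

open Subgroup Polynomial

universe u v

section Fld

variable (K : Type v) [Field K] [StarRing K]

/-- The fixed field, as an additive subgroup. -/
def kf : AddSubgroup K where
  carrier := {x | star x = x}
  zero_mem' := star_zero K
  add_mem' := fun {x y} hx hy => by simp_all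
  neg_mem' := fun {x} hx => by simp_all

/-- The elements of trace zero. -/
def k0 : AddSubgroup K where
  carrier := {x | star x = -x}
  zero_mem' := by simp
  add_mem' := fun {x y} hx hy => by simp_all [add_comm]
  neg_mem' := fun {x} hx => by simp_all

variable {K}

theorem mem_kf {x : K} : x ∈ kf K ↔ star x = x := Iff.rfl
theorem mem_k0 {x : K} : x ∈ k0 K ↔ star x = -x := Iff.rfl

end Fld

section Fin

variable {K : Type v} [Field K] [Fintype K] [Uf K]

variable (K) in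
theorem card_K : Nat.card K = Uf.q K ^ 2 := by rw [Nat.card_eq_fintype_card, Uf.card_eq]

variable (K) in
theorem two_le_q : 2 ≤ Uf.q K := by
  have h := Fintype.one_lt_card (α := K)
  rw [Uf.card_eq] at h
  by_contra h'
  have : Uf.q K = 0 ∨ Uf.q K = 1 := by omega
  rcases this with e | e <;> simp [e] at h

theorem card_le_q (e : K) (A : AddSubgroup K) (h : ∀ x ∈ A, star x = e * x) :
    Nat.card A ≤ Uf.q K := by
  classical
  have h2 := two_le_q K
  have hd : (X ^ Uf.q K - C e * X : K[X]).natDegree = Uf.q K := by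
    rw [natDegree_sub_eq_left_of_natDegree_lt] <;> rw [natDegree_X_pow]
    exact lt_of_le_of_lt (natDegree_C_mul_le _ _) (by rw [natDegree_X]; omega)
  have h0 : (X ^ Uf.q K - C e * X : K[X]) ≠ 0 := fun h => by rw [h] at hd; simp at hd; omega
  have : (A : Set K).toFinset.val ⊆ (X ^ Uf.q K - C e * X : K[X]).roots := fun x hx => by
    rw [mem_roots h0, IsRoot, eval_sub, eval_pow, eval_mul, eval_C, eval_X, ← Uf.star_eq,
      h x (by simpa using hx), sub_self]
  have := card_le_degree_of_subset_roots this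
  rw [hd, Set.toFinset_card] at this
  rwa [Nat.card_eq_fintype_card]

/-- The trace. -/
def tr : K →+ K where
  toFun x := x + star x
  map_zero' := by simp
  map_add' x y := by simp only [star_add]; ring

theorem card_aux : Nat.card (k0 K) = Uf.q K ∧ Nat.card (tr (K := K)).range = Uf.q K := by
  have h₁ : Nat.card (k0 K) ≤ Uf.q K := card_le_q (-1) _ fun x hx => by rw [mem_k0.1 hx]; ring
  have h₂ : Nat.card (tr (K := K)).range ≤ Uf.q K := card_le_q 1 _ (by
    rintro _ ⟨x, rfl⟩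
    simp [tr, add_comm])
  have h₃ : (tr (K := K)).ker = k0 K := by
    ext x
    rw [AddMonoidHom.mem_ker, mem_k0]
    exact ⟨fun h => eq_neg_of_add_eq_zero_right (h : x + star x = 0),
      fun h => show x + star x = 0 by rw [h]; ring⟩
  have h₄ := (tr (K := K)).ker.card_mul_index
  rw [AddSubgroup.index_ker, h₃, card_K K] at h₄
  have h2 := two_le_q K
  constructor <;> nlinarith

variable (K) in
theorem card_k0 : Nat.card (k0 K) = Uf.q K := card_aux.1

theorem range_tr : (tr (K := K)).range = kf K :=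
  AddSubgroup.eq_of_le_of_card_ge (by rintro _ ⟨x, rfl⟩; simp [tr, mem_kf, add_comm])
    ((card_aux (K := K)).2 ▸ card_le_q 1 (kf K) fun x hx => by rw [mem_kf.1 hx, one_mul])

variable (K) in
theorem card_kf : Nat.card (kf K) = Uf.q K := range_tr (K := K) ▸ card_aux.2

theorem exists_trace {y : K} (hy : star y = y) : ∃ x : K, x + star x = y := by
  have : y ∈ (tr (K := K)).range := range_tr (K := K) ▸ hy
  exact this

variable (K) in
theorem exists_star_ne : ∃ x : K, star x ≠ x := by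
  by_contra h
  push Not at h
  have h₁ := card_le_q 1 (⊤ : AddSubgroup K) fun x _ => by rw [h, one_mul]
  rw [AddSubgroup.card_top, card_K] at h₁
  have h2 := two_le_q K
  nlinarith

variable (K) in
theorem exists_k0_ne : ∃ t : K, t ≠ 0 ∧ star t = -t := by
  obtain ⟨x, hx⟩ := exists_star_ne K
  exact ⟨star x - x, sub_ne_zero.2 hx, by simp⟩

theorem exists_norm {y : K} (hy : star y = y) : ∃ x : K, x * star x = y := by
  obtain ⟨x, hx⟩ := exists_star_ne K
  exact Lie.exists_norm_eq' (σ := starRingEnd K) (fun x => star_star x) hx hy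

theorem eq_zero_of_real {e : K} (h : ∀ y, star (e * y) = e * y) : e = 0 := by
  by_contra he
  obtain ⟨x, hx⟩ := exists_star_ne K
  exact hx (by simpa [he] using h (e⁻¹ * x))

theorem eq_zero_of_trace {e : K} (h : ∀ y, e * y + star (e * y) = 0) : e = 0 := by
  by_contra he
  obtain ⟨x, hx⟩ := exists_trace (star_one K)
  have := h (e⁻¹ * x)
  rw [mul_inv_cancel_left₀ he, hx] at this
  exact one_ne_zero this

/-- `e y + e' ȳ = 0` for all `y` forces `e = e' = 0`. -/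
theorem eq_zero_of_lin {e e' : K} (h : ∀ y, e * y + e' * star y = 0) : e = 0 ∧ e' = 0 := by
  obtain ⟨x, hx⟩ := exists_star_ne K
  have h₁ := h 1
  have h₂ := h x
  rw [star_one] at h₁
  have : e' = 0 := mul_right_cancel₀ (sub_ne_zero.2 hx) (by linear_combination h₂ - x * h₁)
  exact ⟨by linear_combination h₁ - this, this⟩

/-- Every element is `r + s ω` with `r`, `s` in the fixed field. -/
theorem exists_decomp {ω : K} (hω : star ω ≠ ω) (x : K) :
    ∃ r s : K, star r = r ∧ star s = s ∧ x = r + s * ω := by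
  have h := sub_ne_zero.2 hω
  have h' := sub_ne_zero.2 hω.symm
  refine ⟨(x * star ω - star x * ω) / (star ω - ω), (star x - x) / (star ω - ω), ?_, ?_, ?_⟩
  · simp only [star_div₀, star_sub, star_mul', star_star]; field_simp; ring
  · simp only [star_div₀, star_sub, star_star]; field_simp; ring
  · field_simp; ring

/-- Maps linear over the fixed field. -/
theorem klin (f : K → K) (hadd : ∀ x y, f (x + y) = f x + f y)
    (hsmul : ∀ l x, star l = l → f (l * x) = l * f x) : ∃ f₁ f₂, ∀ x, f x = f₁ * x + f₂ * star x := by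
  obtain ⟨ω, hω⟩ := exists_star_ne K
  have h := sub_ne_zero.2 hω
  refine ⟨(f 1 * star ω - f ω) / (star ω - ω), (f ω - f 1 * ω) / (star ω - ω), fun x => ?_⟩
  obtain ⟨r, s, hr, hs, rfl⟩ := exists_decomp hω x
  have := hsmul r 1 hr
  rw [mul_one] at this
  rw [hadd, this, hsmul s ω hs, star_add, star_mul', hr, hs]
  field_simp; ring

omit [Uf K] in
/-- `D (x y) = A x * B y` with `D` additive forces semilinearity. -/
theorem semilin (A B D : K → K) (hD : ∀ x y, D (x + y) = D x + D y)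
    (h : ∀ x y, D (x * y) = A x * B y) (h₁ : D 1 ≠ 0) : ∃ σ : K ≃+* K,
    (∀ x, A x = A 1 * σ x) ∧ (∀ x, B x = B 1 * σ x) ∧ ∀ x, D x = D 1 * σ x := by
  have e₁ : D 1 = A 1 * B 1 := by rw [← h, mul_one]
  have hA : A 1 ≠ 0 := fun e => h₁ (by rw [e₁, e, zero_mul])
  have hB : B 1 ≠ 0 := fun e => h₁ (by rw [e₁, e, mul_zero])
  have eA : ∀ x, D x = A x * B 1 := fun x => by rw [← h, mul_one]
  have eB : ∀ x, D x = A 1 * B x := fun x => by rw [← h, one_mul]
  let φ : K →+* K :=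
    { toFun := fun x => D x / D 1
      map_one' := div_self h₁
      map_mul' := fun x y => by
        rw [h, eA x, eB y, e₁]; field_simp
      map_zero' := by
        have := hD 0 0
        rw [add_zero] at this
        rw [show D 0 = 0 by linear_combination -this, zero_div]
      map_add' := fun x y => by rw [hD, add_div] }
  refine ⟨RingEquiv.ofBijective φ (Finite.injective_iff_bijective.1 φ.injective), fun x => ?_,
    fun x => ?_, fun x => ?_⟩
  · show A x = A 1 * (D x / D 1)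
    rw [eA x, e₁]; field_simp
  · show B x = B 1 * (D x / D 1)
    rw [eB x, e₁]; field_simp
  · show D x = D 1 * (D x / D 1)
    field_simp

variable (K) in
theorem exists_q_pow (p : ℕ) [hp : Fact p.Prime] [CharP K p] : ∃ n, 1 ≤ n ∧ Uf.q K = p ^ n := by
  obtain ⟨n, -, hn⟩ := FiniteField.card K p
  have : Uf.q K ∣ p ^ (n : ℕ) := hn ▸ Uf.card_eq (K := K) ▸ dvd_pow_self _ two_ne_zero
  obtain ⟨m, -, hm⟩ := (Nat.dvd_prime_pow hp.out).1 this
  refine ⟨m, Nat.pos_of_ne_zero ?_, hm⟩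
  rintro rfl
  have := two_le_q K
  simp [hm] at this

/-- There is an element with prescribed `a, b, d, c` (and `t = 0` if `b = 0`). -/
theorem exists_elt (a b d c : K) :
    ∃ x : P K, x.a = a ∧ x.b = b ∧ x.d = d ∧ x.c = c ∧ (b = 0 → x.t = 0) := by
  obtain ⟨z, hz⟩ := exists_trace (y := -(a * star c + c * star a + d * star d))
    (by simp only [star_neg, star_add, star_mul', star_star]; ring)
  by_cases hb : b = 0
  · exact ⟨⟨a, b, d, c, 0, z, by simp [hb], by linear_combination hz⟩, rfl, rfl, rfl, rfl,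
      fun _ => rfl⟩
  obtain ⟨t, ht⟩ := exists_trace (y := -(b * star b))
    (by simp only [star_neg, star_mul', star_star]; ring)
  exact ⟨⟨a, b, d, c, t, z, by linear_combination ht, by linear_combination hz⟩, rfl, rfl, rfl, rfl,
    fun h => absurd h hb⟩

/-- There is an element with prescribed `a, b, d, c, t`. -/
theorem exists_elt' (a b d c t : K) (ht : t + star t + b * star b = 0) :
    ∃ x : P K, x.a = a ∧ x.b = b ∧ x.d = d ∧ x.c = c ∧ x.t = t := by
  obtain ⟨z, hz⟩ := exists_trace (y := -(a * star c + c * star a + d * star d))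
    (by simp only [star_neg, star_add, star_mul', star_star]; ring)
  exact ⟨⟨a, b, d, c, t, z, ht, by linear_combination hz⟩, rfl, rfl, rfl, rfl, rfl⟩

end Fin

section Elt

variable {K : Type v} [Field K] [StarRing K]

/-- The element of `W` with coordinates `c, t, z`. -/
def xw (c t z : K) (ht : star t = -t) (hz : star z = -z) : P K :=
  ⟨0, 0, 0, c, t, z, by simp [ht], by simp [hz]⟩

@[simp] theorem xw_a (c t z : K) (ht hz) : (xw c t z ht hz).a = 0 := rfl
@[simp] theorem xw_b (c t z : K) (ht hz) : (xw c t z ht hz).b = 0 := rfl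
@[simp] theorem xw_d (c t z : K) (ht hz) : (xw c t z ht hz).d = 0 := rfl
@[simp] theorem xw_c (c t z : K) (ht hz) : (xw c t z ht hz).c = c := rfl
@[simp] theorem xw_t (c t z : K) (ht hz) : (xw c t z ht hz).t = t := rfl
@[simp] theorem xw_z (c t z : K) (ht hz) : (xw c t z ht hz).z = z := rfl

theorem conj_a (g x : P K) : (g * x * g⁻¹).a = x.a := by simp
theorem conj_b (g x : P K) : (g * x * g⁻¹).b = x.b := by simp
theorem conj_d (g x : P K) : (g * x * g⁻¹).d = x.d + g.a * x.b - x.a * g.b := by simp; ring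
theorem conj_t (g x : P K) : (g * x * g⁻¹).t = x.t + x.b * star g.b - g.b * star x.b := by
  simp [P.star_t]; ring
theorem conj_c (g x : P K) : (g * x * g⁻¹).c = x.c + g.a * x.t + x.d * star g.b +
    x.a * star g.t - g.d * star x.b + g.a * x.b * star g.b := by
  simp [P.star_t]; ring

theorem icj_a (g x : P K) : (x⁻¹ * (g * x * g⁻¹)).a = 0 := by simp
theorem icj_b (g x : P K) : (x⁻¹ * (g * x * g⁻¹)).b = 0 := by simp
theorem icj_d (g x : P K) : (x⁻¹ * (g * x * g⁻¹)).d = g.a * x.b - x.a * g.b := by simp; ring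
theorem icj_t (g x : P K) : (x⁻¹ * (g * x * g⁻¹)).t = x.b * star g.b - g.b * star x.b := by
  simp [P.star_t]; ring
theorem icj_c (g x : P K) : (x⁻¹ * (g * x * g⁻¹)).c = g.a * x.t - x.a * g.t + x.d * star g.b -
    g.d * star x.b + g.a * x.b * star g.b - x.a * g.b * star g.b - x.a * x.b * star g.b +
    x.a * g.b * star x.b := by
  simp [P.star_t]; ring

/-- Commuting elements, coordinate by coordinate. -/
theorem commute_iff {x y : P K} : x * y = y * x ↔ x.a * y.b = y.a * x.b ∧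
    x.b * star y.b = y.b * star x.b ∧ x.a * y.t - x.d * star y.b = y.a * x.t - y.d * star x.b ∧
    x.a * (star y.c + star y.a * y.t + star y.d * y.b) -
      x.d * (star y.a * star y.b - star y.d) + x.c * star y.a =
    y.a * (star x.c + star x.a * x.t + star x.d * x.b) -
      y.d * (star x.a * star x.b - star x.d) + y.c * star x.a := by
  rw [P.ext_iff]
  simp only [P.mul_a, P.mul_b, P.mul_c, P.mul_d, P.mul_t, P.mul_z]
  exact ⟨fun ⟨_, _, h₁, h₂, h₃, h₄⟩ => ⟨by linear_combination h₁, by linear_combination -h₃,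
    by linear_combination h₂, by linear_combination -h₄⟩, fun ⟨h₁, h₂, h₃, h₄⟩ =>
    ⟨by ring, by ring, by linear_combination h₁, by linear_combination h₃,
      by linear_combination -h₂, by linear_combination -h₄⟩⟩

instance : (Q2 K).Normal := ⟨fun x hx g => by rw [mem_Q2, conj_a]; exact hx⟩
instance : (Qt K).Normal := ⟨fun x hx g => by rw [mem_Qt, conj_b]; exact hx⟩
instance : (Q1 K).Normal := ⟨fun x hx g => by
  rw [mem_Q1, conj_b, conj_t]; simp [hx.1, hx.2]⟩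
instance : (Z3 K).Normal := ⟨fun x hx g => by rw [mem_Z3, conj_a, conj_b]; exact hx⟩
instance : (Y3 K).Normal := ⟨fun x hx g => by
  rw [mem_Y3, conj_a, conj_b, conj_t]; simp [hx.1, hx.2.1, hx.2.2]⟩
instance : (W K).Normal := ⟨fun x hx g => by
  rw [mem_W, conj_a, conj_b, conj_d]; simp [hx.1, hx.2.1, hx.2.2]⟩
instance : (Z2 K).Normal := ⟨fun x hx g => by
  rw [mem_Z2, conj_a, conj_b, conj_d, conj_t]; simp [hx.1, hx.2.1, hx.2.2.1, hx.2.2.2]⟩
instance : (Z K).Normal := ⟨fun x hx g => by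
  rw [mem_Z, conj_a, conj_b, conj_d, conj_t, conj_c]
  simp [hx.1, hx.2.1, hx.2.2.1, hx.2.2.2.1, hx.2.2.2.2]⟩

theorem Z_le_Z2 : Z K ≤ Z2 K := fun _ h => ⟨h.1, h.2.1, h.2.2.1, h.2.2.2.1⟩
theorem Z2_le_W : Z2 K ≤ W K := fun _ h => ⟨h.1, h.2.1, h.2.2.1⟩
theorem Z2_le_Y3 : Z2 K ≤ Y3 K := fun _ h => ⟨h.1, h.2.1, h.2.2.2⟩
theorem W_le_Z3 : W K ≤ Z3 K := fun _ h => ⟨h.1, h.2.1⟩
theorem Y3_le_Z3 : Y3 K ≤ Z3 K := fun _ h => ⟨h.1, h.2.1⟩
theorem Y3_le_Q1 : Y3 K ≤ Q1 K := fun _ h => ⟨h.2.1, h.2.2⟩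
theorem Z3_le_Q2 : Z3 K ≤ Q2 K := fun _ h => h.1
theorem Z3_le_Qt : Z3 K ≤ Qt K := fun _ h => h.2
theorem Q1_le_Qt : Q1 K ≤ Qt K := fun _ h => h.1
theorem Z2_le_Z3 : Z2 K ≤ Z3 K := Z2_le_W.trans W_le_Z3
theorem Z2_le_Q1 : Z2 K ≤ Q1 K := Z2_le_Y3.trans Y3_le_Q1
theorem W_le_Q2 : W K ≤ Q2 K := W_le_Z3.trans Z3_le_Q2

theorem icj_mem_Z3 (g x : P K) : x⁻¹ * (g * x * g⁻¹) ∈ Z3 K := ⟨icj_a g x, icj_b g x⟩

theorem icj_mem_Z2 (g : P K) {x : P K} (hx : x ∈ Z3 K) : x⁻¹ * (g * x * g⁻¹) ∈ Z2 K := by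
  rw [mem_Z2, icj_a, icj_b, icj_d, icj_t]; simp [hx.1, hx.2]

theorem icj_mem_Z2' {g : P K} (hg : g ∈ Z3 K) (x : P K) : x⁻¹ * (g * x * g⁻¹) ∈ Z2 K := by
  rw [mem_Z2, icj_a, icj_b, icj_d, icj_t]; simp [hg.1, hg.2]

theorem icj_mem_Z (g : P K) {x : P K} (hx : x ∈ Z2 K) : x⁻¹ * (g * x * g⁻¹) ∈ Z K := by
  rw [mem_Z, icj_a, icj_b, icj_d, icj_t, icj_c]; simp [hx.1, hx.2.1, hx.2.2.1, hx.2.2.2]

theorem icj_mem_Z' {g : P K} (hg : g ∈ Z2 K) (x : P K) : x⁻¹ * (g * x * g⁻¹) ∈ Z K := by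
  rw [mem_Z, icj_a, icj_b, icj_d, icj_t, icj_c]; simp [hg.1, hg.2.1, hg.2.2.1, hg.2.2.2]

theorem icj_Q2 {g x : P K} (hg : g ∈ Q2 K) (hx : x ∈ Q2 K) : x⁻¹ * (g * x * g⁻¹) ∈ W K := by
  rw [mem_W, icj_a, icj_b, icj_d]; simp [mem_Q2.1 hg, mem_Q2.1 hx]

theorem icj_Qt {g x : P K} (hg : g ∈ Qt K) (hx : x ∈ Qt K) : x⁻¹ * (g * x * g⁻¹) ∈ Z2 K := by
  rw [mem_Z2, icj_a, icj_b, icj_d, icj_t]; simp [mem_Qt.1 hg, mem_Qt.1 hx]

theorem icj_Q1 {g x : P K} (hg : g ∈ Q1 K) (hx : x ∈ Q1 K) : x⁻¹ * (g * x * g⁻¹) ∈ Z K := by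
  rw [mem_Z, icj_a, icj_b, icj_d, icj_t, icj_c]; simp [hg.1, hg.2, hx.1, hx.2]

theorem icj_Z3 {g x : P K} (hg : g ∈ Z3 K) (hx : x ∈ Z3 K) : x⁻¹ * (g * x * g⁻¹) ∈ Z K := by
  rw [mem_Z, icj_a, icj_b, icj_d, icj_t, icj_c]; simp [hg.1, hg.2, hx.1, hx.2]

theorem icj_Y3 {g x : P K} (hg : g ∈ Y3 K) (hx : x ∈ Qt K) : x⁻¹ * (g * x * g⁻¹) ∈ Z K := by
  rw [mem_Z, icj_a, icj_b, icj_d, icj_t, icj_c]; simp [hg.1, hg.2.1, hg.2.2, mem_Qt.1 hx]

theorem icj_Q1_Y3 (g : P K) {x : P K} (hx : x ∈ Q1 K) : x⁻¹ * (g * x * g⁻¹) ∈ Y3 K := by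
  rw [mem_Y3, icj_a, icj_b, icj_t]; simp [hx.1]

theorem comm_Z {x : P K} (hx : x ∈ Z K) (y : P K) : x * y = y * x := by
  rw [commute_iff]; simp [hx.1, hx.2.1, hx.2.2.1, hx.2.2.2.1, hx.2.2.2.2]

theorem comm_W {x y : P K} (hx : x ∈ W K) (hy : y ∈ Q2 K) : x * y = y * x := by
  rw [commute_iff]; simp [hx.1, hx.2.1, hx.2.2, mem_Q2.1 hy]

theorem conj_Z {x : P K} (hx : x ∈ Z K) (g : P K) : g * x * g⁻¹ = x := by
  rw [← comm_Z hx g, mul_inv_cancel_right]

theorem conj_W {x g : P K} (hx : x ∈ W K) (hg : g ∈ Q2 K) : g * x * g⁻¹ = x := by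
  rw [← comm_W hx hg, mul_inv_cancel_right]

end Elt

section Card

variable {K : Type v} [Field K] [Fintype K] [Uf K]

/-- The index of the kernel of a coordinate that is additive on `A`. -/
theorem card_step {A B : Subgroup (P K)} (φ : P K → K) (R : AddSubgroup K)
    (hφ : ∀ x ∈ A, ∀ y ∈ A, φ (x * y) = φ x + φ y) (hB : ∀ x, x ∈ B ↔ x ∈ A ∧ φ x = 0)
    (hR : ∀ r, r ∈ R ↔ ∃ x ∈ A, φ x = r) : Nat.card A = Nat.card B * Nat.card R := by
  let f : A →* Multiplicative K := MonoidHom.mk' (fun x => Multiplicative.ofAdd (φ x))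
    fun x y => congrArg Multiplicative.ofAdd (hφ x x.2 y y.2)
  have hk : f.ker = B.subgroupOf A := by
    ext x
    rw [MonoidHom.mem_ker, mem_subgroupOf, hB]
    exact ⟨fun h => ⟨x.2, h⟩, fun h => h.2⟩
  have hr : f.range = R.toSubgroup := by
    ext r
    exact ⟨fun ⟨x, hx⟩ => (hR _).2 ⟨x, x.2, hx⟩, fun h => by
      obtain ⟨x, hx, e⟩ := (hR _).1 h
      exact ⟨⟨x, hx⟩, e⟩⟩
  rw [← f.ker.card_mul_index, index_ker, hk, hr,
    Nat.card_congr (subgroupOfEquivOfLe (fun x hx => ((hB x).1 hx).1)).toEquiv]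
  rfl

variable (K)

theorem card_Z : Nat.card (Z K) = Uf.q K := by
  rw [card_step (A := Z K) (B := ⊥) P.z (k0 K) (fun x hx y hy => by
      simp [hx.1, hx.2.2.1, hx.2.2.2.2]) (fun x => ⟨by rintro rfl; exact ⟨one_mem _, rfl⟩,
      fun ⟨h, h'⟩ => P.ext h.1 h.2.1 h.2.2.1 h.2.2.2.2 h.2.2.2.1 h'⟩) fun r => ⟨fun hr =>
      ⟨xw 0 0 r (by simp) hr, ⟨rfl, rfl, rfl, rfl, rfl⟩, rfl⟩, by
        rintro ⟨x, hx, rfl⟩
        rw [mem_k0, P.star_z]; simp [hx.1, hx.2.2.1]⟩, card_k0, card_bot, one_mul]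

theorem card_Z2 : Nat.card (Z2 K) = Uf.q K ^ 3 := by
  rw [card_step (A := Z2 K) (B := Z K) P.c ⊤ (fun x hx y hy => by simp [hx.1, hx.2.2.1])
    (fun x => by simp [mem_Z, mem_Z2, and_assoc]) fun r => ⟨fun _ =>
      ⟨xw r 0 0 (by simp) (by simp), ⟨rfl, rfl, rfl, rfl⟩, rfl⟩, fun _ => trivial⟩, card_Z,
    AddSubgroup.card_top, card_K]
  ring

theorem card_W : Nat.card (W K) = Uf.q K ^ 4 := by
  rw [card_step (A := W K) (B := Z2 K) P.t (k0 K) (fun x hx y hy => by simp [hx.2.1])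
    (fun x => by simp [mem_W, mem_Z2, and_assoc]) fun r => ⟨fun hr =>
      ⟨xw 0 r 0 hr (by simp), ⟨rfl, rfl, rfl⟩, rfl⟩, by
        rintro ⟨x, hx, rfl⟩
        rw [mem_k0, P.star_t]; simp [hx.2.1]⟩, card_Z2, card_k0]
  ring

theorem card_Y3 : Nat.card (Y3 K) = Uf.q K ^ 5 := by
  rw [card_step (A := Y3 K) (B := Z2 K) P.d ⊤ (fun x hx y hy => by simp [hx.1])
    (fun x => by simp only [mem_Y3, mem_Z2]; tauto) fun r => ⟨fun _ => by
      obtain ⟨x, h₁, h₂, h₃, -, h₄⟩ := exists_elt 0 0 r (0 : K)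
      exact ⟨x, ⟨h₁, h₂, h₄ rfl⟩, h₃⟩, fun _ => trivial⟩, card_Z2, AddSubgroup.card_top, card_K]
  ring

theorem card_Z3 : Nat.card (Z3 K) = Uf.q K ^ 6 := by
  rw [card_step (A := Z3 K) (B := W K) P.d ⊤ (fun x hx y hy => by simp [hx.1])
    (fun x => by simp only [mem_Z3, mem_W]; tauto) fun r => ⟨fun _ => by
      obtain ⟨x, h₁, h₂, h₃, -⟩ := exists_elt 0 0 r (0 : K)
      exact ⟨x, ⟨h₁, h₂⟩, h₃⟩, fun _ => trivial⟩, card_W, AddSubgroup.card_top, card_K]
  ring

theorem card_Q1 : Nat.card (Q1 K) = Uf.q K ^ 7 := by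
  rw [card_step (A := Q1 K) (B := Y3 K) P.a ⊤ (fun x hx y hy => by simp)
    (fun x => by simp only [mem_Y3, mem_Q1]; tauto) fun r => ⟨fun _ => by
      obtain ⟨x, h₁, h₂, -, -, h₄⟩ := exists_elt r 0 0 (0 : K)
      exact ⟨x, ⟨h₂, h₄ rfl⟩, h₁⟩, fun _ => trivial⟩, card_Y3, AddSubgroup.card_top, card_K]
  ring

theorem card_Q2 : Nat.card (Q2 K) = Uf.q K ^ 8 := by
  rw [card_step (A := Q2 K) (B := Z3 K) P.b ⊤ (fun x hx y hy => by simp)
    (fun x => by simp only [mem_Z3, mem_Q2]) fun r => ⟨fun _ => by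
      obtain ⟨x, h₁, h₂, -⟩ := exists_elt 0 r 0 (0 : K)
      exact ⟨x, h₁, h₂⟩, fun _ => trivial⟩, card_Z3, AddSubgroup.card_top, card_K]
  ring

theorem card_Qt : Nat.card (Qt K) = Uf.q K ^ 8 := by
  rw [card_step (A := Qt K) (B := Z3 K) P.a ⊤ (fun x hx y hy => by simp)
    (fun x => by simp only [mem_Z3, mem_Qt]; tauto) fun r => ⟨fun _ => by
      obtain ⟨x, h₁, h₂, -⟩ := exists_elt r 0 0 (0 : K)
      exact ⟨x, h₂, h₁⟩, fun _ => trivial⟩, card_Z3, AddSubgroup.card_top, card_K]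
  ring

theorem card_top : Nat.card (⊤ : Subgroup (P K)) = Uf.q K ^ 10 := by
  rw [card_step (A := ⊤) (B := Q2 K) P.a ⊤ (fun x hx y hy => by simp)
    (fun x => by simp [mem_Q2]) fun r => ⟨fun _ => by
      obtain ⟨x, h₁, -⟩ := exists_elt r 0 0 (0 : K)
      exact ⟨x, trivial, h₁⟩, fun _ => trivial⟩, card_Q2, AddSubgroup.card_top, card_K]
  ring

theorem card_P : Nat.card (P K) = Uf.q K ^ 10 := by rw [← card_top, Subgroup.card_top]

theorem pg_top (p : ℕ) [Fact p.Prime] [CharP K p] : IsPGroup p (⊤ : Subgroup (P K)) := by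
  obtain ⟨n, -, hn⟩ := exists_q_pow K p
  exact IsPGroup.of_card (n := n * 10) (by rw [card_top, hn, pow_mul])

theorem pg (p : ℕ) [Fact p.Prime] [CharP K p] : IsPGroup p (P K) :=
  (pg_top K p).of_equiv topEquiv

end Card

end Cfsg.Agent.U5
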