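import Cfsg.Agent.Lib.U5.Cmp1

/-!
The automizers of `Q₁` and `Q₂` are determined by `Aut_F(S)`.
-/

set_option autoImplicit false

namespace Cfsg.Agent.U5

open Cfsg.Agent.Fus Cfsg.Agent.Fus2 Subgroup

universe v

variable {K : Type v} [Field K] [Fintype K] [Uf K]

/-- The diagonal automorphisms. -/
def dgHom : Kˣ × Kˣ →* MulAut (P K) := MonoidHom.mk' (fun x => dg x.1 x.2 (RingEquiv.refl K))
  fun x y => by rw [dg_mul]; rfl

/-- Restriction of the diagonal automorphisms to `Q`. -/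
def res (Q : Subgroup (P K)) (h : ∀ x, ∀ y ∈ Q, dgHom x y ∈ Q) : Kˣ × Kˣ →* MulAut Q :=
  MonoidHom.mk' (fun x =>
    { toFun := fun y => ⟨dgHom x y, h x y y.2⟩
      invFun := fun y => ⟨dgHom x⁻¹ y, h _ y y.2⟩
      left_inv := fun y => Subtype.ext (by simp)
      right_inv := fun y => Subtype.ext (by simp)
      map_mul' := fun y z => Subtype.ext (by simp) })
    fun x y => MulEquiv.ext fun z => Subtype.ext (by simp)

theorem afn_res {Q : Subgroup (P K)} (h : ∀ x, ∀ y ∈ Q, dgHom x y ∈ Q) (x : Kˣ × Kˣ) {y : P K}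
    (hy : y ∈ Q) : afn (res Q h x) y = dgHom x y := by rw [afn_apply _ hy]; rfl

variable {p : ℕ} [hp : Fact p.Prime] [CharP K p] {F F' : FusionSystem (⊤ : Subgroup (P K))}

theorem not_dvd_tor {G : Type*} [Group G] (φ : Kˣ × Kˣ →* G) (D : Subgroup (Kˣ × Kˣ)) :
    ¬ p ∣ Nat.card (D.map φ) := fun h => by
  have h₁ := (h.trans (card_map_dvd D φ)).trans (card_subgroup_dvd_card D)
  rw [Nat.card_prod, hp.out.dvd_mul, or_self, Nat.card_units] at h₁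
  obtain ⟨n, -, hn⟩ := FiniteField.card K p
  have h₂ : p ∣ Nat.card K := by
    rw [Nat.card_eq_fintype_card, hn]; exact dvd_pow_self p n.ne_zero
  exact hp.out.one_lt.ne' (Nat.dvd_one.1 (by
    have := Nat.dvd_sub h₂ h₁
    rwa [Nat.sub_sub_self (Nat.card_pos (α := K))] at this))

/-- The comparison for one of the two subgroups. -/
theorem cmp_side (p : ℕ) [Fact p.Prime] [CharP K p] {Q U C : Subgroup (P K)} (hU : U ≤ Q)
    (hQ : ∀ x, ∀ y ∈ Q, dgHom x y ∈ Q) (hC : ∀ x, ∀ y ∈ C, dgHom x y ∈ C)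
    (hIC : ∀ g ∈ Q, ∀ x ∈ Q, x⁻¹ * (g * x * g⁻¹) ∈ C) (hCU : C ≤ U)
    (hM : ∀ f, M F ⊤ f ↔ M F' ⊤ f)
    (hE : ∀ f, Au F Q f → (∀ x ∈ U, f x ∈ U) → ∃ g, M F ⊤ g ∧ ∀ x ∈ Q, g x = f x)
    (hE' : ∀ f, Au F' Q f → (∀ x ∈ U, f x ∈ U) → ∃ g, M F' ⊤ g ∧ ∀ x ∈ Q, g x = f x)
    (hN : ∀ f, M F ⊤ f → (∀ x ∈ Q, x⁻¹ * f x ∈ C) → ∃ g ∈ Q, ∀ x ∈ Q, f x = g * x * g⁻¹)
    (hfix : ∀ n : P K → P K, (∀ x ∈ Q, ∀ y ∈ Q, n (x * y) = n x * n y) → (∀ x ∈ Q, x⁻¹ * n x ∈ C) →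
      (∀ d, M F ⊤ (dgHom d) → ∀ x ∈ Q, dgHom d (n x) = n (dgHom d x)) → ∀ x ∈ Q, n x = x)
    {w w' : P K → P K} (hw : Au F Q w) (hw' : Au F' Q w')
    (hww : ∀ x ∈ Q, ∀ y ∈ Q, w' y = w x → x⁻¹ * y ∈ C)
    (hwU : ∀ d, ∀ y ∈ Q, w y ∈ U → w (dgHom d y) ∈ U)
    (hB : ∀ f, Au F Q f → (∀ x ∈ U, f x ∈ U) ∨ ∃ s, ∀ x ∈ U, w (s * f x * s⁻¹) ∈ U) [Q.Normal]
    {f : P K → P K} (hf : Au F Q f) : M F' Q f := by
  have key : ∀ f, Au F Q f → (∀ x ∈ U, f x ∈ U) → M F' Q f := fun f hf h => by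
    obtain ⟨g, hg, e⟩ := hE f hf h
    exact (((hM g).1 hg).mono le_top).congr e
  obtain ⟨α, hα, eα⟩ := hw.1.exists_aut' hw.2
  obtain ⟨α', hα', eα'⟩ := hw'.1.exists_aut' hw'.2
  have hαF : α ∈ F'.autGroup Q := by
    refine cmp_gen (p := p) ((pg K p).to_subgroup Q) (C := C.subgroupOf Q)
      (H := ((HF F).comap dgHom).map (res Q hQ)) (not_dvd_tor _ _) (Inn_le_autGroup le_top)
      (fun g x => hIC g g.2 x x.2) (fun β hβ h => ?_) ?_ ?_ (fun n hn h => ?_) hα'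
      (fun x _ => ?_) ?_
    · have h' : ∀ x ∈ Q, x⁻¹ * afn β x ∈ C := fun x hx => by
        rw [afn_apply _ hx]; exact h ⟨x, hx⟩ trivial
      obtain ⟨g, hg, e⟩ := hE' _ (au_afn hβ) fun x hx => by
        simpa using mul_mem hx (hCU (h' x (hU hx)))
      obtain ⟨s, hs, e'⟩ := hN g ((hM g).2 hg) fun x hx => by rw [e x hx]; exact h' x hx
      exact Fus2.mem_Inn_iff.2 ⟨s, hs, fun x hx => by rw [← e x hx, e' x hx]⟩
    · rintro _ ⟨d, -, rfl⟩ x hx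
      exact hC d x hx
    · rintro _ ⟨d, hd, rfl⟩
      exact (((hM _).1 hd.2).mono le_top).mem_autGroup fun x hx => afn_res hQ d hx
    · refine MulEquiv.ext fun x => Subtype.ext ?_
      rw [← afn_coe]
      refine hfix _ (homOn_afn n) (fun x hx => by
        rw [afn_apply _ hx]; exact hn ⟨x, hx⟩ trivial) (fun d hd x hx => ?_) x x.2
      rw [← afn_res hQ d hx, ← afn_res hQ d (afn_mem n hx), ← afn_mul, ← afn_mul,
        h _ ⟨d, ⟨⟨_, _, _, rfl⟩, hd⟩, rfl⟩]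
    · refine hww x x.2 _ ((α'⁻¹ * α) x).2 ?_
      rw [← eα' _ ((α'⁻¹ * α) x).2, ← eα x x.2, afn_coe, afn_coe]
      simp
    · rintro _ ⟨d, hd, rfl⟩
      have hd' : res Q hQ d ∈ F.autGroup Q :=
        (hd.2.mono le_top).mem_autGroup fun x hx => afn_res hQ d hx
      refine (key _ (au_afn (mul_mem (mul_mem hα hd') (inv_mem hα))) fun x hx => ?_).mem_autGroup
        fun _ _ => rfl
      have hy := afn_mem α⁻¹ (hU hx)
      rw [afn_mul, afn_mul, afn_res hQ d hy, eα _ (hQ d _ hy)]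
      exact hwU d _ hy (by rwa [← eα _ hy, afn_afn_inv])
  rcases hB f hf with h | ⟨s, h⟩
  · exact key f hf h
  have hs : ∀ s : P K, ∀ x ∈ Q, s * x * s⁻¹ ∈ Q := fun s x hx => ‹Q.Normal›.conj_mem x hx s
  have h₁ := key (fun x => w (s * f x * s⁻¹)) ⟨(hf.1.comp (M_conj F le_top (mem_top s)) hf.2).comp
    hw.1 fun x hx => hs s _ (hf.2 x hx), fun x hx => hw.2 _ (hs s _ (hf.2 x hx))⟩ h
  refine ((h₁.comp (M_afn le_top (inv_mem hαF)) fun x hx => hw.2 _ (hs s _ (hf.2 x hx))).comp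
    (M_conj F' le_top (mem_top s⁻¹)) fun x hx => afn_mem _ (hw.2 _ (hs s _ (hf.2 x hx)))).congr
    fun x hx => ?_
  rw [← eα _ (hs s _ (hf.2 x hx)), afn_inv_afn]
  group

theorem cmp (h₁ : L1Stmt.{v}) (h₂ : L2Stmt.{v}) : CmpStmt.{v} := by
  intro K _ _ _ p _ _ F F' hF hF' hN hM m₁ m₂ m₁' m₂'
  have hN' : NF F' := fun f hf => hN f ((hM f).2 hf)
  obtain ⟨hη, w₁, a₁, e₁, b₁⟩ := h₁ hF hN m₁
  obtain ⟨-, w₁', a₁', e₁', -⟩ := h₁ hF' hN' m₁'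
  obtain ⟨hh', w₂, a₂, e₂, b₂⟩ := h₂ hF hN m₂
  obtain ⟨-, w₂', a₂', e₂', -⟩ := h₂ hF' hN' m₂'
  refine ⟨fun f hf => cmp_side p (U := Z2 K) (C := Z K) Z2_le_Q1
      (fun d y hy => by simp [mem_Q1, dgHom, hy.1, hy.2])
      (fun d y hy => by simp [mem_Z, dgHom, hy.1, hy.2.1, hy.2.2.1, hy.2.2.2.1, hy.2.2.2.2])
      (fun g hg x hx => icj_Q1 hg hx) Z_le_Z2 hM (ext hF).1 (ext hF').1 (fun f hf h => ?_)
      (fun n hm hn h x hx => fix₁ hm hn (fun ρ => h (_, _) (hη ρ)) hx) a₁ a₁'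
      (fun x hx y hy e => ?_) (fun d y hy h => ?_) b₁ hf,
    fun f hf => cmp_side p (U := Z3 K) (C := W K) Z3_le_Q2
      (fun d y hy => by simp [mem_Q2, dgHom, mem_Q2.1 hy])
      (fun d y hy => by simp [mem_W, dgHom, hy.1, hy.2.1, hy.2.2])
      (fun g hg x hx => icj_Q2 hg hx) W_le_Z3 hM (ext hF).2 (ext hF').2 (fun f hf h => ?_)
      (fun n hm hn h x hx => fix₂ hm hn (fun ρ => h (_, _) (hη ρ)) (fun μ => h (_, _) (hh' μ)) hx)
      a₂ a₂' (fun x hx y hy e => ?_) (fun d y hy h => ?_) b₂ hf⟩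
  · obtain ⟨g, l, m, σ, e⟩ := hN f hf
    have ha : ∀ a, l * σ a = a := fun a => by
      obtain ⟨y, rfl, yb, -, -, yt⟩ := exists_elt a 0 0 (0 : K)
      have := (h y ⟨yb, yt rfl⟩).1
      simp [e] at this
      linear_combination this
    have hm : (m : K) = 1 := by
      obtain ⟨y, ya, yb, yd, -, yt⟩ := exists_elt 0 0 1 (0 : K)
      have := (h y ⟨yb, yt rfl⟩).2.2.1
      have hl : (l : K) = 1 := by simpa using ha 1
      simp [e, ya, yb, yd, hl] at this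
      linear_combination this
    rw [dg_eq_one ha hm] at e
    obtain ⟨y, ya, yb, yd, yc, yt⟩ := exists_elt 1 0 0 (0 : K)
    have := h y ⟨yb, yt rfl⟩
    rw [e, MulAut.one_apply, mem_Z, icj_d, icj_c] at this
    simp [ya, yb, yd, yt rfl] at this
    exact ⟨g, ⟨this.1, by simpa [this.1] using this.2.2⟩, fun x _ => e x⟩
  · obtain ⟨h₁, h₂, h₃⟩ := e₁ x hx
    obtain ⟨h₁', h₂', h₃'⟩ := e₁' y hy
    rw [e] at h₁' h₂' h₃'
    simp [mem_Z, hx.1, hx.2, hy.1, hy.2, h₁'.symm.trans h₁, neg_inj.1 (h₂'.symm.trans h₂),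
      h₃'.symm.trans h₃]
  · have hy' : dgHom d y ∈ Q1 K := by simp [mem_Q1, dgHom, hy.1, hy.2]
    obtain ⟨h₁, h₂, -⟩ := e₁ y hy
    obtain ⟨h₁', h₂', -⟩ := e₁ _ hy'
    refine ⟨?_, (a₁.2 _ hy').1, ?_, (a₁.2 _ hy').2⟩
    · rw [h₁']; simp [dgHom, ← h₁, h.1]
    · rw [h₂']; simp [dgHom, neg_eq_zero.1 (h₂.symm.trans h.2.2.1)]
  · obtain ⟨g, l, m, σ, e⟩ := hN f hf
    have hb : ∀ b, m * σ b = b := fun b => by
      obtain ⟨y, ya, rfl, -⟩ := exists_elt 0 b 0 (0 : K)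
      have := (h y ya).2.1
      simp [e] at this
      linear_combination this
    have hm : (m : K) = 1 := by simpa using hb 1
    have hl : (l : K) = 1 := by
      obtain ⟨y, ya, yb, yd, -⟩ := exists_elt 0 0 1 (0 : K)
      have := (h y ya).2.2
      simp [e, ya, yb, yd, hm] at this
      linear_combination this
    rw [dg_eq_one (fun a => by rw [hl, ← hm, hb]) hm] at e
    obtain ⟨y, ya, yb, -⟩ := exists_elt 0 1 0 (0 : K)
    have := (h y ya).2.2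
    rw [e, MulAut.one_apply, icj_d] at this
    exact ⟨g, by simpa [ya, yb, mem_Q2] using this, fun x _ => e x⟩
  · obtain ⟨h₁, h₂⟩ := e₂ x hx
    obtain ⟨h₁', h₂'⟩ := e₂' y hy
    rw [e] at h₁' h₂'
    simp [mem_W, mem_Q2.1 hx, mem_Q2.1 hy, neg_inj.1 (h₁'.symm.trans h₁), h₂'.symm.trans h₂]
  · have hy' : dgHom d y ∈ Q2 K := by simp [mem_Q2, dgHom, mem_Q2.1 hy]
    refine ⟨a₂.2 _ hy', ?_⟩
    rw [(e₂ _ hy').1]; simp [dgHom, neg_eq_zero.1 ((e₂ y hy).1.symm.trans h.2)]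

end Cfsg.Agent.U5
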