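import Cfsg.Agent.Lib.U5.CoreA0

/-!
Row COREA of docs/U5_PLAN.md: the orbit of `L` is `{L} ∪ R · θ L₀`.
-/

set_option autoImplicit false

namespace Cfsg.Agent.U5

open Cfsg.Agent.Fus Subgroup Equiv

universe v

namespace CA

variable {K : Type v} [Field K] [Fintype K] [Uf K] {A T : Subgroup (Perm (K × K × K))}

/-- `v ∈ g L`. -/
def InL (g : Perm (K × K × K)) (v : K × K × K) : Prop := (g⁻¹ v).1 = 0 ∧ (g⁻¹ v).2.1 = 0

omit [Fintype K] [Uf K] in
theorem inL_apply (g : Perm (K × K × K)) (c : K) : InL g (g (0, 0, c)) := by simp [InL]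

omit [Fintype K] [Uf K] in
theorem InL.eq {g : Perm (K × K × K)} {v : K × K × K} (h : InL g v) : ∃ c, v = g (0, 0, c) :=
  ⟨(g⁻¹ v).2.2, by
    rw [show ((0 : K), (0 : K), (g⁻¹ v).2.2) = g⁻¹ v from Prod.ext h.1.symm (Prod.ext h.2.symm rfl)]
    simp⟩

omit [Fintype K] [Uf K] in
theorem inL_mul {g g' : Perm (K × K × K)} {v : K × K × K} : InL (g' * g) (g' v) ↔ InL g v := by
  simp [InL]

section Pres

variable (hA : PresB A)
include hA

theorem map_sub' {α : Perm (K × K × K)} (hα : α ∈ A) (u v : K × K × K) :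
    α (u - v) = α u - α v := map_sub (AddMonoidHom.mk' α (hA α hα).1) u v

theorem map_zero' {α : Perm (K × K × K)} (hα : α ∈ A) : α 0 = 0 :=
  map_zero (AddMonoidHom.mk' α (hA α hα).1)

theorem orth {α : Perm (K × K × K)} (hα : α ∈ A) {u v : K × K × K} (h : bf u v = 0) :
    bf (α u) (α v) = 0 := by
  rw [(hA α hα).2 u v 0 0 (by rw [h]; simp [bf]), map_zero' hA hα]
  simp [bf]

theorem InL.sub {g : Perm (K × K × K)} (hg : g ∈ A) {u v : K × K × K} (hu : InL g u)
    (hv : InL g v) : InL g (u - v) := by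
  simp only [InL, map_sub' hA (inv_mem hg), Prod.fst_sub, Prod.snd_sub, hu.1, hu.2, hv.1, hv.2,
    sub_self, and_self]

theorem InL.add {g : Perm (K × K × K)} (hg : g ∈ A) {u v : K × K × K} (hu : InL g u)
    (hv : InL g v) : InL g (u + v) := by
  simp only [InL, (hA _ (inv_mem hg)).1, Prod.fst_add, Prod.snd_add, hu.1, hu.2, hv.1, hv.2,
    add_zero, and_self]

theorem InL.iso {g : Perm (K × K × K)} (hg : g ∈ A) {u v : K × K × K} (hu : InL g u)
    (hv : InL g v) : bf u v = 0 := by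
  obtain ⟨c, rfl⟩ := hu.eq
  obtain ⟨c', rfl⟩ := hv.eq
  exact orth hA hg (by simp [bf, hf])

theorem fst_of_perp {g : Perm (K × K × K)} (hg : g ∈ A) {v : K × K × K}
    (h : ∀ w, InL g w → bf v w = 0) : (g⁻¹ v).1 = 0 :=
  eq_zero_of_skew fun y => by
    have := orth hA (inv_mem hg) (h _ (inL_apply g y))
    simpa [bf, hf] using this

variable (hR : IsR T)
include hR

theorem conj_smul {g t : Perm (K × K × K)} (hg : g ∈ A) (ht : t ∈ T) {l : K} (hl : star l = l)
    (u : K × K × K) : g (t (g⁻¹ (l • u))) = l • g (t (g⁻¹ u)) := by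
  obtain ⟨b, τ, h, e⟩ := (hR t).1 ht
  have pr : ∀ x y, bf (g (t (g⁻¹ x))) (g (t (g⁻¹ y))) = bf x y := fun x y => by
    rw [(hA g hg).2 _ _ (g⁻¹ x) (g⁻¹ y) (by rw [e, e, bf_rr h])]
    simp
  refine sub_eq_zero.1 (bf_nondeg fun v => ?_)
  obtain ⟨w, rfl⟩ := (g * t * g⁻¹).surjective v
  simp only [Perm.mul_apply]
  rw [bf_sub_left, pr, bf_smul_left hl, bf_smul_left hl, pr, sub_self]

omit hA in
theorem InL.fix {g t : Perm (K × K × K)} (ht : t ∈ T) {v : K × K × K} (hv : InL g v) :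
    g (t (g⁻¹ v)) = v := by
  obtain ⟨b, τ, h, e⟩ := (hR t).1 ht
  rw [e, show rr b τ (g⁻¹ v) = g⁻¹ v from Prod.ext rfl (Prod.ext
    (by simp only [rr, hv.1]; ring) (by simp only [rr, hv.1, hv.2]; ring))]
  simp

omit hA in
theorem inL_of_fix {g : Perm (K × K × K)} {v : K × K × K}
    (h : ∀ t ∈ T, g (t (g⁻¹ v)) = v) : InL g v := by
  obtain ⟨τ, hτ⟩ := exists_tau (1 : K)
  obtain ⟨τ', h0, hτ'⟩ := exists_skew K
  have e := congrArg (fun x => g⁻¹ x) (h _ (rp_mem hR 1 τ hτ))
  simp only [Perm.coe_inv, symm_apply_apply, rp_apply] at e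
  have e1 := congrArg (fun x => x.2.1) e
  have e2 := congrArg (fun x => x.2.2) e
  simp only [rr, star_one] at e1 e2
  have ha : (g⁻¹ v).1 = 0 := by
    simp only [Perm.coe_inv]; linear_combination -e1
  refine ⟨ha, ?_⟩
  simp only [Perm.coe_inv] at ha ⊢
  rw [ha] at e2
  linear_combination e2

theorem InL.smul {g : Perm (K × K × K)} (hg : g ∈ A) {l : K} (hl : star l = l) {v : K × K × K}
    (hv : InL g v) : InL g (l • v) :=
  inL_of_fix hR fun t ht => by rw [conj_smul hA hR hg ht hl, hv.fix hR ht]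

end Pres

variable {p : ℕ} [Fact p.Prime] [CharP K p] (hT : IsSylowIn p T A) (hR : IsR T) (hA : PresB A)
include hT hR hA

omit [CharP K p] in
theorem ti1 {g : Perm (K × K × K)} (hg : g ∈ A) {v : K × K × K} (hv : InL g v) (h : v.1 = 0) :
    v.2.1 = 0 := by
  obtain ⟨τ, h0, hτ⟩ := exists_skew K
  have hτ' : τ + star τ + 0 * star (0 : K) = 0 := by simpa using hτ
  have hS := (SP4.sylow_conj hT hg).of_le (K := A ⊓ MulAction.stabilizer _ v) (le_inf
    (SP4.sylow_conj hT hg).le (by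
      rintro _ ⟨t, ht, rfl⟩
      exact hv.fix hR ht)) inf_le_left
  obtain ⟨k, hk⟩ := hT.isPGroup ⟨_, rp_mem hR 0 τ hτ'⟩
  obtain ⟨x, ⟨hx, hxv⟩, t, ht, e⟩ := hS.exists_conj_mem_of_pow (x := rp 0 τ hτ')
    ⟨hT.le (rp_mem hR 0 τ hτ'), by
      show rr 0 τ v = v
      exact Prod.ext rfl (Prod.ext (by simp [rr]) (by simp [rr, h]))⟩ (k := k)
    (congrArg Subtype.val hk)
  obtain ⟨b, σ, hσ, et⟩ := (hR t).1 ht
  set γ := x⁻¹ * g
  have hγ : γ ∈ A := mul_mem (inv_mem hx) hg
  have key : ∀ u, γ (rr b σ u) = rr 0 τ (γ u) := fun u => by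
    have := congrArg (fun y : Perm (K × K × K) => (x⁻¹ * y * g) u) e
    simpa [γ, et] using this
  have key' : ∀ u, γ (rr b σ u - u) = (0, 0, τ * (γ u).1) := fun u => by
    rw [map_sub' hA hγ, key]
    simp [rr, Prod.ext_iff]
  have hb : b = 0 := by
    have e1 := key' (rr b σ (1, 0, 0) - (1, 0, 0))
    rw [key' (1, 0, 0), mul_zero, show ((0 : K), (0 : K), (0 : K)) = γ 0 from
      (map_zero' hA hγ).symm] at e1
    have := congrArg (fun x => x.2.2) (γ.injective e1)
    simpa [rr] using this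
  subst hb
  have hσ0 : σ ≠ 0 := by
    rintro rfl
    have := congrArg (fun x => x.2.2) (key' (γ⁻¹ (1, 0, 0)))
    rw [show rr 0 0 (γ⁻¹ (1, 0, 0)) = γ⁻¹ (1, 0, 0) by simp [rr], sub_self, map_zero' hA hγ] at this
    simp [h0.symm] at this
  obtain ⟨c, hc⟩ := hv.eq
  have hv' : v = γ (0, 0, c) := by
    have : x v = v := hxv
    rw [Perm.mul_apply, ← hc, Perm.eq_inv_iff_eq, this]
  have := key' (c / σ, 0, 0)
  rw [show rr 0 σ (c / σ, 0, 0) - (c / σ, 0, 0) = (0, 0, c) by
    simp [rr, mul_div_cancel₀ _ hσ0], ← hv'] at this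
  rw [this]

omit [CharP K p] in
theorem ti1' {g g' : Perm (K × K × K)} (hg : g ∈ A) (hg' : g' ∈ A) {v : K × K × K} (hv : InL g v)
    (h : ∀ w, InL g' w → bf v w = 0) : InL g' v :=
  have h1 := fst_of_perp hA hg' h
  ⟨h1, ti1 hT hR hA (mul_mem (inv_mem hg') hg) (inL_mul.2 hv) h1⟩

theorem ti2 {g : Perm (K × K × K)} (hg : g ∈ A) {v : K × K × K} (hv : InL g v) (h : v.1 = 0)
    (h0 : v ≠ 0) {u : K × K × K} (hu : InL g u) : u.1 = 0 := by
  by_contra ha
  have hd := ti1 hT hR hA hg hv h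
  obtain ⟨_, _, c⟩ := v
  simp only at h hd
  subst h hd
  have hc : c ≠ 0 := by rintro rfl; exact h0 rfl
  have hc' : star c ≠ 0 := star_ne_zero.2 hc
  have ha' : star u.1 ≠ 0 := star_ne_zero.2 ha
  have huv := hu.iso hA hg hv
  simp only [bf, hf, star_zero, mul_zero, add_zero, zero_mul, zero_add] at huv
  by_cases h2 : (2 : K) = 0
  · have hτ : (1 : K) + star 1 + 0 * star (0 : K) = 0 := by
      rw [star_one]; linear_combination h2
    have hn : InL g (0, 0, u.1) := by
      have := hv.smul hA hR hg (l := u.1 / c) (by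
        rw [star_div₀]; field_simp; linear_combination -huv)
      simpa [hc] using this
    refine SP4.orb_gen (SP4.sylow_conj hT hg) (hT.le (rp_mem hR 0 1 hτ)) (w := u) ?_
      (Equiv.addRight ((0 : K), (0 : K), u.1)) (k := 1) ?_
      (fun x e => ha (by simpa using congrArg (fun y => y.2.2) e)) ?_
      (fun x => by simp [rr, add_right_comm]) (by simp [rr, Prod.ext_iff])
    · rintro _ ⟨t, ht, rfl⟩
      exact hu.fix hR ht
    · ext x <;> simp
    · rintro _ ⟨t, ht, rfl⟩ x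
      have := (hA _ (mul_mem (mul_mem hg (hT.le ht)) (inv_mem hg))).1 x (0, 0, u.1)
      simp only [Perm.mul_apply] at this
      rw [hn.fix hR ht] at this
      exact this.symm
  · set τ := -1 / 2 + (u.1 * star u.2.1 - star u.1 * u.2.1) / (u.1 * star u.1) with hτd
    have hs : star τ = -1 / 2 - (u.1 * star u.2.1 - star u.1 * u.2.1) / (u.1 * star u.1) := by
      simp only [hτd, star_add, star_div₀, star_sub, star_mul', star_star, star_neg, star_one,
        star_ofNat]
      field_simp; ring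
    have hτ : τ + star τ + 1 * star (1 : K) = 0 := by
      rw [hs, hτd, star_one]; field_simp; ring
    have hr := rp_mem hR 1 τ hτ
    have h1 : InL g (rp 1 τ hτ u) := by
      refine ti1' hT hR hA (mul_mem (hT.le hr) hg) hg (inL_mul.2 hu) fun w hw => ?_
      have hwv := hw.iso hA hg hv
      simp only [bf, hf, star_zero, mul_zero, add_zero, zero_mul, zero_add] at hwv
      have hl : star (w.1 / u.1) = w.1 / u.1 := by
        rw [star_div₀]; field_simp
        apply mul_left_cancel₀ hc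
        linear_combination w.1 * huv - u.1 * hwv
      have hw' := hw.sub hA hg (hu.smul hA hR hg hl)
      have e1 : (w - (w.1 / u.1) • u).1 = 0 := by simp [ha]
      have e2 := ti1 hT hR hA hg hw' e1
      have e3 := hu.iso hA hg hw'
      rw [← bf_rr hτ, show rr 1 τ (w - (w.1 / u.1) • u) = w - (w.1 / u.1) • u from
        Prod.ext rfl (Prod.ext (by simp only [rr, e1]; ring) (by simp only [rr, e1, e2]; ring))] at e3
      rw [show w = (w - (w.1 / u.1) • u) + (w.1 / u.1) • u by simp, bf_add_right, rp_apply, e3,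
        bf_smul_right hl]
      have : bf (rr 1 τ u) u = 0 := by
        simp only [bf, hf, rr, star_add, star_sub, star_mul', star_one, hs]
        rw [hτd]; field_simp; ring
      rw [this]; ring
    have := ti1 hT hR hA hg (h1.sub hA hg hu) (by simp [rr])
    simp [rr, ha] at this

theorem ti2' {g g' : Perm (K × K × K)} (hg : g ∈ A) (hg' : g' ∈ A) {v : K × K × K} (hv : InL g v)
    (hv' : InL g' v) (h0 : v ≠ 0) {u : K × K × K} (hu : InL g u) : InL g' u :=
  have hm := mul_mem (inv_mem hg') hg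
  have h1 := ti2 hT hR hA hm (inL_mul.2 hv) hv'.1 (fun h => h0 (g'⁻¹.injective
    (h.trans (map_zero' hA (inv_mem hg')).symm))) (inL_mul.2 hu)
  ⟨h1, ti1 hT hR hA hm (inL_mul.2 hu) h1⟩

theorem graph {g : Perm (K × K × K)} (hg : g ∈ A) (hn : ¬ StabL g) : ∃ f₁ f₂ g₁ g₂ : K,
    ∀ v, InL g v ↔ v.2.1 = f₁ * v.1 + f₂ * star v.1 ∧ v.2.2 = g₁ * v.1 + g₂ * star v.1 := by
  have inj : ∀ v, InL g v → v.1 = 0 → v = 0 := fun v hv h => by
    by_contra h0
    exact hn fun c => ⟨ti2 hT hR hA hg hv h h0 (inL_apply g c),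
      ti1 hT hR hA hg (inL_apply g c) (ti2 hT hR hA hg hv h h0 (inL_apply g c))⟩
  have uniq : ∀ v w, InL g v → InL g w → v.1 = w.1 → v = w := fun v w hv hw h =>
    sub_eq_zero.1 (inj _ (hv.sub hA hg hw) (by simp [h]))
  have surj : Function.Surjective fun c : K => (g (0, 0, c)).1 :=
    Finite.injective_iff_surjective.1 fun c c' h => by
      simpa using uniq _ _ (inL_apply g c) (inL_apply g c') h
  choose s hs using surj
  have hs' : ∀ a, InL g (g (0, 0, s a)) := fun a => inL_apply g _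
  have add : ∀ x y, g (0, 0, s (x + y)) = g (0, 0, s x) + g (0, 0, s y) := fun x y =>
    uniq _ _ (hs' _) ((hs' _).add hA hg (hs' _)) (by simp only [Prod.fst_add, hs])
  have sm : ∀ l, star l = l → ∀ x, g (0, 0, s (l * x)) = l • g (0, 0, s x) := fun l hl x =>
    uniq _ _ (hs' _) ((hs' _).smul hA hR hg hl) (by simp only [Prod.smul_fst, hs, smul_eq_mul])
  obtain ⟨f₁, f₂, hf⟩ := klin (fun a => (g (0, 0, s a)).2.1) (fun x y => by simp only [add]; rfl)
    (fun l hl x => by simp only [sm l hl]; rfl)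
  obtain ⟨g₁, g₂, hg'⟩ := klin (fun a => (g (0, 0, s a)).2.2) (fun x y => by simp only [add]; rfl)
    (fun l hl x => by simp only [sm l hl]; rfl)
  refine ⟨f₁, f₂, g₁, g₂, fun v => ⟨fun hv => ?_, fun hv => ?_⟩⟩
  · rw [← hf, ← hg', ← uniq _ _ hv (hs' v.1) (hs _).symm]
    exact ⟨rfl, rfl⟩
  · rw [show v = g (0, 0, s v.1) from Prod.ext (hs _).symm (Prod.ext (hv.1.trans (hf _).symm)
      (hv.2.trans (hg' _).symm))]
    exact hs' _

theorem normal_form (h2 : p = 2 → ∀ α ∈ A, ∀ u, hf u u = 0 → hf (α u) (α u) = 0)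
    {g : Perm (K × K × K)} (hg : g ∈ A) (hn : ¬ StabL g) : ∃ t ∈ T, ∃ f g₁ g₂ : K,
    2 * f = 0 ∧ g₁ + star g₁ = f * star f ∧ ((2 : K) = 0 → g₂ = 0) ∧
    ∀ v, InL (t * g) v ↔ v.2.1 = f * star v.1 ∧ v.2.2 = g₁ * v.1 + g₂ * star v.1 := by
  obtain ⟨f₁, f, g₁', g₂', h⟩ := graph hT hR hA hg hn
  obtain ⟨τ, hτ⟩ := exists_tau f₁
  have ht := rp_mem hR f₁ τ hτ
  have hm := mul_mem (hT.le ht) hg
  set g₁ := g₁' + star f₁ * f₁ + τ
  set g₂ := g₂' + star f₁ * f
  have H : ∀ v, InL (rp f₁ τ hτ * g) v ↔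
      v.2.1 = f * star v.1 ∧ v.2.2 = g₁ * v.1 + g₂ * star v.1 := fun v => by
    obtain ⟨w, rfl⟩ := (rp f₁ τ hτ).surjective v
    rw [inL_mul, h]
    simp only [rp_apply, rr, g₁, g₂]
    constructor
    · rintro ⟨e1, e2⟩
      exact ⟨by linear_combination e1, by linear_combination e2 + star f₁ * e1⟩
    · rintro ⟨e1, e2⟩
      exact ⟨by linear_combination e1, by linear_combination e2 - star f₁ * e1⟩
  have hu : ∀ a, InL (rp f₁ τ hτ * g) (a, f * star a, g₁ * a + g₂ * star a) := fun a =>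
    (H _).2 ⟨rfl, rfl⟩
  obtain ⟨μ, hμ⟩ := exists_star_ne K
  have hμ' : star μ - μ ≠ 0 := sub_ne_zero.2 hμ
  have hiso : g₁ + star g₁ = f * star f := by
    have := (hu 1).iso hA hm (hu μ)
    simp only [bf, hf, star_add, star_mul', star_star, star_one] at this
    apply mul_left_cancel₀ hμ'
    linear_combination this
  refine ⟨_, ht, f, g₁, g₂, ?_, hiso, fun h0 => ?_, H⟩
  · have hσ : -8 * (f * star f) + star (-8 * (f * star f)) + 4 * f * star (4 * f) = 0 := by
      simp only [star_mul', star_star, star_neg, star_ofNat]; ring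
    have hr := rp_mem hR _ _ hσ
    have := ((H _).1 (ti1' hT hR hA (mul_mem (hT.le hr) hm) hm (inL_mul.2 (hu 1)) fun w hw => by
      obtain ⟨e1, e2⟩ := (H w).1 hw
      simp only [bf, hf, rp_apply, rr, e1, e2, star_add, star_sub, star_mul', star_star, star_one,
        star_neg, star_ofNat]
      linear_combination (star w.1 - w.1) * hiso)).1
    simp only [rp_apply, rr] at this
    have h4 : (2 : K) * (2 * f) = 0 := by linear_combination -this
    rcases mul_eq_zero.1 h4 with h' | h'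
    · rw [h', zero_mul]
    · exact h'
  · have hp : p = 2 := (Nat.prime_dvd_prime_iff_eq Fact.out Nat.prime_two).1
      ((CharP.cast_eq_zero_iff K p 2).1 (by exact_mod_cast h0))
    have sing : ∀ a : K, star g₂ * a ^ 2 + g₂ * star a ^ 2 = 0 := fun a => by
      obtain ⟨c, hc⟩ := (hu a).eq
      have := h2 hp _ hm (0, 0, c) (by simp [hf])
      rw [← hc] at this
      simp only [hf, star_add, star_mul', star_star] at this
      linear_combination this - a * star a * hiso - a * star a * f * star f * h0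
    have s1 := sing 1
    have s2 := sing μ
    rw [star_one] at s1
    have : g₂ * (star μ - μ) ^ 2 = 0 := by
      linear_combination s2 - μ ^ 2 * s1 + g₂ * (μ ^ 2 - μ * star μ) * h0
    exact (mul_eq_zero.1 this).resolve_right (pow_ne_zero 2 hμ')

end CA

open CA in
theorem coreA : CoreAStmt.{v} := by
  intro K _ _ _ p _ _ A T hT hR hA h2
  by_cases hex : ∃ g ∈ A, ¬ StabL g
  swap
  · push Not at hex
    exact ⟨0, 0, 0, by simp, by simp, fun α hα => .inl (hex α hα)⟩
  obtain ⟨g, hg, hn⟩ := hex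
  obtain ⟨t, ht, f, g₁, g₂, hf, hiso, h0, H⟩ := normal_form hT hR hA h2 hg hn
  refine ⟨f, g₁, g₂, hf, hiso, fun α hα => or_iff_not_imp_left.2 fun hn' => ?_⟩
  obtain ⟨t', ht', f', g₁', g₂', hf', hiso', h0', H'⟩ := normal_form hT hR hA h2 hα hn'
  have hm := mul_mem (hT.le ht) hg
  have hm' := mul_mem (hT.le ht') hα
  have hu : InL (t * g) (1, f, g₁ + g₂) := (H _).2 (by simp)
  obtain ⟨r, hr, hr'⟩ : ∃ r ∈ T, InL (t' * α) (r (1, f, g₁ + g₂)) := by
    by_cases h : (2 : K) = 0
    · have hσ : g₁' - g₁ - star (f - f') * f + star (g₁' - g₁ - star (f - f') * f) +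
          (f - f') * star (f - f') = 0 := by
        simp only [star_sub, star_mul', star_star]
        linear_combination hiso' - hiso + (f' * star f' - f * star f) * h
      exact ⟨_, rp_mem hR _ _ hσ, (H' _).2 (by simp [rr, h0 h, h0' h])⟩
    · have e : f = 0 := (mul_eq_zero.1 hf).resolve_left h
      have e' : f' = 0 := (mul_eq_zero.1 hf').resolve_left h
      subst e e'
      obtain ⟨b, hb⟩ := norm_surj (x := -((g₂' + g₁' - g₁ - g₂) + star (g₂' + g₁' - g₁ - g₂)))
        (by simp only [star_neg, star_add, star_star]; ring)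
      have hσ : g₂' + g₁' - g₁ - g₂ + star (g₂' + g₁' - g₁ - g₂) + b * star b = 0 := by
        rw [hb]; ring
      have hr := rp_mem hR _ _ hσ
      refine ⟨_, hr, ti1' hT hR hA (mul_mem (hT.le hr) hm) hm' (inL_mul.2 hu) fun w hw => ?_⟩
      obtain ⟨e1, e2⟩ := (H' w).1 hw
      simp only [bf, U5.hf, rp_apply, rr, e1, e2, star_add, star_sub, star_mul', star_star,
        star_one, star_zero]
      simp only [zero_mul] at hiso'
      linear_combination (star w.1 - w.1) * hiso'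
  refine ⟨r⁻¹ * t', mul_mem (inv_mem hr) ht', fun c => ?_⟩
  have := ti2' hT hR hA hm' (mul_mem (hT.le hr) hm) hr' (inL_mul.2 hu) (fun h => by
    rw [← map_zero' hA (hT.le hr)] at h
    simpa using congrArg Prod.fst (r.injective h)) (inL_apply (t' * α) c)
  rw [show (t' * α) (0, 0, c) = r ((r⁻¹ * t') (α (0, 0, c))) by simp, inL_mul, H] at this
  exact ⟨_, Prod.ext rfl (Prod.ext (by simpa [th] using this.1) (by simpa [th] using this.2))⟩

end Cfsg.Agent.U5
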