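import Cfsg.Agent.Lib.U5.Defs

/-!
Field lemmas and the forms `hf`, `bf` for row COREA of docs/U5_PLAN.md.
-/

set_option autoImplicit false

namespace Cfsg.Agent.U5.CA

open Cfsg.Agent.Fus Subgroup Equiv

universe v

section Fld

variable (K : Type v) [Field K] [Fintype K] [Uf K]

theorem two_le_q : 2 ≤ Uf.q K := by
  have h := Fintype.one_lt_card (α := K)
  rw [Uf.card_eq] at h
  by_contra hq
  have : Uf.q K = 0 ∨ Uf.q K = 1 := by omega
  rcases this with e | e <;> simp [e] at h

theorem exists_star_ne : ∃ μ : K, star μ ≠ μ := by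
  classical
  by_contra h
  push Not at h
  have hq := two_le_q K
  obtain ⟨ζ, hζ⟩ := IsCyclic.exists_generator (α := Kˣ)
  have ho : orderOf ζ = Uf.q K ^ 2 - 1 := by
    rw [orderOf_eq_card_of_forall_mem_zpowers hζ, Nat.card_units, Nat.card_eq_fintype_card,
      Uf.card_eq]
  have e : ζ ^ (Uf.q K - 1) = 1 := by
    have := h ζ
    rw [Uf.star_eq] at this
    apply mul_right_cancel (b := ζ)
    rw [← pow_succ, Nat.sub_add_cancel (by omega), one_mul]
    exact Units.ext (by simpa using this)
  have := Nat.le_of_dvd (by omega) (orderOf_dvd_of_pow_eq_one e)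
  rw [ho] at this
  have : Uf.q K ^ 2 ≤ Uf.q K := by omega
  nlinarith

theorem exists_tr_one : ∃ ω : K, ω + star ω = 1 := by
  have : ∃ x : K, x + star x ≠ 0 := by
    by_contra h
    push Not at h
    obtain ⟨μ, hμ⟩ := exists_star_ne K
    have h1 := h 1
    rw [star_one] at h1
    exact hμ (by linear_combination h μ - μ * h1)
  obtain ⟨x, hx⟩ := this
  refine ⟨x / (x + star x), ?_⟩
  rw [star_div₀, star_add, star_star, add_comm (star x) x]
  field_simp

theorem exists_skew : ∃ τ : K, τ ≠ 0 ∧ τ + star τ = 0 := by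
  obtain ⟨μ, hμ⟩ := exists_star_ne K
  exact ⟨μ - star μ, fun h => hμ (sub_eq_zero.1 h).symm, by simp⟩

variable {K}

theorem exists_tau (b : K) : ∃ τ : K, τ + star τ + b * star b = 0 := by
  obtain ⟨ω, hω⟩ := exists_tr_one K
  refine ⟨-(b * star b * ω), ?_⟩
  simp only [star_neg, star_mul', star_star]
  linear_combination (-(b * star b)) * hω

theorem norm_surj {x : K} (hx : star x = x) : ∃ b : K, b * star b = x := by
  classical
  rcases eq_or_ne x 0 with rfl | h0
  · exact ⟨0, by simp⟩
  have hq := two_le_q K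
  obtain ⟨ζ, hζ⟩ := IsCyclic.exists_monoid_generator (α := Kˣ)
  have ho : orderOf ζ = Uf.q K ^ 2 - 1 := by
    rw [orderOf_eq_card_of_forall_mem_powers hζ, Nat.card_units, Nat.card_eq_fintype_card,
      Uf.card_eq]
  obtain ⟨m, hm⟩ := hζ (Units.mk0 x h0)
  simp only at hm
  have e : ζ ^ (m * (Uf.q K - 1)) = 1 := by
    rw [pow_mul, hm]
    rw [Uf.star_eq] at hx
    apply mul_right_cancel (b := Units.mk0 x h0)
    rw [← pow_succ, Nat.sub_add_cancel (by omega), one_mul]
    exact Units.ext (by simpa using hx)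
  have hd := orderOf_dvd_of_pow_eq_one e
  rw [ho, show Uf.q K ^ 2 - 1 = (Uf.q K + 1) * (Uf.q K - 1) by
    rw [← Nat.pow_two_sub_pow_two]] at hd
  obtain ⟨n, rfl⟩ := Nat.dvd_of_mul_dvd_mul_right (by omega) hd
  refine ⟨(ζ ^ n : Kˣ), ?_⟩
  have := congrArg Units.val hm
  rw [Uf.star_eq, ← pow_succ', ← Units.val_pow_eq_pow_val, ← pow_mul, mul_comm]
  exact this

theorem klin (φ : K → K) (add : ∀ x y, φ (x + y) = φ x + φ y)
    (sm : ∀ l, star l = l → ∀ x, φ (l * x) = l * φ x) :
    ∃ f₁ f₂ : K, ∀ x, φ x = f₁ * x + f₂ * star x := by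
  obtain ⟨μ, hμ⟩ := exists_star_ne K
  have h : μ - star μ ≠ 0 := fun h => hμ (sub_eq_zero.1 h).symm
  have h' : star μ - μ ≠ 0 := fun h => hμ (sub_eq_zero.1 h)
  refine ⟨(φ μ - star μ * φ 1) / (μ - star μ), (μ * φ 1 - φ μ) / (μ - star μ), fun x => ?_⟩
  have e : x = (μ * star x - star μ * x) / (μ - star μ) * 1 + (x - star x) / (μ - star μ) * μ := by
    field_simp; ring
  conv_lhs => rw [e, add, sm _ (by
    simp only [star_div₀, star_sub, star_mul', star_star]; field_simp; ring), sm _ (by
    simp only [star_div₀, star_sub, star_star]; field_simp; ring)]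
  field_simp; ring

theorem eq_zero_of_skew {x : K} (h : ∀ y : K, x * star y - y * star x = 0) : x = 0 := by
  obtain ⟨μ, hμ⟩ := exists_star_ne K
  have h1 := h 1
  have h2 := h μ
  rw [star_one] at h1
  have : x * (star μ - μ) = 0 := by linear_combination h2 - μ * h1
  exact (mul_eq_zero.1 this).resolve_right (sub_ne_zero.2 hμ)

theorem bf_nondeg {u : K × K × K} (h : ∀ v, bf u v = 0) : u = 0 := by
  refine Prod.ext (eq_zero_of_skew fun y => ?_) (Prod.ext (eq_zero_of_skew fun y => ?_)
    (eq_zero_of_skew fun y => ?_))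
  · simpa [bf, hf] using h (0, 0, y)
  · simpa [bf, hf] using h (0, y, 0)
  · simpa [bf, hf] using h (y, 0, 0)

end Fld

section Form

variable {K : Type v} [Field K] [StarRing K]

theorem bf_add_left (u u' v : K × K × K) : bf (u + u') v = bf u v + bf u' v := by
  simp only [bf, hf, Prod.fst_add, Prod.snd_add, star_add]; ring

theorem bf_sub_left (u u' v : K × K × K) : bf (u - u') v = bf u v - bf u' v := by
  simp only [bf, hf, Prod.fst_sub, Prod.snd_sub, star_sub]; ring

theorem bf_add_right (u v v' : K × K × K) : bf u (v + v') = bf u v + bf u v' := by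
  simp only [bf, hf, Prod.fst_add, Prod.snd_add, star_add]; ring

theorem bf_smul_left {l : K} (hl : star l = l) (u v : K × K × K) : bf (l • u) v = l * bf u v := by
  simp only [bf, hf, Prod.smul_fst, Prod.smul_snd, smul_eq_mul, star_mul', hl]; ring

theorem bf_smul_right {l : K} (hl : star l = l) (u v : K × K × K) : bf u (l • v) = l * bf u v := by
  simp only [bf, hf, Prod.smul_fst, Prod.smul_snd, smul_eq_mul, star_mul', hl]; ring

theorem bf_swap (u v : K × K × K) : bf u v = -bf v u := by
  simp only [bf]; ring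

theorem hf_rr {b τ : K} (h : τ + star τ + b * star b = 0) (u v : K × K × K) :
    hf (rr b τ u) (rr b τ v) = hf u v := by
  simp only [hf, rr, star_add, star_sub, star_mul', star_star]
  linear_combination (u.1 * star v.1) * h

theorem bf_rr {b τ : K} (h : τ + star τ + b * star b = 0) (u v : K × K × K) :
    bf (rr b τ u) (rr b τ v) = bf u v := by
  simp only [bf, hf_rr h]

/-- `rr b τ` as a permutation. -/
def rp (b τ : K) (h : τ + star τ + b * star b = 0) : Perm (K × K × K) where
  toFun := rr b τ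
  invFun := rr (-b) (star τ)
  left_inv u := by
    refine Prod.ext rfl (Prod.ext ?_ ?_) <;> simp only [rr, star_neg]
    · ring
    · linear_combination u.1 * h
  right_inv u := by
    refine Prod.ext rfl (Prod.ext ?_ ?_) <;> simp only [rr, star_neg]
    · ring
    · linear_combination u.1 * h

@[simp] theorem rp_apply (b τ : K) (h : τ + star τ + b * star b = 0) (u : K × K × K) :
    rp b τ h u = rr b τ u := rfl

theorem rp_mem {T : Subgroup (Perm (K × K × K))} (hR : IsR T) (b τ : K)
    (h : τ + star τ + b * star b = 0) : rp b τ h ∈ T := (hR _).2 ⟨b, τ, h, fun _ => rfl⟩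

end Form

end Cfsg.Agent.U5.CA
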