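import Cfsg.Agent.Lib.U5.Basic
import Cfsg.Agent.Lib.U5.CoreA0

/-!
Row COREB of docs/U5_PLAN.md.
-/

set_option autoImplicit false

namespace Cfsg.Agent.U5

open Subgroup Equiv

universe v

namespace CB

variable {K : Type v} [Field K] [Fintype K] [Uf K] {A T : Subgroup (Perm (K × K × K))}

/-- The opposite root elements. -/
def rr' (b τ : K) (u : K × K × K) : K × K × K :=
  (u.1 + star b * u.2.1 + τ * u.2.2, u.2.1 - b * u.2.2, u.2.2)

theorem map_zero' (hB : PresB A) {α : Perm (K × K × K)} (hα : α ∈ A) : α 0 = 0 := by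
  have := (hB α hα).1 0 0
  rw [add_zero] at this
  exact left_eq_add.1 this

theorem fix_L (hR : IsR T) {t : Perm (K × K × K)} (ht : t ∈ T) (c : K) : t (0, 0, c) = (0, 0, c) := by
  obtain ⟨b, τ, -, h⟩ := (hR t).1 ht
  rw [h]; simp [rr]

theorem exists_swap (hT : T ≤ A) (hR : IsR T) (hB : PresB A) (hγ : ∃ γ ∈ A, ¬ StabL γ)
    (h : ∀ α ∈ A, StabL α ∨ ∃ t ∈ T, ∀ c, ∃ a, t (α (0, 0, c)) = (a, 0, 0)) :
    ∃ n ∈ A, ∃ n₁ n₂ n₃ : K → K, Function.Bijective n₁ ∧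
      ∀ a d c, n (a, d, c) = (n₁ c, n₂ d, n₃ a) := by
  obtain ⟨γ, hγA, hγ⟩ := hγ
  obtain ⟨t, ht, h₁⟩ := (h γ hγA).resolve_left hγ
  have hg : t * γ ∈ A := mul_mem (hT ht) hγA
  have hns : ¬ StabL (t * γ)⁻¹ := fun hs => by
    obtain ⟨e₁, e₂⟩ := hs 1
    obtain ⟨a, ha⟩ := h₁ ((t * γ)⁻¹ (0, 0, 1)).2.2
    have : (t * γ)⁻¹ (0, 0, 1) = (0, 0, ((t * γ)⁻¹ (0, 0, 1)).2.2) := Prod.ext e₁ (Prod.ext e₂ rfl)
    rw [← this, ← Perm.mul_apply, ← Perm.mul_apply, mul_inv_cancel] at ha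
    simp at ha
  obtain ⟨s, hs, h₂⟩ := (h _ (inv_mem hg)).resolve_left hns
  have hn : t * γ * s⁻¹ ∈ A := mul_mem hg (inv_mem (hT hs))
  set n := t * γ * s⁻¹ with hn'
  have e₁ : ∀ c, ∃ a, n (0, 0, c) = (a, 0, 0) := fun c => by
    rw [hn', Perm.mul_apply, fix_L hR (inv_mem hs)]
    exact h₁ c
  have e₂ : ∀ c, ∃ a, n (a, 0, 0) = (0, 0, c) := fun c => by
    obtain ⟨a, ha⟩ := h₂ c
    refine ⟨a, ?_⟩
    rw [hn', ← ha, ← Perm.mul_apply, ← Perm.mul_apply, inv_mul_cancel_right, mul_inv_cancel]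
    rfl
  choose n₁ hn₁ using e₁
  choose m₃ hm₃ using e₂
  have i₁ : Function.Injective n₁ := fun x y e => by
    have := n.injective ((hn₁ x).trans (e ▸ (hn₁ y).symm))
    simpa using this
  have i₃ : Function.Injective m₃ := fun x y e => by
    have := (hm₃ x).symm.trans (e ▸ hm₃ y)
    simpa using this
  have b₁ := Finite.injective_iff_bijective.1 i₁
  have b₃ := Finite.injective_iff_surjective.1 i₃
  have e₃ : ∀ a, ∃ c, n (a, 0, 0) = (0, 0, c) := fun a => by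
    obtain ⟨c, rfl⟩ := b₃ a
    exact ⟨c, hm₃ c⟩
  choose n₃ hn₃ using e₃
  have e₄ : ∀ d, n (0, d, 0) = (0, (n (0, d, 0)).2.1, 0) := fun d => by
    have k : ∀ v, bf (0, d, 0) v = 0 → bf (n (0, d, 0)) (n v) = 0 := fun v hv => by
      rw [(hB n hn).2 _ _ 0 0 (by rw [hv]; simp [bf]), map_zero' hB hn]; simp [bf]
    refine Prod.ext (CA.eq_zero_of_skew fun y => ?_) (Prod.ext rfl (CA.eq_zero_of_skew fun y => ?_))
    · have := k (m₃ y, 0, 0) (by simp [bf, hf])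
      rw [hm₃] at this
      simpa [bf, hf] using this
    · obtain ⟨c, rfl⟩ := b₁.2 y
      have := k (0, 0, c) (by simp [bf, hf])
      rw [hn₁] at this
      simpa [bf, hf] using this
  refine ⟨n, hn, n₁, fun d => (n (0, d, 0)).2.1, n₃, b₁, fun a d c => ?_⟩
  have : ((a, d, c) : K × K × K) = (a, 0, 0) + (0, d, 0) + (0, 0, c) := by simp
  rw [this, (hB n hn).1, (hB n hn).1, hn₁, hn₃, e₄]
  simp

theorem exists_semi (hT : T ≤ A) (hR : IsR T) (hB : PresB A) (hγ : ∃ γ ∈ A, ¬ StabL γ)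
    (h : ∀ α ∈ A, StabL α ∨ ∃ t ∈ T, ∀ c, ∃ a, t (α (0, 0, c)) = (a, 0, 0)) :
    ∃ n ∈ A, ∃ (l₁ l₂ l₃ : K) (σ : K ≃+* K), l₁ ≠ 0 ∧ l₂ ≠ 0 ∧ l₃ ≠ 0 ∧
      l₁ * star l₃ = l₂ * star l₂ ∧ ∀ a d c, n (a, d, c) = (l₁ * σ c, l₂ * σ d, l₃ * σ a) := by
  obtain ⟨n, hn, n₁, n₂, n₃, b₁, e⟩ := exists_swap hT hR hB hγ h
  have z := e 0 0 0
  rw [show ((0, 0, 0) : K × K × K) = 0 from rfl, map_zero' hB hn] at z
  have z₁ : n₁ 0 = 0 := (congrArg Prod.fst z).symm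
  have z₂ : n₂ 0 = 0 := (congrArg (fun u => u.2.1) z).symm
  have z₃ : n₃ 0 = 0 := (congrArg (fun u => u.2.2) z).symm
  have add₁ : ∀ x y, n₁ (x + y) = n₁ x + n₁ y := fun x y => by
    have := (hB n hn).1 (0, 0, x) (0, 0, y)
    rw [Prod.mk_add_mk, Prod.mk_add_mk, e, e, e] at this
    exact congrArg Prod.fst this
  have key : ∀ b τ : K, τ + star τ + b * star b = 0 → τ ≠ 0 → ∃ b' τ' : K,
      τ' + star τ' + b' * star b' = 0 ∧ ∀ a, n₂ (-(b * a)) = b' * n₁ (τ * a) ∧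
        n₃ a = star τ' * n₁ (τ * a) := fun b τ hb hτ => by
    have hα : n * CA.rp b τ hb * n ∈ A := mul_mem (mul_mem hn (hT (CA.rp_mem hR b τ hb))) hn
    have ev : ∀ c, (n * CA.rp b τ hb * n) (0, 0, c) =
        (n₁ (τ * n₁ c), n₂ (-(b * n₁ c)), n₃ (n₁ c)) := fun c => by
      rw [Perm.mul_apply, Perm.mul_apply, e 0 0 c, z₂, z₃, CA.rp_apply]
      simp [rr, e]
    rcases h _ hα with hs | ⟨t, ht, hs⟩
    · obtain ⟨c, hc⟩ := b₁.2 1
      have := (hs c).1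
      rw [ev, hc, mul_one, ← z₁] at this
      exact absurd (b₁.1 this) hτ
    obtain ⟨b', τ', hb', ht'⟩ := (hR t).1 ht
    refine ⟨b', τ', hb', fun a => ?_⟩
    obtain ⟨c, rfl⟩ := b₁.2 a
    obtain ⟨x, hx⟩ := hs c
    rw [ev, ht'] at hx
    simp only [rr, Prod.mk.injEq] at hx
    obtain ⟨-, h₂, h₃⟩ := hx
    exact ⟨by linear_combination h₂,
      by linear_combination h₃ - star b' * h₂ - n₁ (τ * n₁ c) * hb'⟩
  have ex : ∀ τ : K, ∃ b : K, τ + star τ + b * star b = 0 := fun τ => by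
    obtain ⟨b, hb⟩ := exists_norm (y := -(τ + star τ)) (by simp [add_comm])
    exact ⟨b, by rw [hb]; ring⟩
  have n1 : n₁ 1 ≠ 0 := fun h' => one_ne_zero (b₁.1 (h'.trans z₁.symm))
  have n3 : n₃ 1 ≠ 0 := fun h' => by
    have := n.injective ((e 1 0 0).trans (by rw [e, h', z₃] : _ = n (0, 0, 0)))
    simp at this
  have n2 : n₂ 1 ≠ 0 := fun h' => by
    have := n.injective ((e 0 1 0).trans (by rw [e, h', z₂] : _ = n (0, 0, 0)))
    simp at this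
  obtain ⟨b₀, hb₀⟩ := ex 1
  obtain ⟨b₀', e₀, -, he₀⟩ := key b₀ 1 hb₀ one_ne_zero
  simp only [one_mul] at he₀
  have mul₁ : ∀ x y, n₁ (x * y) = n₁ x / n₁ 1 * n₁ y := fun x y => by
    rcases eq_or_ne x 0 with rfl | hx
    · simp [z₁]
    obtain ⟨b, hb⟩ := ex x
    obtain ⟨b', τ', -, h'⟩ := key b x hb hx
    have h₁ := (h' 1).2
    have h₂ := (h' y).2
    have hτ : star τ' ≠ 0 := fun h0 => n3 (by rw [h₁, h0, zero_mul])
    rw [mul_one, (he₀ 1).2] at h₁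
    rw [(he₀ y).2] at h₂
    field_simp
    apply mul_left_cancel₀ hτ
    linear_combination n₁ y * h₁ - n₁ 1 * h₂
  obtain ⟨σ, -, -, hσ⟩ := semilin (fun x => n₁ x / n₁ 1) n₁ n₁ add₁ mul₁ n1
  have h₃ : ∀ a, n₃ a = n₃ 1 * σ a := fun a => by rw [(he₀ a).2, (he₀ 1).2, hσ a]; ring
  obtain ⟨τ₁, hτ₁⟩ := CA.exists_tau (-1 : K)
  have hτ₁' : τ₁ ≠ 0 := by rintro rfl; simp at hτ₁
  obtain ⟨b₁', τ₁', -, he₁⟩ := key (-1) τ₁ hτ₁ hτ₁'
  simp only [neg_mul, one_mul, neg_neg] at he₁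
  have h₂ : ∀ a, n₂ a = n₂ 1 * σ a := fun a => by
    rw [(he₁ a).1, (he₁ 1).1, hσ (τ₁ * a), hσ (τ₁ * 1), map_mul, map_mul, map_one]; ring
  refine ⟨n, hn, n₁ 1, n₂ 1, n₃ 1, σ, n1, n2, n3, ?_, fun a d c => by rw [e, ← hσ, ← h₂, ← h₃]⟩
  refine sub_eq_zero.1 (eq_zero_of_lin (e' := star (n₁ 1) * n₃ 1 - n₂ 1 * star (n₂ 1))
    fun y => ?_).1
  obtain ⟨τ, rfl⟩ := σ.surjective y
  rcases eq_or_ne τ 0 with rfl | hτ
  · simp
  obtain ⟨b, hb⟩ := ex τ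
  obtain ⟨b', τ', hb', h'⟩ := key b τ hb hτ
  obtain ⟨k₁, k₂⟩ := h' 1
  rw [h₂, hσ (τ * 1), mul_one, mul_one, map_neg] at k₁
  rw [hσ (τ * 1), mul_one] at k₂
  have k₃ := congrArg σ hb
  simp only [map_add, map_mul, map_star', map_zero] at k₃
  have k₄ := congrArg star k₁
  have k₅ := congrArg star k₂
  simp only [star_mul', star_neg, star_star] at k₄ k₅
  linear_combination (n₁ 1 * σ τ) * k₅ + (star (n₁ 1) * star (σ τ)) * k₂ +
    (n₁ 1 * σ τ * star (n₁ 1) * star (σ τ)) * hb' - (n₂ 1 * star (n₂ 1)) * k₃ +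
    (-(star (n₂ 1)) * star (σ b)) * k₁ + (b' * n₁ 1 * σ τ) * k₄

theorem exists_opp (hT : T ≤ A) (hR : IsR T) (hB : PresB A) (hγ : ∃ γ ∈ A, ¬ StabL γ)
    (h : ∀ α ∈ A, StabL α ∨ ∃ t ∈ T, ∀ c, ∃ a, t (α (0, 0, c)) = (a, 0, 0)) (b τ : K)
    (hb : τ + star τ + b * star b = 0) : ∃ r ∈ A, ∀ u, r u = rr' b τ u := by
  obtain ⟨n, hn, l₁, l₂, l₃, σ, h₁, h₂, h₃, hl, e⟩ := exists_semi hT hR hB hγ h
  have h₁' := star_ne_zero.2 h₁
  have h₂' := star_ne_zero.2 h₂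
  have hl' := congrArg star hl
  simp only [star_mul', star_star] at hl'
  have hb' : σ.symm (l₃ * τ / l₁) + star (σ.symm (l₃ * τ / l₁)) +
      σ.symm (l₃ * b / l₂) * star (σ.symm (l₃ * b / l₂)) = 0 := by
    apply σ.injective
    simp only [map_add, map_mul, map_star', map_zero, RingEquiv.apply_symm_apply, star_div₀,
      star_mul']
    field_simp
    linear_combination (l₃ * star l₃ * l₁ * star l₁) * hb - (l₃ * τ * star l₁) * hl -
      (star l₃ * star τ * l₁) * hl'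
  refine ⟨n * CA.rp _ _ hb' * n⁻¹, mul_mem (mul_mem hn (hT (CA.rp_mem hR _ _ hb'))) (inv_mem hn),
    fun u => ?_⟩
  obtain ⟨⟨a, d, c⟩, rfl⟩ := n.surjective u
  rw [← Perm.mul_apply, inv_mul_cancel_right, Perm.mul_apply, CA.rp_apply, rr, e, e, rr']
  simp only [map_add, map_sub, map_mul, map_star', RingEquiv.apply_symm_apply, star_div₀,
    star_mul', Prod.mk.injEq, and_true]
  constructor
  · field_simp
    linear_combination (star b * σ d) * hl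
  · field_simp

end CB

theorem coreB : CoreBStmt.{v} := by
  intro K _ _ _ A T hT hR hB hγ h τ hτ
  have hτ' := star_ne_zero.2 hτ
  obtain ⟨b, hb⟩ := exists_norm (y := -(τ + star τ)) (by simp [add_comm])
  have hb₀ : τ + star τ + b * star b = 0 := by rw [hb]; ring
  obtain ⟨r₁, h₁, e₁⟩ := CB.exists_opp hT hR hB hγ h (-b / τ) (1 / star τ) (by
    simp only [star_div₀, star_neg, star_one, star_star]; field_simp; linear_combination hb₀)
  obtain ⟨r₂, h₂, e₂⟩ := CB.exists_opp hT hR hB hγ h (-b / star τ) (1 / star τ) (by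
    simp only [star_div₀, star_neg, star_one, star_star]; field_simp; linear_combination hb₀)
  refine ⟨r₁ * CA.rp b τ hb₀ * r₂, mul_mem (mul_mem h₁ (hT (CA.rp_mem hR _ _ hb₀))) h₂,
    fun a d c => ?_⟩
  rw [Perm.mul_apply, Perm.mul_apply, e₂, CA.rp_apply, e₁]
  simp only [CB.rr', rr, star_div₀, star_neg, star_star, Prod.mk.injEq]
  refine ⟨?_, ?_, ?_⟩ <;> field_simp
  · linear_combination ((a * τ - star b * d) * star τ + τ * c) * hb₀
  · linear_combination (d * star τ + b * c) * hb₀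
  · linear_combination c * hb₀

end Cfsg.Agent.U5
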