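import Cfsg.Agent.Lib.U5.Basic

/-!
Extension of automorphisms of `Q₁`, `Q₂` to `S`; essential `Q₁`, `Q₂` move `Z₂`, `Z₃`.
-/

set_option autoImplicit false

namespace Cfsg.Agent.U5

open Cfsg.Agent.Fus Cfsg.Agent.Fus2 Subgroup

universe u v

/-- An `F`-automorphism of `E ⊴ S` preserving a chain stabilised by `S` extends to `S`. -/
theorem ext_of_chain {Ω : Type*} [Group Ω] {S : Subgroup Ω} [Finite S] {p : ℕ} [Fact p.Prime]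
    (hS : IsPGroup p S) {F : FusionSystem S} (hF : F.IsSaturated p) {E : Subgroup Ω} (hES : E ≤ S)
    (hn : S ≤ normalizer (E : Set Ω)) (C : ℕ → Subgroup Ω) (n : ℕ)
    (hC : ∀ i < n, C i ≤ C (i + 1)) (htop : E ≤ C n) (hbot : C 0 = ⊥)
    (hT : ∀ g ∈ S, ∀ i < n, ∀ x ∈ E, x ∈ C (i + 1) → x⁻¹ * (g * x * g⁻¹) ∈ C i) {f : Ω → Ω}
    (hf : M F E f) (hm : ∀ x ∈ E, f x ∈ E) (hi : ∀ i ≤ n, ∀ x ∈ E, x ∈ C i → f x ∈ C i) :
    ∃ g, M F S g ∧ ∀ x ∈ E, g x = f x := by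
  haveI := Fus.finite_of_le hES
  obtain ⟨η, hη, e⟩ := hf.exists_aut' hm
  have hE := isFullyNormalized_of_normal (F := F) hES hn
  have hs := sat_sylow hS hF hE
  let A : Subgroup (MulAut E) := F.autGroup E ⊓ ⨅ i ≤ n, Ess.stabSub ((C i).subgroupOf E)
  have hA : ∀ β, β ∈ A ↔ β ∈ F.autGroup E ∧ ∀ i ≤ n, ∀ x ∈ (C i).subgroupOf E,
      β x ∈ (C i).subgroupOf E := fun β => by
    simp only [A, mem_inf, mem_iInf]; rfl
  have hT' : ∀ τ ∈ autInducedBy S E, ∀ i < n,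
      TrivOn τ ((C (i + 1)).subgroupOf E) ((C i).subgroupOf E) := fun τ hτ i hi x hx => by
    obtain ⟨g, hg, e⟩ := Fus2.mem_autInducedBy_iff.1 hτ
    have := hT g hg i hi x x.2 hx
    rwa [← e x x.2, afn_coe] at this
  have hTA : autInducedBy S E ≤ A := fun τ hτ => (hA τ).2 ⟨hs.le hτ, fun i hi x hx => by
    rcases i with _ | i
    · rw [hbot, bot_subgroupOf, mem_bot] at hx ⊢
      rw [hx, map_one]
    · exact (hT' τ hτ i hi).apply_mem (subgroupOf_mono _ (hC i hi)) hx⟩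
  have hO : (pCore p A).map A.subtype = autInducedBy S E :=
    hs.eq_of_le (Fit.isPGroup_map_pCore_subtype _) (fun τ hτ =>
      mem_map_pCore_of_chain (isPGroup_of_le hS hES) (fun i => (C i).subgroupOf E) n
        (fun i hi => subgroupOf_mono _ (hC i hi)) (subgroupOf_eq_top.2 htop)
        (fun β hβ => ((hA β).1 hβ).2) (fun β _ _ => ⟨0, fun x hx => by
          rw [hbot, bot_subgroupOf, mem_bot] at hx
          rw [hx, map_one]⟩) (hTA hτ) (hT' τ hτ))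
      ((map_subtype_le _).trans inf_le_left)
  have hηA : η ∈ A := (hA η).2 ⟨hη, fun i hi' x hx => by
    have := hi i hi' x x.2 hx
    rwa [← e x x.2, afn_coe] at this⟩
  obtain ⟨g, hg, -, e'⟩ := Ess.exists_ext_normalizerIn hS hF hE hη
    (hO ▸ (le_normalizer.trans (Fit.normalizer_le_normalizer_map_char _ _)) hηA)
  exact ⟨g, hg.mono fun x hx => ⟨hx, hn hx⟩, fun x hx => (e' x hx).trans (e x hx)⟩

variable {K : Type v} [Field K] [Fintype K] [Uf K]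

theorem mem_Q2_of_comm {x : P K} (h : ∀ y ∈ Z2 K, x * y = y * x) : x ∈ Q2 K := by
  refine eq_zero_of_real (K := K) fun y => ?_
  have := (commute_iff.1 (h (xw (star y) 0 0 (by simp) (by simp)) ⟨rfl, rfl, rfl, rfl⟩)).2.2.2
  simp at this
  rw [star_mul', this, mul_comm]

theorem mem_Z_of_comm {x : P K} (hx : x ∈ Q1 K) (h : ∀ y ∈ Q1 K, x * y = y * x) : x ∈ Z K := by
  have ha : x.a = 0 := mem_Q2_of_comm fun y hy => h y (Z2_le_Q1 hy)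
  have hd : x.d = 0 := eq_zero_of_real fun y => by
    obtain ⟨w, h₁, h₂, h₃, h₄, h₅⟩ := exists_elt 0 0 (star y) (0 : K)
    have := (commute_iff.1 (h w ⟨h₂, h₅ rfl⟩)).2.2.2
    simp [h₁, h₂, h₃, h₄, ha] at this
    rw [star_mul', this, mul_comm]
  have hc : x.c = 0 := eq_zero_of_real fun y => by
    obtain ⟨w, h₁, h₂, h₃, h₄, h₅⟩ := exists_elt (star y) 0 0 (0 : K)
    have := (commute_iff.1 (h w ⟨h₂, h₅ rfl⟩)).2.2.2
    simp [h₁, h₂, h₃, h₄, ha, hd] at this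
    rw [star_mul', this, mul_comm]
  exact ⟨ha, hx.1, hd, hx.2, hc⟩

theorem exists_icj_Z {x : P K} (hx : x ∈ Z K) :
    ∃ g ∈ Z3 K, ∃ y ∈ Z3 K, x = y⁻¹ * (g * y * g⁻¹) := by
  obtain ⟨t, ht, ht'⟩ := exists_k0_ne K
  have hz : star x.z = -x.z := by rw [P.star_z]; simp [hx.1, hx.2.2.1]
  obtain ⟨r, hr⟩ := exists_trace (y := x.z / t) (by rw [star_div₀, hz, ht', neg_div_neg_eq])
  obtain ⟨g, g₁, g₂, g₃, -⟩ := exists_elt 0 0 1 (0 : K)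
  obtain ⟨y, y₁, y₂, y₃, -⟩ := exists_elt 0 0 (t * r) (0 : K)
  have h := icj_Z3 (g := g) (x := y) ⟨g₁, g₂⟩ ⟨y₁, y₂⟩
  refine ⟨g, ⟨g₁, g₂⟩, y, ⟨y₁, y₂⟩, P.ext (hx.1.trans h.1.symm) (hx.2.1.trans h.2.1.symm)
    (hx.2.2.1.trans h.2.2.1.symm) (hx.2.2.2.2.trans h.2.2.2.2.symm)
    (hx.2.2.2.1.trans h.2.2.2.1.symm) ?_⟩
  simp [g₁, g₂, g₃, y₁, y₂, y₃, P.star_z, ht']
  field_simp at hr
  linear_combination -hr

theorem exists_icj_Z2 {x : P K} (hx : x ∈ Z2 K) :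
    ∃ g ∈ Q2 K, ∃ y ∈ Z3 K, ∃ z ∈ Z K, x = y⁻¹ * (g * y * g⁻¹) * z := by
  obtain ⟨g, g₁, g₂, -⟩ := exists_elt 0 1 0 (0 : K)
  obtain ⟨y, y₁, y₂, y₃, -⟩ := exists_elt 0 0 x.c (0 : K)
  have h := icj_mem_Z2 g (x := y) ⟨y₁, y₂⟩
  have hc : (y⁻¹ * (g * y * g⁻¹)).c = x.c := by rw [icj_c]; simp [g₁, g₂, y₁, y₂, y₃]
  refine ⟨g, g₁, y, ⟨y₁, y₂⟩, (y⁻¹ * (g * y * g⁻¹))⁻¹ * x, ?_, by group⟩
  generalize y⁻¹ * (g * y * g⁻¹) = w at h hc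
  simp [mem_Z, hx.1, hx.2.1, hx.2.2.1, hx.2.2.2, h.1, h.2.1, h.2.2.1, h.2.2.2, hc]

variable {F : FusionSystem (⊤ : Subgroup (P K))} {f : P K → P K}

theorem Au.surj {Q R : Subgroup (P K)} (hf : Au F Q f) (hR : R ≤ Q) (h : ∀ x ∈ R, f x ∈ R)
    {y : P K} (hy : y ∈ R) : ∃ x ∈ R, f x = y := by
  rw [← (hf.1.mono hR).img_eq_self h] at hy
  exact (hf.1.mono hR).homOn.mem_img.1 hy

theorem Au.icj {Q : Subgroup (P K)} (hf : Au F Q f) {g y : P K} (hg : g ∈ Q) (hy : y ∈ Q) :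
    f (y⁻¹ * (g * y * g⁻¹)) = (f y)⁻¹ * (f g * f y * (f g)⁻¹) := by
  have h := hf.1.homOn
  rw [h.map_mul (inv_mem hy) (mul_mem (mul_mem hg hy) (inv_mem hg)),
    h.map_mul (mul_mem hg hy) (inv_mem hg), h.map_mul hg hy, h.map_inv hy, h.map_inv hg]

theorem Au.comm {Q : Subgroup (P K)} (hf : Au F Q f) {x y : P K} (hx : x ∈ Q) (hy : y ∈ Q)
    (h : x * y = y * x) : f x * f y = f y * f x := by
  rw [← hf.1.homOn.map_mul hx hy, h, hf.1.homOn.map_mul hy hx]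

theorem Au.Z_of_Q1 (hf : Au F (Q1 K) f) {x : P K} (hx : x ∈ Z K) : f x ∈ Z K :=
  mem_Z_of_comm (hf.2 x (Z2_le_Q1 (Z_le_Z2 hx))) fun y hy => by
    obtain ⟨w, hw, rfl⟩ := hf.surj le_rfl hf.2 hy
    exact hf.comm (Z2_le_Q1 (Z_le_Z2 hx)) hw (comm_Z hx w)

theorem Au.Y3_of_Q1 (hf : Au F (Q1 K) f) (h : ∀ x ∈ Z2 K, f x ∈ Z2 K) {x : P K} (hx : x ∈ Y3 K) :
    f x ∈ Y3 K :=
  ⟨mem_Q2_of_comm fun y hy => by
    obtain ⟨w, hw, rfl⟩ := hf.surj Z2_le_Q1 h hy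
    exact hf.comm (Y3_le_Q1 hx) (Z2_le_Q1 hw) (comm_W (Z2_le_W hw) hx.1).symm,
   hf.2 x (Y3_le_Q1 hx)⟩

theorem Au.Z_of_Q2 (hf : Au F (Q2 K) f) (h : ∀ x ∈ Z3 K, f x ∈ Z3 K) {x : P K} (hx : x ∈ Z K) :
    f x ∈ Z K := by
  obtain ⟨g, hg, y, hy, rfl⟩ := exists_icj_Z hx
  rw [hf.icj (Z3_le_Q2 hg) (Z3_le_Q2 hy)]
  exact icj_Z3 (h g hg) (h y hy)

theorem Au.Z2_of_Q2 (hf : Au F (Q2 K) f) (h : ∀ x ∈ Z3 K, f x ∈ Z3 K) {x : P K} (hx : x ∈ Z2 K) :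
    f x ∈ Z2 K := by
  obtain ⟨g, hg, y, hy, z, hz, rfl⟩ := exists_icj_Z2 hx
  rw [hf.1.homOn.map_mul (W_le_Q2 (Z2_le_W (icj_mem_Z2 g hy))) (W_le_Q2 (Z2_le_W (Z_le_Z2 hz))),
    hf.icj hg (Z3_le_Q2 hy)]
  exact mul_mem (icj_mem_Z2 _ (h y hy)) (Z_le_Z2 (hf.Z_of_Q2 h hz))

/-- The chain `1 < Z < Z₂ < B < S`. -/
def ch (B : Subgroup (P K)) (i : ℕ) : Subgroup (P K) :=
  if i = 0 then ⊥ else if i = 1 then Z K else if i = 2 then Z2 K else if i = 3 then B else ⊤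

theorem ch_mono {B : Subgroup (P K)} (hB : Z2 K ≤ B) : ∀ i < 4, ch B i ≤ ch B (i + 1) := by
  intro i hi
  interval_cases i <;> simp [ch, Z_le_Z2, hB]

theorem ch_triv {B E : Subgroup (P K)} (hB : B ≤ Z3 K)
    (hE : ∀ g, ∀ x ∈ E, x⁻¹ * (g * x * g⁻¹) ∈ B) (g : P K) :
    ∀ i < 4, ∀ x ∈ E, x ∈ ch B (i + 1) → x⁻¹ * (g * x * g⁻¹) ∈ ch B i := by
  intro i hi x hx hx'
  interval_cases i
  · exact mem_bot.2 (by rw [conj_Z hx' g, inv_mul_cancel])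
  · exact icj_mem_Z g hx'
  · exact icj_mem_Z2 g (hB hx')
  · exact hE g x hx

theorem ch_inv {B E : Subgroup (P K)} (hf : Au F E f) (h₁ : ∀ x ∈ Z K, f x ∈ Z K)
    (h₂ : ∀ x ∈ Z2 K, f x ∈ Z2 K) (h₃ : ∀ x ∈ B, f x ∈ B) :
    ∀ i ≤ 4, ∀ x ∈ E, x ∈ ch B i → f x ∈ ch B i := by
  intro i hi x _ hx
  interval_cases i
  · rw [show x = 1 from hx, hf.1.homOn.map_one]; exact one_mem _
  · exact h₁ x hx
  · exact h₂ x hx
  · exact h₃ x hx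
  · trivial

theorem ext : ExtStmt.{v} := by
  intro K _ _ _ p _ _ F hF
  exact ⟨fun f hf h => ext_of_chain (pg_top K p) hF le_top (normalizer_eq_top _).ge (ch (Y3 K)) 4
    (ch_mono Z2_le_Y3) le_top rfl (fun g _ => ch_triv Y3_le_Z3 (fun g x => icj_Q1_Y3 g) g) hf.1 hf.2
    (ch_inv hf (fun x => hf.Z_of_Q1) h fun x => hf.Y3_of_Q1 h),
    fun f hf h => ext_of_chain (pg_top K p) hF le_top (normalizer_eq_top _).ge (ch (Z3 K)) 4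
    (ch_mono Z2_le_Z3) le_top rfl (fun g _ => ch_triv le_rfl (fun g x _ => icj_mem_Z3 g x) g) hf.1
    hf.2 (ch_inv hf (fun x => hf.Z_of_Q2 h) (fun x => hf.Z2_of_Q2 h) h)⟩

theorem au_afn {E : Subgroup (P K)} {β : MulAut E} (hβ : β ∈ F.autGroup E) : Au F E (afn β) :=
  ⟨M_afn le_top hβ, fun _ hx => afn_mem β hx⟩

variable {p : ℕ} [Fact p.Prime] [CharP K p] (hF : F.IsSaturated p)
include hF

/-- An essential subgroup has no invariant chain `1 < Z < Z₂ < B < E` stabilised by `S`. -/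
theorem not_ch {B E : Subgroup (P K)} (hE : F.IsEssential p E) (h₁ : Z2 K ≤ B) (h₂ : B ≤ Z3 K)
    (h₃ : ∀ g, ∀ x ∈ E, x⁻¹ * (g * x * g⁻¹) ∈ B)
    (h : ∀ f, Au F E f → (∀ x ∈ Z K, f x ∈ Z K) ∧ (∀ x ∈ Z2 K, f x ∈ Z2 K) ∧ ∀ x ∈ B, f x ∈ B) :
    False :=
  (lt_of_isEssential (pg_top K p) hF hE).not_ge (le_of_conjAut_mem_autCore (pg_top K p) hE.1
    (isRadical_of_isEssential (pg_top K p) hE) le_rfl (le_top.trans le_normalizer) fun g hg hN =>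
      mem_autCore_of_chain' (pg_top K p) le_top (ch B) 4 (ch_mono h₁) le_top rfl
        (fun β hβ => have := h _ (au_afn hβ); ch_inv (au_afn hβ) this.1 this.2.1 this.2.2)
        (conjAut_mem_autGroup le_top hg hN) fun i hi x hx hx' => by
          rw [afn_conjAut hN hx]
          exact ch_triv h₂ h₃ g i hi x hx hx')

theorem mv1_of_ess (hE : F.IsEssential p (Q1 K)) : Mv1 F := by
  by_contra h
  simp only [Mv1, not_exists, not_and, not_not] at h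
  exact not_ch hF hE Z2_le_Y3 Y3_le_Z3 (fun g x => icj_Q1_Y3 g) fun f hf =>
    ⟨fun x => hf.Z_of_Q1, h f hf, fun x => hf.Y3_of_Q1 (h f hf)⟩

theorem mv2_of_ess (hE : F.IsEssential p (Q2 K)) : Mv2 F := by
  by_contra h
  simp only [Mv2, not_exists, not_and, not_not] at h
  exact not_ch hF hE Z2_le_Z3 le_rfl (fun g x _ => icj_mem_Z3 g x) fun f hf =>
    ⟨fun x => hf.Z_of_Q2 (h f hf), fun x => hf.Z2_of_Q2 (h f hf), h f hf⟩

end Cfsg.Agent.U5
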