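import Cfsg.Agent.Lib.U5.Ext
import Cfsg.Agent.Lib.U5.CoreA

/-!
Row L1 of docs/U5_PLAN.md: the structure of `Aut_F(Q₁)`.
-/

set_option autoImplicit false

namespace Cfsg.Agent.U5

open Cfsg.Agent.Fus Cfsg.Agent.Fus2 Subgroup Equiv

universe v

namespace L1

section Th

variable {K : Type v} [Field K] [StarRing K]

/-- The coordinates on `V₁ = Q₁ / Z`. -/
def pr (x : P K) : K × K × K := (x.a, x.d, x.c)

theorem pr_mul {x y : P K} (hy : y ∈ Q1 K) : pr (x * y) = pr x + pr y := by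
  simp [pr, hy.1, hy.2]

theorem pr_conj (g : P K) {x : P K} (hx : x ∈ Q1 K) :
    pr (g * x * g⁻¹) = rr g.b (star g.t) (pr x) := by
  simp only [pr, rr, conj_a, conj_d, conj_c, hx.1, hx.2, star_zero]
  refine Prod.ext rfl (Prod.ext ?_ ?_) <;> simp only <;> ring

theorem mem_Z_of_pr {x y : P K} (hx : x ∈ Q1 K) (hy : y ∈ Q1 K) (h : pr x = pr y) :
    x⁻¹ * y ∈ Z K := by
  simp only [pr, Prod.mk.injEq] at h
  simp [mem_Z, hx.1, hx.2, hy.1, hy.2, h.1, h.2.1, h.2.2]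

theorem pr_of_mem_Z {z : P K} (hz : z ∈ Z K) : pr z = 0 := by
  simp [pr, hz.1, hz.2.2.1, hz.2.2.2.2]

theorem icj_z {g x : P K} (hg : g ∈ Q1 K) (hx : x ∈ Q1 K) :
    (x⁻¹ * (g * x * g⁻¹)).z = bf (pr x) (pr g) := by
  simp [bf, hf, pr, hg.1, hg.2, hx.1, hx.2, P.star_z]; ring

theorem eq_of_z {x y : P K} (hx : x ∈ Z K) (hy : y ∈ Z K) (h : x.z = y.z) : x = y :=
  P.ext (hx.1.trans hy.1.symm) (hx.2.1.trans hy.2.1.symm) (hx.2.2.1.trans hy.2.2.1.symm)
    (hx.2.2.2.2.trans hy.2.2.2.2.symm) (hx.2.2.2.1.trans hy.2.2.2.1.symm) h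

theorem sq_eq_one (h2 : (2 : K) = 0) {x : P K} (hx : x ∈ Q1 K) :
    x * x = 1 ↔ hf (pr x) (pr x) = 0 := by
  have e : ∀ r : K, r + r = 0 := fun r => by linear_combination r * h2
  rw [P.ext_iff]
  simp only [P.mul_a, P.mul_b, P.mul_d, P.mul_c, P.mul_t, P.mul_z, hx.1, hx.2, e, P.one_a, P.one_b,
    P.one_d, P.one_c, P.one_t, P.one_z, hf, pr, star_zero]
  exact ⟨fun h => by linear_combination -h.2.2.2.2.2, fun h => ⟨trivial, trivial, by ring, by ring,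
    by ring, by linear_combination -h⟩⟩

theorem mem_Z2_iff {x : P K} (hx : x ∈ Q1 K) : x ∈ Z2 K ↔ (pr x).1 = 0 ∧ (pr x).2.1 = 0 :=
  ⟨fun h => ⟨h.1, h.2.2.1⟩, fun h => ⟨h.1, hx.1, h.2, hx.2⟩⟩

theorem pr_of_mem_Z2 {x : P K} (hx : x ∈ Z2 K) : pr x = (0, 0, x.c) := by
  simp [pr, hx.1, hx.2.2.1]

/-- `th` as a permutation. -/
def tp (f g₁ g₂ : K) : Perm (K × K × K) where
  toFun := th f g₁ g₂
  invFun u := (u.1, u.2.1 - f * star u.1,
    u.2.2 - f * star (u.2.1 - f * star u.1) - g₁ * u.1 - g₂ * star u.1)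
  left_inv u := by
    refine Prod.ext rfl (Prod.ext ?_ ?_) <;>
      simp only [th, star_add, star_sub, star_mul', star_star] <;> ring
  right_inv u := by
    refine Prod.ext rfl (Prod.ext ?_ ?_) <;>
      simp only [th, star_sub, star_mul', star_star] <;> ring

theorem tp_apply (f g₁ g₂ : K) (u : K × K × K) : tp f g₁ g₂ u = th f g₁ g₂ u := rfl

theorem th_add (f g₁ g₂ : K) (u v : K × K × K) :
    th f g₁ g₂ (u + v) = th f g₁ g₂ u + th f g₁ g₂ v := by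
  refine Prod.ext rfl (Prod.ext ?_ ?_) <;>
    simp only [th, Prod.fst_add, Prod.snd_add, star_add] <;> ring

theorem th_L (f g₁ g₂ c : K) : th f g₁ g₂ (0, 0, c) = (0, 0, c) := by simp [th]

theorem th_rr {f : K} (h : 2 * f = 0) (g₁ g₂ b τ : K) (u : K × K × K) :
    th f g₁ g₂ (rr b τ u) = rr b τ (th f g₁ g₂ u) := by
  refine Prod.ext rfl (Prod.ext ?_ ?_) <;> simp only [th, rr, star_sub, star_mul']
  · ring
  · linear_combination (-(star b * star u.1)) * h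

theorem bf_th {f g₁ : K} (h : g₁ + star g₁ = f * star f) (g₂ : K) (u v : K × K × K) :
    bf (th f g₁ g₂ u) (th f g₁ g₂ v) = bf u v := by
  simp only [bf, hf, th, star_add, star_mul', star_star]
  linear_combination (u.1 * star v.1 - v.1 * star u.1) * h

end Th

variable {K : Type v} [Field K] [Fintype K] [Uf K]

theorem exists_pr (u : K × K × K) : ∃ x ∈ Q1 K, pr x = u := by
  obtain ⟨x, h₁, h₂, h₃, h₄, h₅⟩ := exists_elt u.1 0 u.2.1 u.2.2
  exact ⟨x, ⟨h₂, h₅ rfl⟩, by simp [pr, h₁, h₃, h₄]⟩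

/-- COREB transported along `θ`. -/
theorem weyl (hB : CoreBStmt.{v}) {A T : Subgroup (Perm (K × K × K))} (hle : T ≤ A) (hR : IsR T)
    (hA : PresB A) (hγ : ∃ γ ∈ A, ¬ StabL γ) {f g₁ g₂ : K} (hf : 2 * f = 0)
    (hg : g₁ + star g₁ = f * star f)
    (ho : ∀ α ∈ A, StabL α ∨ ∃ t ∈ T, ∀ c, ∃ a, t (α (0, 0, c)) = th f g₁ g₂ (a, 0, 0))
    {τ : K} (hτ : τ ≠ 0) : ∃ n ∈ A, ∀ a d c, n (th f g₁ g₂ (a, d, c)) =
      th f g₁ g₂ (c / star τ, -(star τ / τ) * d, τ * a) := by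
  set θ := tp f g₁ g₂
  have cm : ∀ t ∈ T, ∀ u, θ (t u) = t (θ u) := fun t ht u => by
    obtain ⟨b, σ, -, e⟩ := (hR t).1 ht
    rw [e, e]
    exact th_rr hf ..
  have st : ∀ α : Perm (K × K × K), StabL (θ * α * θ⁻¹) ↔ StabL α := fun α => by
    refine forall_congr' fun c => ?_
    rw [Perm.mul_apply, Perm.mul_apply, show θ⁻¹ (0, 0, c) = (0, 0, c) from
      Perm.inv_eq_iff_eq.2 (th_L f g₁ g₂ c).symm]
    exact and_congr_right fun h => by
      have h' : (α (0, 0, c)).1 = 0 := h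
      simp [θ, tp_apply, th, h']
  obtain ⟨n, hn, e⟩ := hB (A := A.comap (MulAut.conj θ).toMonoidHom) (T := T)
    (fun t ht => by
      have : θ * t * θ⁻¹ = t := Perm.ext fun u => by simp [cm t ht]
      show θ * t * θ⁻¹ ∈ A
      rw [this]
      exact hle ht) hR
    (fun α hα => by
      have h := hA _ (show θ * α * θ⁻¹ ∈ A from hα)
      refine ⟨fun u v => θ.injective ?_, fun u v u' v' e => ?_⟩
      · have := h.1 (θ u) (θ v)
        rw [show θ u + θ v = θ (u + v) from (th_add ..).symm] at this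
        simp only [Perm.mul_apply, Perm.coe_inv, symm_apply_apply] at this
        rw [this]
        exact (th_add ..).symm
      · have := h.2 (θ u) (θ v) (θ u') (θ v') (by
          simp only [θ, tp_apply, bf_th hg, e])
        simp only [Perm.mul_apply, Perm.coe_inv, symm_apply_apply] at this
        simpa only [θ, tp_apply, bf_th hg] using this)
    (by
      obtain ⟨γ, hγ, hn⟩ := hγ
      have e : θ * (θ⁻¹ * γ * θ) * θ⁻¹ = γ := by group
      exact ⟨θ⁻¹ * γ * θ, show θ * (θ⁻¹ * γ * θ) * θ⁻¹ ∈ A by rwa [e], by rwa [← st, e]⟩)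
    (fun α hα => (ho _ (show θ * α * θ⁻¹ ∈ A from hα)).imp (st α).1 fun ⟨t, ht, h⟩ =>
      ⟨t, ht, fun c => (h c).imp fun a ha => θ.injective (by
        rw [Perm.mul_apply, Perm.mul_apply, show θ⁻¹ (0, 0, c) = (0, 0, c) from
          Perm.inv_eq_iff_eq.2 (th_L f g₁ g₂ c).symm] at ha
        rw [cm t ht, ha]; rfl)⟩) τ hτ
  refine ⟨θ * n * θ⁻¹, hn, fun a d c => ?_⟩
  rw [← tp_apply, ← tp_apply, ← e]
  simp [θ]

variable {F : FusionSystem (⊤ : Subgroup (P K))}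

theorem Au.pr_congr {f : P K → P K} (hf : Au F (Q1 K) f) {x y : P K} (hx : x ∈ Q1 K)
    (hy : y ∈ Q1 K) (h : pr x = pr y) : pr (f x) = pr (f y) := by
  have hz := mem_Z_of_pr hx hy h
  have hz' := hf.Z_of_Q1 hz
  rw [show y = x * (x⁻¹ * y) by group, hf.1.map_mul hx (Z2_le_Q1 (Z_le_Z2 hz)),
    pr_mul (Z2_le_Q1 (Z_le_Z2 hz')), pr_of_mem_Z hz', add_zero]

variable {p : ℕ} [Fact p.Prime] [CharP K p]

theorem pack (hF : F.IsSaturated p) : ∃ A T : Subgroup (Perm (K × K × K)), IsSylowIn p T A ∧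
    IsR T ∧ ∀ α, α ∈ A ↔ ∃ f, Au F (Q1 K) f ∧ ∀ x ∈ Q1 K, α (pr x) = pr (f x) := by
  choose sec hs₁ hs₂ using exists_pr (K := K)
  let act : F.autGroup (Q1 K) → K × K × K → K × K × K := fun α v => pr (afn α.1 (sec v))
  have hact : ∀ α, ∀ x ∈ Q1 K, act α (pr x) = pr (afn α.1 x) := fun α x hx =>
    Au.pr_congr (au_afn α.2) (hs₁ _) hx (hs₂ _)
  let ρ : F.autGroup (Q1 K) →* Perm (K × K × K) := MonoidHom.toHomPerm
    { toFun := act
      map_one' := funext fun v => by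
        obtain ⟨x, hx, rfl⟩ := exists_pr v
        exact (hact 1 x hx).trans (by rw [OneMemClass.coe_one, afn_one]; rfl)
      map_mul' := fun α β => funext fun v => by
        obtain ⟨x, hx, rfl⟩ := exists_pr v
        show act _ _ = act α (act β (pr x))
        rw [hact _ _ hx, hact β _ hx, hact _ _ (afn_mem _ hx), Subgroup.coe_mul, afn_mul] }
  have hρ : ∀ α, ∀ x ∈ Q1 K, ρ α (pr x) = pr (afn α.1 x) := hact
  obtain ⟨hle, R, hR⟩ := sat_sylow (pg_top K p) hF (isFullyNormalized_of_normal (F := F)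
    (P := Q1 K) le_top (normalizer_eq_top _).ge)
  refine ⟨_, _, (isSylowIn_top_iff.2 ⟨R, hR⟩).map ρ, fun α => ⟨?_, ?_⟩, fun α => ⟨?_, ?_⟩⟩
  · rintro ⟨t, ht, rfl⟩
    obtain ⟨g, -, e⟩ := Fus2.mem_autInducedBy_iff.1 ht
    refine ⟨g.b, star g.t, by rw [star_star]; linear_combination g.ht, fun u => ?_⟩
    obtain ⟨x, hx, rfl⟩ := exists_pr u
    rw [hρ _ _ hx, ← pr_conj g hx, ← e x hx]; rfl
  · rintro ⟨b, τ, h, e⟩
    obtain ⟨g, -, h₁, -, -, h₂⟩ := exists_elt' 0 b 0 0 (star τ) (by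
      rw [star_star]; linear_combination h)
    have hg : g ∈ normalizer (Q1 K : Set (P K)) := (normalizer_eq_top _).ge trivial
    have hg' := conjAut_mem_autInducedBy (mem_top g) hg
    refine ⟨⟨_, hle hg'⟩, hg', Perm.ext fun u => ?_⟩
    obtain ⟨x, hx, rfl⟩ := exists_pr u
    rw [hρ _ _ hx, afn_conjAut hg hx, pr_conj g hx, e, h₁, h₂, star_star]
  · rintro ⟨β, -, rfl⟩
    exact ⟨_, au_afn β.2, hρ β⟩
  · rintro ⟨f, hf, e⟩
    obtain ⟨β, hβ, e'⟩ := hf.1.exists_aut' hf.2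
    refine ⟨⟨β, hβ⟩, trivial, Perm.ext fun u => ?_⟩
    obtain ⟨x, hx, rfl⟩ := exists_pr u
    rw [hρ _ _ hx, e' x hx, e x hx]

omit [Fact p.Prime] [CharP K p] in
theorem presB {A : Subgroup (Perm (K × K × K))}
    (hA : ∀ α ∈ A, ∃ f, Au F (Q1 K) f ∧ ∀ x ∈ Q1 K, α (pr x) = pr (f x)) : PresB A := by
  intro α hα
  obtain ⟨f, hf, e⟩ := hA α hα
  refine ⟨fun u v => ?_, fun u v u' v' h => ?_⟩
  · obtain ⟨x, hx, rfl⟩ := exists_pr u
    obtain ⟨y, hy, rfl⟩ := exists_pr v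
    rw [← pr_mul hy, e _ (mul_mem hx hy), e x hx, e y hy, hf.1.map_mul hx hy, pr_mul (hf.2 y hy)]
  · obtain ⟨x, hx, rfl⟩ := exists_pr u
    obtain ⟨y, hy, rfl⟩ := exists_pr v
    obtain ⟨x', hx', rfl⟩ := exists_pr u'
    obtain ⟨y', hy', rfl⟩ := exists_pr v'
    rw [← icj_z hy hx, ← icj_z hy' hx'] at h
    rw [e x hx, e y hy, e x' hx', e y' hy', ← icj_z (hf.2 y hy) (hf.2 x hx),
      ← icj_z (hf.2 y' hy') (hf.2 x' hx'), ← hf.icj hy hx, ← hf.icj hy' hx',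
      eq_of_z (icj_Q1 hy hx) (icj_Q1 hy' hx') h]

omit [Fact p.Prime] [CharP K p] in
theorem stabL_iff {α : Perm (K × K × K)} {f : P K → P K} (hf : Au F (Q1 K) f)
    (e : ∀ x ∈ Q1 K, α (pr x) = pr (f x)) : StabL α ↔ ∀ x ∈ Z2 K, f x ∈ Z2 K := by
  refine ⟨fun h x hx => ?_, fun h c => ?_⟩
  · rw [mem_Z2_iff (hf.2 x (Z2_le_Q1 hx)), ← e x (Z2_le_Q1 hx), pr_of_mem_Z2 hx]
    exact h _
  · obtain ⟨x, hx, hc⟩ := exists_pr ((0 : K), (0 : K), c)
    rw [← hc, e x hx, ← mem_Z2_iff (hf.2 x hx)]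
    exact h x ((mem_Z2_iff hx).2 (by rw [hc]; exact ⟨rfl, rfl⟩))

end L1

open L1 in
theorem l1 (hA : CoreAStmt.{v}) (hB : CoreBStmt.{v}) (hE : ExtStmt.{v}) : L1Stmt.{v} := by
  intro K _ _ _ p _ _ F hF hN hM
  obtain ⟨A, T, hT, hR, hmem⟩ := pack hF
  have hP : PresB A := presB fun α => (hmem α).1
  have ind : ∀ f, Au F (Q1 K) f → ∃ α ∈ A, ∀ x ∈ Q1 K, α (pr x) = pr (f x) := fun f hf => by
    choose sec hs₁ hs₂ using exists_pr (K := K)
    have hi : Function.Surjective fun u => pr (f (sec u)) := fun u => by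
      obtain ⟨y, hy, rfl⟩ := exists_pr u
      obtain ⟨x, hx, rfl⟩ := hf.surj le_rfl hf.2 hy
      exact ⟨pr x, Au.pr_congr hf (hs₁ _) hx (hs₂ _)⟩
    have e : ∀ x ∈ Q1 K, Equiv.ofBijective _ (Finite.surjective_iff_bijective.1 hi) (pr x) =
        pr (f x) := fun x hx => Au.pr_congr hf (hs₁ _) hx (hs₂ _)
    exact ⟨_, (hmem _).2 ⟨f, hf, e⟩, e⟩
  obtain ⟨f, g₁, g₂, hf, hg, ho⟩ := hA hT hR hP fun hp α hα u hu => by
    subst hp
    have h2 : (2 : K) = 0 := CharTwo.two_eq_zero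
    obtain ⟨φ, hφ, e⟩ := (hmem α).1 hα
    obtain ⟨x, hx, rfl⟩ := exists_pr u
    rw [e x hx, ← sq_eq_one h2 (hφ.2 x hx), ← hφ.1.map_mul hx hx, (sq_eq_one h2 hx).2 hu,
      hφ.1.map_one]
  have hγ : ∃ γ ∈ A, ¬ StabL γ := by
    obtain ⟨φ, hφ, x, hx, hx'⟩ := hM
    obtain ⟨α, hα, e⟩ := ind φ hφ
    exact ⟨α, hα, fun h => hx' ((stabL_iff hφ e).1 h x hx)⟩
  obtain ⟨n, hn, en⟩ := weyl hB hT.le hR hP hγ hf hg ho one_ne_zero
  simp only [star_one, div_one, one_mul, neg_mul] at en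
  have heta : ∀ ρ : Kˣ, M F ⊤ (eta ρ) := fun ρ => by
    have h0 : (ρ : K) ≠ 0 := ρ.ne_zero
    have h0' : star (ρ : K) ≠ 0 := star_ne_zero.2 h0
    obtain ⟨n', hn', en'⟩ := weyl hB hT.le hR hP hγ hf hg ho (inv_ne_zero h0)
    obtain ⟨φ, hφ, e⟩ := (hmem _).1 (mul_mem hn hn')
    have e' : ∀ a d c, (n * n') (th f g₁ g₂ (a, d, c)) =
        th f g₁ g₂ ((ρ : K)⁻¹ * a, ρ / star (ρ : K) * d, star (ρ : K) * c) := fun a d c => by
      rw [Perm.mul_apply, en', en]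
      congr 2
      refine Prod.ext ?_ ?_ <;> simp only [star_inv₀] <;> field_simp
    obtain ⟨g, hg', eg⟩ := (hE hF).1 φ hφ ((stabL_iff hφ e).1 fun c => by
      rw [← th_L f g₁ g₂ c, e']
      simp [th])
    obtain ⟨x, l, m, σ, ex⟩ := hN g hg'
    have key : ∀ a d c, rr x.b (star x.t) (l * σ a, l * m * σ (d + f * star a),
        l * m * star (m : K) * σ (c + f * star d + g₁ * a + g₂ * star a)) =
        th f g₁ g₂ ((ρ : K)⁻¹ * a, ρ / star (ρ : K) * d, star (ρ : K) * c) := fun a d c => by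
      obtain ⟨y, hy, hy'⟩ := exists_pr (th f g₁ g₂ (a, d, c))
      rw [← e', ← hy', e y hy, ← eg y hy, ex, pr_conj x (show dg l m σ y ∈ Q1 K by
        simp [mem_Q1, hy.1, hy.2])]
      simp only [pr, th, Prod.mk.injEq] at hy'
      simp only [pr, dg_a, dg_d, dg_c, hy'.1, hy'.2.1, hy'.2.2]
    have ka : ∀ a, (l : K) * σ a = (ρ : K)⁻¹ * a := fun a => congrArg Prod.fst (key a 0 0)
    have hl : (l : K) = (ρ : K)⁻¹ := by simpa using ka 1
    have hσ : σ = RingEquiv.refl K := RingEquiv.ext fun a =>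
      mul_left_cancel₀ l.ne_zero (by rw [ka, hl]; rfl)
    have hm : (m : K) = ρ ^ 2 / star (ρ : K) := by
      have := congrArg (fun u => u.2.1) (key 0 1 0)
      simp only [rr, th, hl, star_zero, mul_zero, add_zero, map_zero, map_one, sub_zero,
        mul_one] at this
      field_simp at this ⊢
      linear_combination this
    have : dg l m σ = eta ρ := by
      rw [eta, hσ]
      congr 1
      · exact Units.ext (by simp [hl])
      · exact Units.ext (by simp [hm])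
    exact (hg'.comp (M_conj F le_rfl (mem_top x⁻¹)) fun _ _ => trivial).congr fun y _ => by
      simp [ex, this, mul_assoc]
  obtain ⟨μ, hμ⟩ := exists_star_ne K
  have hμ0 : μ ≠ 0 := by rintro rfl; simp at hμ
  have hμ0' : star μ ≠ 0 := star_ne_zero.2 hμ0
  obtain ⟨δ, hδ, eδ⟩ := ind (eta (Units.mk0 μ hμ0)) ⟨(heta _).mono le_top, fun x hx => by
    simp [eta, mem_Q1, hx.1, hx.2]⟩
  have eδ' : ∀ a d c, δ (a, d, c) = (μ⁻¹ * a, μ / star μ * d, star μ * c) := fun a d c => by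
    obtain ⟨y, hy, hy'⟩ := exists_pr (a, d, c)
    rw [← hy', eδ y hy]
    simp only [pr, Prod.mk.injEq] at hy'
    simp only [pr, eta, dg_a, dg_d, dg_c, hy'.1, hy'.2.1, hy'.2.2]
    refine Prod.ext ?_ (Prod.ext ?_ ?_) <;> simp <;> left <;> field_simp
  have eα : ∀ c, (δ * n) (0, 0, c) = (μ⁻¹ * c, μ / star μ * (f * star c),
      star μ * (g₁ * c + g₂ * star c)) := fun c => by
    rw [Perm.mul_apply, ← th_L f g₁ g₂ c, en]
    simp [th, eδ']
  obtain ⟨t, ht, et⟩ := (ho _ (mul_mem hδ hn)).resolve_left fun h => by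
    have := (h 1).1
    rw [eα] at this
    simp [hμ0] at this
  obtain ⟨b, τ, -, eb⟩ := (hR t).1 ht
  have k : ∀ c, μ / star μ * (f * star c) - b * (μ⁻¹ * c) = f * star (μ⁻¹ * c) ∧
      star μ * (g₁ * c + g₂ * star c) + star b * (μ / star μ * (f * star c)) + τ * (μ⁻¹ * c) =
        g₁ * (μ⁻¹ * c) + g₂ * star (μ⁻¹ * c) := fun c => by
    obtain ⟨a, ha⟩ := et c
    rw [eα, eb] at ha
    simp only [rr, th, Prod.mk.injEq, star_zero, mul_zero, add_zero, zero_add] at ha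
    rw [← ha.1] at ha
    exact ha.2
  have hf0 : f = 0 := by
    have := (eq_zero_of_lin (e := -b * μ⁻¹) (e' := (μ - 1) * f / star μ) fun c => by
      have := (k c).1
      rw [star_mul', star_inv₀] at this
      field_simp at this ⊢
      linear_combination this).2
    rw [div_eq_zero_iff, mul_eq_zero, sub_eq_zero] at this
    rcases this with (h | h) | h
    · exact absurd (by rw [h, star_one]) hμ
    · exact h
    · exact absurd h hμ0'
  subst hf0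
  have hg0 : g₂ = 0 := by
    have := (eq_zero_of_lin (e := star μ * g₁ + (τ - g₁) * μ⁻¹)
      (e' := (star μ - 1) * (star μ + 1) * g₂ / star μ) fun c => by
      have := (k c).2
      rw [star_mul', star_inv₀] at this
      field_simp at this ⊢
      linear_combination this).2
    rw [div_eq_zero_iff, mul_eq_zero, mul_eq_zero, sub_eq_zero, add_eq_zero_iff_eq_neg] at this
    rcases this with ((h | h) | h) | h
    · exact absurd (by rw [← star_star μ, h, star_one, star_one]) hμ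
    · exact absurd (by rw [← star_star μ, h, star_neg, star_one, star_neg, star_one]) hμ
    · exact h
    · exact absurd h hμ0'
  subst hg0
  have hθ : tp 0 g₁ 0 ∈ T := (hR _).2 ⟨0, g₁, by simpa using hg, fun u => by
    simp [tp_apply, th, rr]⟩
  obtain ⟨w, hw, ew⟩ := (hmem _).1 (mul_mem (mul_mem (inv_mem (hT.le hθ)) hn) (hT.le hθ))
  have ew' : ∀ x ∈ Q1 K, pr (w x) = (x.c, -x.d, x.a) := fun x hx => by
    rw [← ew x hx, Perm.mul_apply, Perm.mul_apply, tp_apply, pr, en, ← tp_apply]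
    simp
  refine ⟨heta, w, hw, fun x hx => by simpa [pr] using ew' x hx, fun φ hφ => ?_⟩
  obtain ⟨α, hα, e⟩ := ind φ hφ
  refine (ho α hα).imp (stabL_iff hφ e).1 fun ⟨s, hs, es⟩ => ?_
  obtain ⟨b', τ', h', e'⟩ := (hR _).1 (mul_mem (inv_mem hθ) hs)
  obtain ⟨g, -, h₁, -, -, h₂⟩ := exists_elt' 0 b' 0 0 (star τ') (by
    rw [star_star]; linear_combination h')
  refine ⟨g, fun x hx => ?_⟩
  have hq := hφ.2 x (Z2_le_Q1 hx)
  have hq' : g * φ x * g⁻¹ ∈ Q1 K := Normal.conj_mem inferInstance _ hq g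
  obtain ⟨a, ha⟩ := es x.c
  have : pr (g * φ x * g⁻¹) = (a, 0, 0) := by
    rw [pr_conj g hq, h₁, h₂, star_star, ← e', ← e x (Z2_le_Q1 hx), pr_of_mem_Z2 hx, Perm.mul_apply,
      ha, ← tp_apply]
    simp
  rw [mem_Z2_iff (hw.2 _ hq'), ew' _ hq']
  simp only [pr, Prod.mk.injEq] at this
  simp only [this.2.1, this.2.2, neg_zero, and_self]

end Cfsg.Agent.U5
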