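import Cfsg.Agent.Lib.U5.Ess3

/-!
Row L2: the structure of `Aut_F(Q₂)`.
-/

set_option autoImplicit false

namespace Cfsg.Agent.U5

open Cfsg.Agent.Fus Cfsg.Agent.Fus2 Subgroup

universe v

variable {K : Type v} [Field K] [Fintype K] [Uf K]

namespace L2

omit [Fintype K] [Uf K] in
theorem icj_z [StarRing K] {g x : P K} (hg : g ∈ Q2 K) (hx : x ∈ Q2 K) :
    (x⁻¹ * (g * x * g⁻¹)).z = x.d * star g.d - g.d * star x.d := by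
  have h₁ : g.a = 0 := hg
  have h₂ : x.a = 0 := hx
  simp [h₁, h₂, x.star_z, g.star_z]
  ring

theorem mem_W_of {x : P K} (hx : x ∈ Q2 K) (h : ∀ y ∈ Q2 K, x * y = y * x) : x ∈ W K := by
  obtain ⟨y, y₁, y₂, y₃, -⟩ := exists_elt 0 0 1 (0 : K)
  obtain ⟨y', z₁, z₂, z₃, -⟩ := exists_elt 0 1 0 (0 : K)
  have h₁ := (commute_iff.1 (h y y₁)).2.2.1
  have h₂ := (commute_iff.1 (h y' z₁)).2.2.1
  have h₃ : x.a = 0 := hx
  have hb : x.b = 0 := by simpa [y₁, y₂, y₃, h₃] using h₁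
  exact ⟨hx, hb, by simpa [z₁, z₂, z₃, h₃] using h₂⟩

theorem W_inv (α : MulAut (Q2 K)) {x : P K} (hx : x ∈ W K) : afn α x ∈ W K :=
  mem_W_of (afn_mem α (W_le_Q2 hx)) fun y hy => by
    have := E3.afn_comm α (W_le_Q2 hx) (afn_mem α⁻¹ hy) (comm_W hx (afn_mem α⁻¹ hy))
    rwa [afn_afn_inv] at this

theorem exists_icj {x w : P K} (hx : x ∈ Z3 K) (hd : x.d ≠ 0) (hw : w ∈ Z2 K) :
    ∃ g ∈ Q2 K, x⁻¹ * (g * x * g⁻¹) = w := by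
  obtain ⟨e, he⟩ := exists_trace (K := K) (y := 1) (star_one K)
  have hs : star x.d ≠ 0 := star_ne_zero.2 hd
  have h₁ := w.star_z
  obtain ⟨h₂, h₃, h₄, h₅⟩ := hw
  obtain ⟨g, g₁, g₂, g₃, -⟩ := exists_elt 0 (star (w.c / x.d)) (-(e * w.z) / star x.d) (0 : K)
  refine ⟨g, g₁, ?_⟩
  ext
  · rw [icj_a, h₂]
  · rw [icj_b, h₃]
  · rw [icj_d]; simp [g₁, hx.1, h₄]
  · rw [icj_c]; simp [g₁, g₂, hx.1, hx.2]; field_simp
  · rw [icj_t]; simp [hx.2, h₅]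
  · simp only [h₂, h₄, zero_mul, sub_zero, star_zero, mul_zero] at h₁
    rw [icj_z g₁ hx.1]
    simp [g₃, h₁]
    field_simp
    linear_combination w.z * he

theorem phi_lin (γ : MulAut (Q2 K)) {φ : K → K}
    (h : ∀ x ∈ Q2 K, (afn γ⁻¹ x).b = 0 ↔ x.d = φ x.b) (b : K) : φ b = φ 1 * b := by
  obtain ⟨u₀, a₁, a₂, a₃, -⟩ := exists_elt 0 1 (φ 1) (0 : K)
  obtain ⟨u, b₁, b₂, b₃, -⟩ := exists_elt 0 b (φ b) (0 : K)
  have m₀ : afn γ⁻¹ u₀ ∈ Z3 K := ⟨afn_mem γ⁻¹ a₁, (h _ a₁).2 (by rw [a₂, a₃])⟩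
  have m : afn γ⁻¹ u ∈ Z3 K := ⟨afn_mem γ⁻¹ b₁, (h _ b₁).2 (by rw [b₂, b₃])⟩
  have hd : (afn γ⁻¹ u₀).d ≠ 0 := fun e => by
    have := (W_inv γ ⟨m₀.1, m₀.2, e⟩).2.1
    rw [afn_afn_inv, a₂] at this
    exact one_ne_zero this
  suffices ∀ r : K, (star (φ 1 * b) - star (φ b)) * r + (φ b - φ 1 * b) * star r = 0 from
    sub_eq_zero.1 (eq_zero_of_lin this).2
  intro r
  obtain ⟨v, c₁, c₂, c₃, -⟩ := exists_elt 0 0 r (0 : K)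
  obtain ⟨g, hg, e⟩ := exists_icj m₀ hd (icj_mem_Z2 (afn γ⁻¹ v) m)
  have e' := congrArg (afn γ) e
  rw [E3.afn_icj γ m₀.1 hg, E3.afn_icj γ m.1 (afn_mem _ c₁), afn_afn_inv, afn_afn_inv,
    afn_afn_inv] at e'
  have hg' : (afn γ g).a = 0 := afn_mem γ hg
  have e₁ := congrArg P.t e'
  have e₂ := congrArg P.c e'
  have e₃ := congrArg P.z e'
  rw [icj_t, icj_t] at e₁
  rw [icj_c, icj_c] at e₂
  rw [icj_z hg' a₁, icj_z c₁ b₁] at e₃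
  have e₄ := congrArg star e₂
  simp only [a₁, a₂, a₃, b₁, b₂, b₃, c₁, c₂, c₃, hg', star_zero, star_one, star_add, star_sub,
    star_mul', star_star] at e₁ e₂ e₃ e₄ ⊢
  linear_combination -e₃ + star (φ 1) * e₂ - φ 1 * e₄ - φ 1 * star (φ 1) * e₁

end L2

theorem l2 (hE : ExtStmt.{v}) : L2Stmt.{v} := by
  intro K _ _ _ p _ _ F hF hN ⟨f₀, hf₀, x₀, hx₀, hx₀'⟩
  obtain ⟨γ, hγ, eγ⟩ := hf₀.1.exists_aut' hf₀.2
  have nm : ∀ g : P K, g ∈ normalizer (Q2 K : Set (P K)) := fun g =>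
    le_normalizer_of_normal (mem_top g)
  obtain ⟨φ, c₁, c₂, c₃, c₄⟩ := SP4.sl2 (K := K) (Y := F.autGroup (Q2 K))
    (sat_sylow (pg_top K p) hF (isFullyNormalized_of_normal (P := Q2 K) le_top fun g _ => nm g))
    (fun x => x.1.b) (fun x => x.1.d) (fun x y => rfl)
    (fun x y => by simp [show x.1.a = 0 from x.2]) (fun b d => by
      obtain ⟨x, h₁, h₂, h₃, -⟩ := exists_elt 0 b d (0 : K)
      exact ⟨⟨x, h₁⟩, h₂, h₃⟩)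
    (fun α _ x h₁ h₂ => by
      have := L2.W_inv α (x := x) ⟨x.2, h₁, h₂⟩
      rw [afn_coe] at this
      exact this.2)
    (fun t ht => by
      obtain ⟨g, hg, rfl⟩ := mem_autInducedBy_iff'.1 ht
      exact ⟨g.a, fun x => ⟨conj_b g x, by
        rw [coe_conjAut_apply, conj_d, show x.1.a = 0 from x.2]; ring⟩⟩)
    (fun s => by
      obtain ⟨g, hg, -⟩ := exists_elt s 0 0 (0 : K)
      exact ⟨_, mem_autInducedBy_iff'.2 ⟨g, ⟨trivial, nm g⟩, rfl⟩, fun x => ⟨conj_b g x, by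
        rw [coe_conjAut_apply, conj_d, show x.1.a = 0 from x.2, hg]; ring⟩⟩)
    hγ ⟨⟨x₀, hx₀.1⟩, hx₀.2, fun e => hx₀' ⟨hf₀.2 _ hx₀.1, by
      rw [← eγ _ hx₀.1, afn_apply _ hx₀.1]; exact e⟩⟩ (autInducedBy_le_autGroup le_top)
    (fun t ht => mul_mem (mul_mem hγ (autInducedBy_le_autGroup le_top ht)) (inv_mem hγ))
  have lin := L2.phi_lin γ (φ := φ) fun x hx => by rw [afn_apply _ hx]; exact c₁ ⟨x, hx⟩
  obtain ⟨s, hs, -⟩ := exists_elt (φ 1) 0 0 (0 : K)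
  have cm : ∀ g : P K, ∀ x ∈ Q2 K, g * x * g⁻¹ ∈ Q2 K := fun g x hx =>
    Normal.conj_mem inferInstance x hx g
  have au : ∀ α ∈ F.autGroup (Q2 K),
      Au F (Q2 K) fun x => s⁻¹ * afn α (s * x * s⁻¹) * s⁻¹⁻¹ := fun α hα =>
    ⟨((M_conj F le_top (mem_top s)).comp (M_afn le_top hα) (cm s)).comp
      (M_conj F (P := Q2 K) le_top (mem_top s⁻¹)) fun x hx => afn_mem _ (cm s x hx),
      fun x hx => cm _ _ (afn_mem _ (cm s x hx))⟩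
  have co : ∀ α : MulAut (Q2 K), ∀ x, ∀ hx : x ∈ Q2 K,
      (s⁻¹ * afn α (s * x * s⁻¹) * s⁻¹⁻¹).b = (α ⟨_, cm s x hx⟩).1.b ∧
      (s⁻¹ * afn α (s * x * s⁻¹) * s⁻¹⁻¹).d =
        (α ⟨_, cm s x hx⟩).1.d - φ (α ⟨_, cm s x hx⟩).1.b ∧
      (s * x * s⁻¹).d - φ (s * x * s⁻¹).b = x.d := fun α x hx => by
    rw [conj_b, conj_d, conj_d, conj_b, afn_apply _ (cm s x hx), lin, lin x.b, P.inv_a, hs,
      show x.a = 0 from hx, show (α ⟨_, cm s x hx⟩).1.a = 0 from (α _).2]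
    exact ⟨rfl, by ring, by ring⟩
  refine ⟨fun μ => ?_, ?_⟩
  · obtain ⟨h, hh, e⟩ := c₄ μ μ.ne_zero
    have e' : ∀ x ∈ Q2 K, (s⁻¹ * afn h (s * x * s⁻¹) * s⁻¹⁻¹).b = x.b / μ ∧
        (s⁻¹ * afn h (s * x * s⁻¹) * s⁻¹⁻¹).d = μ * x.d := fun x hx => by
      obtain ⟨h₁, h₂, h₃⟩ := co h x hx
      rw [h₁, h₂, (e _).2, (e _).1]
      exact ⟨by rw [conj_b], by rw [h₃]⟩
    obtain ⟨g, hg, eg⟩ := (hE hF).2 _ (au h hh) fun x hx =>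
      ⟨(au h hh).2 x hx.1, by rw [(e' x hx.1).1, hx.2, zero_div]⟩
    obtain ⟨x, l, m, σ, ex⟩ := hN g hg
    have k₁ : ∀ b, (m : K) * σ b = b / μ := fun b => by
      obtain ⟨y, y₁, y₂, -⟩ := exists_elt 0 b 0 (0 : K)
      have := (e' y y₁).1
      rwa [← eg y y₁, ex, conj_b, dg_b, y₂] at this
    have k₂ : (l : K) * m = μ := by
      obtain ⟨y, y₁, y₂, y₃, -⟩ := exists_elt 0 0 1 (0 : K)
      have := (e' y y₁).2
      rw [← eg y y₁, ex, conj_d, dg_b, dg_d, dg_a, y₁, y₂, y₃] at this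
      simpa using this
    have k₃ : (m : K) = (μ : K)⁻¹ := by simpa using k₁ 1
    have k₄ : l = μ ^ 2 := Units.ext (by
      rw [k₃, mul_inv_eq_iff_eq_mul₀ μ.ne_zero] at k₂
      rw [Units.val_pow_eq_pow_val, sq, k₂])
    have k₅ : σ = RingEquiv.refl K := RingEquiv.ext fun b => by
      have := k₁ b
      rw [k₃, div_eq_inv_mul] at this
      exact mul_left_cancel₀ (inv_ne_zero μ.ne_zero) this
    have k₆ : m = μ⁻¹ := Units.ext (by simpa using k₃)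
    exact (hg.comp (M_conj F le_rfl (mem_top x⁻¹)) fun _ _ => mem_top _).congr fun y _ => by
      rw [ex, k₄, k₅, k₆]; simp [U5.hh, mul_assoc]
  obtain ⟨n, hn, e⟩ := c₃ 1 one_ne_zero
  have e' : ∀ x ∈ Q2 K, (s⁻¹ * afn n (s * x * s⁻¹) * s⁻¹⁻¹).b = -x.d ∧
      (s⁻¹ * afn n (s * x * s⁻¹) * s⁻¹⁻¹).d = x.b := fun x hx => by
    obtain ⟨h₁, h₂, h₃⟩ := co n x hx
    rw [h₁, h₂, (e _).2, (e _).1]
    exact ⟨by rw [h₃, div_one], by rw [conj_b, one_mul]⟩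
  refine ⟨_, au n hn, e', fun f hf => ?_⟩
  obtain ⟨α, hα, eα⟩ := hf.1.exists_aut' hf.2
  rcases c₂ α hα with h | ⟨t, ht, h⟩
  · exact .inl fun x hx => ⟨hf.2 x hx.1, by
      rw [← eα _ hx.1, afn_apply _ hx.1]; exact h ⟨x, hx.1⟩ hx.2⟩
  obtain ⟨g, hg, rfl⟩ := mem_autInducedBy_iff'.1 ht
  refine .inr ⟨s⁻¹ * g, fun x hx => ?_⟩
  have hm := cm (s⁻¹ * g) _ (hf.2 x hx.1)
  refine ⟨(au n hn).2 _ hm, ?_⟩
  have := (c₁ _).1 (h ⟨x, hx.1⟩ hx.2)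
  rw [coe_conjAut_apply, ← afn_apply _ hx.1, eα _ hx.1, lin, conj_b, conj_d] at this
  rw [(e' _ hm).1, conj_d, P.mul_a, P.inv_a, hs, show (f x).a = 0 from hf.2 x hx.1] at *
  linear_combination -this

end Cfsg.Agent.U5
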