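import Cfsg.Agent.Lib.U5.Basic

/-! The Sylow subgroup of `SU₅(q)` as a group of matrices. -/

set_option autoImplicit false
set_option linter.unusedSectionVars false

namespace Cfsg.Agent.U5

open Subgroup Matrix

universe v

theorem sylow_of_norm {G : Type*} [Group G] [Finite G] {p : ℕ} [Fact p.Prime] {Q : Subgroup G}
    (hQ : IsPGroup p Q) (h : ∀ g ∈ normalizer (Q : Set G), ∀ k, g ^ p ^ k = 1 → g ∈ Q) :
    ∃ T : Sylow p G, (T : Subgroup G) = Q := by
  obtain ⟨T, hT⟩ := hQ.exists_le_sylow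
  refine ⟨T, le_antisymm ?_ hT⟩
  by_contra hc
  have := T.isPGroup'.isNilpotent
  obtain ⟨g, hg, hg'⟩ := SetLike.exists_of_lt (Group.normalizerCondition_of_isNilpotent
    (Q.subgroupOf T) (lt_top_iff_ne_top.2 fun e => hc (subgroupOf_eq_top.1 e)))
  rw [← subgroupOf_normalizer_eq hT] at hg
  obtain ⟨k, hk⟩ := T.isPGroup' g
  exact hg' (h g hg k (by simpa using congrArg Subtype.val hk))

theorem forall5 {p : Fin 5 → Prop} : (∀ i, p i) ↔ p 0 ∧ p 1 ∧ p 2 ∧ p 3 ∧ p 4 :=
  ⟨fun h => ⟨h _, h _, h _, h _, h _⟩, fun h i => by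
    fin_cases i
    exacts [h.1, h.2.1, h.2.2.1, h.2.2.2.1, h.2.2.2.2]⟩

section Star

variable {K : Type v} [Field K] [StarRing K]

theorem mul5 (A B : Matrix (Fin 5) (Fin 5) K) (i j : Fin 5) : (A * B) i j =
    A i 0 * B 0 j + A i 1 * B 1 j + A i 2 * B 2 j + A i 3 * B 3 j + A i 4 * B 4 j := by
  rw [mul_apply, Fin.sum_univ_five]

/-- The antidiagonal matrix. -/
def JJ (K : Type v) [Field K] : Matrix (Fin 5) (Fin 5) K :=
  !![0, 0, 0, 0, 1; 0, 0, 0, 1, 0; 0, 0, 1, 0, 0; 0, 1, 0, 0, 0; 1, 0, 0, 0, 0]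

/-- Unitary matrices for the antidiagonal form. -/
def IsU (A : Matrix (Fin 5) (Fin 5) K) : Prop := A * JJ K * Aᴴ = JJ K

theorem IsU.mul {A B : Matrix (Fin 5) (Fin 5) K} (hA : IsU A) (hB : IsU B) : IsU (A * B) := by
  rw [IsU, conjTranspose_mul, show A * B * JJ K * (Bᴴ * Aᴴ) = A * (B * JJ K * Bᴴ) * Aᴴ by
    simp only [mul_assoc], hB, hA]

theorem isU_one : IsU (1 : Matrix (Fin 5) (Fin 5) K) := by simp [IsU]

theorem IsU.row {A : Matrix (Fin 5) (Fin 5) K} (h : IsU A) (i j : Fin 5) :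
    A i 0 * star (A j 4) + A i 1 * star (A j 3) + A i 2 * star (A j 2) + A i 3 * star (A j 1) +
      A i 4 * star (A j 0) = JJ K i j := by
  rw [← h]
  simp [mul_apply, Fin.sum_univ_five, JJ]
  ring

theorem isU_of {A : Matrix (Fin 5) (Fin 5) K} (h : ∀ i j, A i 0 * star (A j 4) +
    A i 1 * star (A j 3) + A i 2 * star (A j 2) + A i 3 * star (A j 1) + A i 4 * star (A j 0) =
      JJ K i j) : IsU A := by
  ext i j
  rw [← h]
  simp [mul_apply, Fin.sum_univ_five, JJ]
  ring

theorem JJ_sq : JJ K * JJ K = 1 := by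
  ext i j
  fin_cases i <;> fin_cases j <;> simp [JJ, mul_apply, Fin.sum_univ_five]

/-- The matrix of an element of `P K`. -/
def mat (x : P K) : Matrix (Fin 5) (Fin 5) K :=
  !![1, x.a, x.d, x.c, x.z; 0, 1, x.b, x.t, -(star x.c + star x.a * x.t + star x.d * x.b);
    0, 0, 1, -star x.b, star x.a * star x.b - star x.d; 0, 0, 0, 1, -star x.a; 0, 0, 0, 0, 1]

theorem mat_one : mat (1 : P K) = 1 := by
  ext i j
  fin_cases i <;> fin_cases j <;> simp [mat]

theorem mat_mul (x y : P K) : mat (x * y) = mat x * mat y := by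
  rw [← Matrix.ext_iff]
  simp only [forall5, mul5, mat, of_apply, cons_val, P.mul_a, P.mul_b, P.mul_d, P.mul_c, P.mul_t,
    P.mul_z, star_add, star_sub, star_mul', star_star, P.star_t]
  repeat' apply And.intro
  all_goals ring

/-- The matrix as an element of the general linear group. -/
def gl : P K →* GL (Fin 5) K :=
  MonoidHom.toHomUnits (⟨⟨mat, mat_one⟩, mat_mul⟩ : P K →* Matrix (Fin 5) (Fin 5) K)

@[simp] theorem gl_val (x : P K) : (gl x : Matrix (Fin 5) (Fin 5) K) = mat x := rfl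

theorem mat_inj : Function.Injective (mat : P K → _) := fun x y h => by
  have e := fun i j => congrFun (congrFun h i) j
  exact P.ext (e 0 1) (e 1 2) (e 0 2) (e 0 3) (e 1 3) (e 0 4)

theorem gl_inj : Function.Injective (gl : P K → _) := fun _ _ h => mat_inj (congrArg Units.val h)

theorem isU_mat (x : P K) : IsU (mat x) := isU_of (by
  simp only [forall5, mat, JJ, of_apply, cons_val, star_add, star_sub, star_mul', star_star,
    star_neg, star_one, star_zero, P.star_t, P.star_z]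
  repeat' apply And.intro
  all_goals ring)

theorem det_tri {A : Matrix (Fin 5) (Fin 5) K} (h : ∀ i j, j < i → A i j = 0) :
    A.det = A 0 0 * A 1 1 * A 2 2 * A 3 3 * A 4 4 := by
  rw [det_of_isUpperTriangular fun i j hij => h i j hij, Fin.prod_univ_five]

theorem mat_tri (x : P K) : ∀ i j, j < i → mat x i j = 0 := fun i j h => by
  fin_cases i <;> fin_cases j <;> simp [mat] at h ⊢

theorem det_mat (x : P K) : (mat x).det = 1 := by
  rw [det_tri (mat_tri x)]
  simp [mat]

/-- The diagonal matrix inducing `dg l m`. -/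
def Dg (ν l m : K) : Matrix (Fin 5) (Fin 5) K :=
  diagonal ![ν * (l * m), ν * m, ν, ν * (star m)⁻¹, ν * (star l * star m)⁻¹]

theorem isU_Dg {ν l m : K} (hν : ν * star ν = 1) (hl : l ≠ 0) (hm : m ≠ 0) : IsU (Dg ν l m) := by
  have hl' := star_ne_zero.2 hl
  have hm' := star_ne_zero.2 hm
  refine isU_of fun i j => ?_
  fin_cases i <;> fin_cases j <;> simp [Dg, JJ] <;> field_simp <;> linear_combination hν

theorem det_Dg {ν l m : K} (hl : l ≠ 0) (hm : m ≠ 0) :
    (Dg ν l m).det * (star l * star m ^ 2) = ν ^ 5 * (l * m ^ 2) := by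
  have hl' := star_ne_zero.2 hl
  have hm' := star_ne_zero.2 hm
  simp only [Dg, det_diagonal, Fin.prod_univ_five, Matrix.cons_val]
  field_simp

theorem tri_of {A : Matrix (Fin 5) (Fin 5) K} {y y' : P K} (ha : y.a = 1) (hb : y.b = 1)
    (h : A * mat y = mat y' * A) : ∀ i j, j < i → A i j = 0 := by
  have e := fun i j => congrFun (congrFun h i) j
  simp only [mul_apply, Fin.sum_univ_five] at e
  have e41 := e 4 1
  have e42 := e 4 2
  have e43 := e 4 3
  have e44 := e 4 4
  simp [mat, ha, hb] at e41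
  simp [mat, ha, hb, e41] at e42
  simp [mat, ha, hb, e41, e42] at e43
  simp [mat, ha, hb, e41, e42, e43] at e44
  have e31 := e 3 1
  have e32 := e 3 2
  have e33 := e 3 3
  simp [mat, ha, hb, e42] at e31
  simp [mat, ha, hb, e43, e31] at e32
  simp [mat, ha, hb, e44, e31, e32] at e33
  have e21 := e 2 1
  have e22 := e 2 2
  simp [mat, ha, hb, e42, e32] at e21
  simp [mat, ha, hb, e43, e33, e21] at e22
  have e11 := e 1 1
  simp [mat, ha, hb, e42, e32, e22] at e11
  intro i j hij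
  fin_cases i <;> fin_cases j <;> simp at hij ⊢ <;> assumption

theorem exists_mat {U : Matrix (Fin 5) (Fin 5) K} (hU : IsU U) (h : ∀ i j, j < i → U i j = 0)
    (h1 : ∀ i, U i i = 1) : ∃ x, U = mat x := by
  have e := hU.row
  have e00 := e 0 0
  have e11 := e 1 1
  have e10 := e 1 0
  have e20 := e 2 0
  have e21 := e 2 1
  have e30 := e 3 0
  simp [JJ, h1, h 1 0, h 2 0, h 2 1, h 3 0, h 3 1, h 3 2] at e00 e11 e10 e20 e21 e30
  refine ⟨⟨U 0 1, U 1 2, U 0 2, U 0 3, U 1 3, U 0 4, by linear_combination e11,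
    by linear_combination e00⟩, ?_⟩
  rw [← Matrix.ext_iff]
  simp only [forall5, mat, of_apply, cons_val, h1, true_and, and_true]
  repeat' apply And.intro
  all_goals first
    | exact h _ _ (by decide)
    | linear_combination e10
    | linear_combination e21
    | linear_combination e30
    | linear_combination e20 - star (U 0 1) * e21

theorem exists_dec {A : Matrix (Fin 5) (Fin 5) K} (hA : IsU A) (h : ∀ i j, j < i → A i j = 0) :
    ∃ (x : P K) (ν : K) (l m : Kˣ), ν * star ν = 1 ∧ A = mat x * Dg ν l m := by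
  have e04 := hA.row 0 4
  have e13 := hA.row 1 3
  have e22 := hA.row 2 2
  simp [JJ, h 1 0, h 2 0, h 2 1, h 3 0, h 3 1, h 3 2, h 4 0, h 4 1, h 4 2, h 4 3] at e04 e13 e22
  have n0 := left_ne_zero_of_mul_eq_one e04
  have n1 := left_ne_zero_of_mul_eq_one e13
  have n2 := left_ne_zero_of_mul_eq_one e22
  have n0' := star_ne_zero.2 n0
  have n1' := star_ne_zero.2 n1
  have n2' := star_ne_zero.2 n2
  have a4 : A 4 4 = (star (A 0 0))⁻¹ :=
    eq_inv_of_mul_eq_one_right (by simpa using congrArg star e04)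
  have a3 : A 3 3 = (star (A 1 1))⁻¹ :=
    eq_inv_of_mul_eq_one_right (by simpa using congrArg star e13)
  have a2 : star (A 2 2) = (A 2 2)⁻¹ := eq_inv_of_mul_eq_one_right e22
  have hD : Dg (A 2 2) (A 0 0 / A 1 1) (A 1 1 / A 2 2) = diagonal fun i => A i i := by
    rw [Dg]
    congr 1
    ext i
    fin_cases i <;> simp [a4, a3, a2] <;> field_simp
  have hne : ∀ i, A i i ≠ 0 := fun i => by
    fin_cases i <;> simp [a4, a3, n0, n1, n2]
  have hD' : IsU (diagonal fun i => (A i i)⁻¹) := isU_of fun i j => by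
    fin_cases i <;> fin_cases j <;> simp [JJ, a4, a3, a2, n0, n1, n2]
  obtain ⟨x, hx⟩ := exists_mat (hA.mul hD') (fun i j hij => by simp [h i j hij])
    fun i => by simp [hne i]
  refine ⟨x, A 2 2, Units.mk0 _ (div_ne_zero n0 n1), Units.mk0 _ (div_ne_zero n1 n2), e22, ?_⟩
  rw [← hx, Units.val_mk0, Units.val_mk0, hD, mul_assoc, diagonal_mul_diagonal]
  simp [hne]

/-- The first Weyl element. -/
def w1 (K : Type v) [Field K] : Matrix (Fin 5) (Fin 5) K :=
  !![1, 0, 0, 0, 0; 0, 0, 0, 1, 0; 0, 0, -1, 0, 0; 0, 1, 0, 0, 0; 0, 0, 0, 0, 1]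

/-- The second Weyl element. -/
def w2 (K : Type v) [Field K] : Matrix (Fin 5) (Fin 5) K :=
  !![0, 1, 0, 0, 0; 1, 0, 0, 0, 0; 0, 0, 1, 0, 0; 0, 0, 0, 0, 1; 0, 0, 0, 1, 0]

theorem w1_sq : w1 K * w1 K = 1 := by
  ext i j
  fin_cases i <;> fin_cases j <;> simp [w1, mul_apply, Fin.sum_univ_five]

theorem w2_sq : w2 K * w2 K = 1 := by
  ext i j
  fin_cases i <;> fin_cases j <;> simp [w2, mul_apply, Fin.sum_univ_five]

theorem isU_w1 : IsU (w1 K) := isU_of fun i j => by
  fin_cases i <;> fin_cases j <;> simp [w1, JJ]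

theorem isU_w2 : IsU (w2 K) := isU_of fun i j => by
  fin_cases i <;> fin_cases j <;> simp [w2, JJ]

theorem isU_JJ : IsU (JJ K) := isU_of fun i j => by
  fin_cases i <;> fin_cases j <;> simp [JJ]

theorem det_w1 : (w1 K).det = 1 := by
  simp [w1, det_succ_row_zero, Fin.sum_univ_succ, Fin.succAbove]

theorem det_w2 : (w2 K).det = 1 := by
  simp [w2, det_succ_row_zero, Fin.sum_univ_succ, Fin.succAbove]

theorem det_JJ : (JJ K).det = 1 := by
  simp [JJ, det_succ_row_zero, Fin.sum_univ_succ, Fin.succAbove]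
  ring

theorem w1_mat {y : P K} (hy : y ∈ Q1 K) :
    ∃ y' ∈ Q1 K, w1 K * mat y = mat y' * w1 K ∧ y'.a = y.c := by
  refine ⟨⟨y.c, 0, -y.d, y.a, 0, y.z, by simp, by simp; linear_combination y.hz⟩, ⟨rfl, rfl⟩,
    ?_, rfl⟩
  rw [← Matrix.ext_iff]
  simp only [forall5, mul5, mat, w1, of_apply, cons_val, hy.1, hy.2, star_zero, star_neg]
  simp

theorem w2_mat {y : P K} (hy : y ∈ Q2 K) :
    ∃ y' ∈ Q2 K, w2 K * mat y = mat y' * w2 K ∧ y'.b = y.d := by
  have ha : y.a = 0 := hy
  refine ⟨⟨0, y.d, y.b, -(star y.c + star y.d * y.b), y.z, y.t, by simpa [ha] using y.hz,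
    by simpa using y.ht⟩, rfl, ?_, rfl⟩
  rw [← Matrix.ext_iff]
  simp only [forall5, mul5, mat, w2, of_apply, cons_val, ha, star_zero, star_neg, star_add,
    star_mul', star_star]
  repeat' apply And.intro
  all_goals ring

theorem eq_one_of_JJ {x : P K} (h : JJ K * mat x = mat x * JJ K) : x = 1 := by
  have e := fun i j => congrFun (congrFun h i) j
  have e1 := e 4 1
  have e2 := e 4 2
  have e3 := e 4 3
  have e4 := e 4 4
  have e5 := e 3 2
  have e6 := e 3 3
  simp [JJ, mat, mul_apply, Fin.sum_univ_five] at e1 e2 e3 e4 e5 e6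
  exact P.ext e1 e5 e2 e3 e6 e4

end Star

section Field

variable {K : Type v} [Field K] [Fintype K] [Uf K]

theorem Dg_mat (ν : K) (l m : Kˣ) (σ : K ≃+* K) (y : P K) :
    Dg ν l m * (mat y).map σ = mat (dg l m σ y) * Dg ν l m := by
  have hl := star_ne_zero.2 l.ne_zero
  have hm := star_ne_zero.2 m.ne_zero
  rw [← Matrix.ext_iff]
  simp only [forall5, Dg, mat, diagonal_mul, mul_diagonal, map_apply, of_apply, cons_val, dg_a, dg_b,
    dg_c, dg_d, dg_t, dg_z, map_star', map_add, map_sub, map_mul, map_neg, map_one, map_zero,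
    star_mul', star_star, mul_zero, zero_mul, true_and]
  repeat' apply And.intro
  all_goals field_simp

theorem IsU.map {A : Matrix (Fin 5) (Fin 5) K} (h : IsU A) (σ : K ≃+* K) : IsU (A.map σ) :=
  isU_of fun i j => by
    have := congrArg σ (h.row i j)
    simp only [map_add, map_mul, map_star'] at this
    simp only [map_apply, this]
    fin_cases i <;> fin_cases j <;> simp [JJ]

theorem dg_mul_ra (l m l' m' : Kˣ) (σ σ' : RingAut K) : dg l m σ * dg l' m' σ' =
    dg (l * Units.map (σ : K →* K) l') (m * Units.map (σ : K →* K) m') (σ * σ') := by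
  ext y <;> simp [map_star', RingAut.mul_apply] <;> ring

theorem dg_one_ra : dg 1 1 (1 : RingAut K) = 1 := by
  ext y <;> simp [RingAut.one_apply]

/-- A unitary matrix normalizing the Sylow subgroup is triangular. -/
theorem dec_of_norm {A : Matrix (Fin 5) (Fin 5) K} (hA : IsU A)
    (h : ∀ y, ∃ y', A * mat y = mat y' * A) :
    ∃ (x : P K) (ν : K) (l m : Kˣ), ν * star ν = 1 ∧ A = mat x * Dg ν l m := by
  obtain ⟨y, ha, hb, -⟩ := exists_elt (1 : K) 1 0 0
  obtain ⟨y', e⟩ := h y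
  exact exists_dec hA (tri_of ha hb e)

theorem eq_mat_of_pow {p : ℕ} [Fact p.Prime] [CharP K p] {x : P K} {ν : K} {l m : Kˣ} {k : ℕ}
    (h : (mat x * Dg ν l m) ^ p ^ k = 1) : Dg ν l m = 1 := by
  have h1 : ∀ n : ℕ, ∃ x', (mat x * Dg ν l m) ^ n = mat x' * Dg ν l m ^ n := fun n => by
    induction n with
    | zero => exact ⟨1, by simp [mat_one]⟩
    | succ n ih =>
      obtain ⟨x', e⟩ := ih
      have := Dg_mat ν l m (RingEquiv.refl K) x'
      refine ⟨x * dg l m (RingEquiv.refl K) x', ?_⟩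
      rw [pow_succ', e, mat_mul, pow_succ', mul_assoc, mul_assoc, ← mul_assoc _ (mat x'),
        ← mul_assoc (mat (dg _ _ _ _)), ← this]
      simp
  obtain ⟨x', e⟩ := h1 (p ^ k)
  rw [e, Dg, diagonal_pow] at h
  rw [Dg, ← diagonal_one]
  congr 1
  ext i
  have h2 := congrFun (congrFun h i) i
  rw [mul_diagonal, one_apply_eq, Pi.pow_apply,
    show mat x' i i = 1 by fin_cases i <;> simp [mat], one_mul] at h2
  rw [← sub_eq_zero, ← pow_eq_zero_iff (pow_ne_zero k (Fact.out : p.Prime).ne_zero),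
    sub_pow_char_pow, h2, one_pow, sub_self]

end Field

end Cfsg.Agent.U5
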