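import Cfsg.Agent.Lib.U5.Mat

/-! The model `SU₅(q) ⋊ H`. -/

set_option autoImplicit false
set_option linter.unusedSectionVars false

namespace Cfsg.Agent.U5

open Subgroup Matrix

universe v

variable {K : Type v} [Field K] [Fintype K] [Uf K]

/-- Field automorphisms act on invertible matrices. -/
def fa : RingAut K →* MulAut (GL (Fin 5) K) where
  toFun σ := Units.mapEquiv (RingEquiv.mapMatrix σ).toMulEquiv
  map_one' := by ext; rfl
  map_mul' _ _ := by ext; rfl

@[simp] theorem fa_val (σ : RingAut K) (A : GL (Fin 5) K) :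
    (fa σ A : Matrix (Fin 5) (Fin 5) K) = (A : Matrix (Fin 5) (Fin 5) K).map σ := rfl

variable (K) in
/-- The semilinear group. -/
abbrev SG : Type v := GL (Fin 5) K ⋊[fa] RingAut K

instance : Finite (RingAut K) := Finite.of_injective (fun σ : K ≃+* K => (σ : K → K))
  DFunLike.coe_injective

instance : Finite (SG K) :=
  Finite.of_injective (fun g => (g.left, g.right)) fun _ _ h =>
    SemidirectProduct.ext (congrArg Prod.fst h) (congrArg Prod.snd h)

/-- The model as a submonoid. -/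
def GM (H : Subgroup (MulAut (P K))) : Submonoid (SG K) where
  carrier := {g | IsU g.left.1 ∧ ∃ l m : Kˣ, dg l m g.right ∈ H ∧
    g.left.1.det * (star (l : K) * star (m : K) ^ 2) = l * m ^ 2}
  one_mem' := ⟨isU_one, 1, 1, by simp [dg_one_ra, H.one_mem], by simp⟩
  mul_mem' := by
    rintro g g' ⟨h1, l, m, h2, h3⟩ ⟨h1', l', m', h2', h3'⟩
    refine ⟨h1.mul (h1'.map g.right), _, _, dg_mul_ra l m l' m' g.right g'.right ▸ H.mul_mem h2 h2', ?_⟩
    have h4 := congrArg g.right h3'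
    simp only [map_mul, map_pow, map_star', RingEquiv.map_det] at h4
    simp only [SemidirectProduct.mul_left, Units.val_mul, fa_val, det_mul, Units.coe_map,
      MonoidHom.coe_coe, star_mul']
    rw [RingEquiv.mapMatrix_apply] at h4
    linear_combination (g'.left.1.map g.right).det * star (g.right l') * star (g.right m') ^ 2 * h3 +
      l * m ^ 2 * h4

/-- The model. -/
def GG (H : Subgroup (MulAut (P K))) : Subgroup (SG K) where
  toSubmonoid := GM H
  inv_mem' {g} hg := Submonoid.powers_le.2 hg (mem_powers_iff_mem_zpowers.2 (by simp))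

theorem inl_mem (H : Subgroup (MulAut (P K))) {A : GL (Fin 5) K} (h : IsU A.1) (h' : A.1.det = 1) :
    SemidirectProduct.inl A ∈ GG H :=
  ⟨h, 1, 1, by simp [dg_one_ra, H.one_mem], by simp [h']⟩

/-- The embedding of the Sylow subgroup. -/
def emb (H : Subgroup (MulAut (P K))) : P K →* GG H :=
  (SemidirectProduct.inl.comp gl).codRestrict _ fun x => inl_mem H (isU_mat x) (det_mat x)

theorem conj_iff {H : Subgroup (MulAut (P K))} (g : GG H) (y y' : P K) :
    g * emb H y * g⁻¹ = emb H y' ↔ g.1.left.1 * (mat y).map g.1.right = mat y' * g.1.left.1 := by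
  rw [mul_inv_eq_iff_eq_mul, Subtype.ext_iff, SemidirectProduct.ext_iff, Units.ext_iff]
  simp [emb]

theorem map_mat (σ : RingAut K) (y : P K) : (mat y).map σ = mat (dg 1 1 σ y) := by
  have := Dg_mat 1 1 1 σ y
  have h1 : Dg (1 : K) (1 : Kˣ) (1 : Kˣ) = 1 := by
    rw [Dg, ← diagonal_one]
    congr 1
    ext i
    fin_cases i <;> simp
  rwa [h1, one_mul, mul_one] at this

theorem dg_mem {H : Subgroup (MulAut (P K))} (he : ∀ ρ, eta ρ ∈ H) (hh' : ∀ μ, hh μ ∈ H) {ν : K}
    (hν : ν * star ν = 1) {l m : Kˣ} (h : star (l : K) * star (m : K) ^ 2 = ν ^ 5 * (l * m ^ 2)) :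
    dg l m (1 : RingAut K) ∈ H := by
  have n0 := left_ne_zero_of_mul_eq_one hν
  have hs : star ν = ν⁻¹ := eq_inv_of_mul_eq_one_right hν
  have hl := l.ne_zero
  have hm := m.ne_zero
  have hm' := star_ne_zero.2 hm
  have hl' : star (l : K) = ν ^ 5 * (l * m ^ 2) / star (m : K) ^ 2 := by
    rw [← h]; field_simp
  let n := Units.mk0 ν n0
  have := H.mul_mem (hh' (n * l * m)) (he (n * l * m * (n * m)))
  rw [hh, eta] at this
  erw [dg_mul_ra] at this
  convert this using 2
  · ext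
    simp [n]
    field_simp
  · ext
    simp [n, hs, hl']
    field_simp
  · rfl

theorem norm_dec {H : Subgroup (MulAut (P K))} (he : ∀ ρ, eta ρ ∈ H) (hh' : ∀ μ, hh μ ∈ H)
    (g : GG H) (hg : ∀ y, ∃ y', g * emb H y * g⁻¹ = emb H y') :
    ∃ (x : P K) (ν : K) (l m : Kˣ), dg l m g.1.right ∈ H ∧ g.1.left.1 = mat x * Dg ν l m := by
  obtain ⟨h1, l₀, m₀, h2, h3⟩ := g.2
  obtain ⟨x, ν, l, m, hν, e⟩ := dec_of_norm h1 fun y => by
    obtain ⟨y', h⟩ := hg ((dg 1 1 g.1.right)⁻¹ y)
    rw [conj_iff, map_mat, MulAut.apply_inv_self] at h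
    exact ⟨y', h⟩
  refine ⟨x, ν, l, m, ?_, e⟩
  have h4 := det_Dg (ν := ν) l.ne_zero m.ne_zero
  rw [e, det_mul, det_mat, one_mul] at h3
  have := H.mul_mem (dg_mem he hh' hν (l := l / l₀) (m := m / m₀) ?_) h2
  · rw [dg_mul_ra, one_mul] at this
    convert this using 2 <;> exact (div_mul_cancel _ _).symm
  have a1 := star_ne_zero.2 l₀.ne_zero
  have a2 := star_ne_zero.2 m₀.ne_zero
  have a3 := l₀.ne_zero
  have a4 := m₀.ne_zero
  simp only [Units.val_div_eq_div_val, star_div₀]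
  field_simp
  linear_combination (star (l₀ : K) * star (m₀ : K) ^ 2) * h4 -
    (star (l : K) * star (m : K) ^ 2) * h3

theorem dg_pow (l m : Kˣ) (σ : RingAut K) (n : ℕ) : ∃ l' m', dg l m σ ^ n = dg l' m' (σ ^ n) := by
  induction n with
  | zero => exact ⟨1, 1, by rw [pow_zero, pow_zero, dg_one_ra]⟩
  | succ n ih =>
    obtain ⟨l', m', e⟩ := ih
    exact ⟨_, _, by rw [pow_succ, pow_succ, e, dg_mul_ra]⟩

theorem eq_one_of_dg {l m : Kˣ} {σ : RingAut K} (h : dg l m σ = 1) : σ = 1 := by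
  have h1 : ∀ a, (l : K) * σ a = a := fun a => by
    obtain ⟨x, rfl, -⟩ := exists_elt a 0 0 0
    rw [← dg_a, h, MulAut.one_apply]
  ext a
  simpa [show (l : K) = 1 by simpa using h1 1] using h1 a

theorem model : ModelStmt.{v} := by
  intro K _ _ _ p _ _ H hH hp he hh'
  have hi : Function.Injective (emb H) := fun x y h =>
    gl_inj (SemidirectProduct.inl_injective (congrArg Subtype.val h))
  refine ⟨GG H, inferInstance, inferInstance, emb H, hi, ?_, fun g hg => ?_, fun h hh => ?_, ?_, ?_⟩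
  · refine sylow_of_norm ((pg K p).of_surjective _ (emb H).rangeRestrict_surjective) fun g hg k hk => ?_
    obtain ⟨x, ν, l, m, h1, e⟩ := norm_dec he hh' g fun y => by
      obtain ⟨y', h⟩ := (mem_normalizer_iff.1 hg _).1 ⟨y, rfl⟩
      exact ⟨y', h.symm⟩
    have hk' : g.1 ^ p ^ k = 1 := by simpa using congrArg Subtype.val hk
    have h2 : g.1.right = 1 := by
      obtain ⟨l', m', e'⟩ := dg_pow l m g.1.right (Nat.card H)
      have a1 : dg l m g.1.right ^ Nat.card H = 1 :=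
        congrArg Subtype.val (pow_card_eq_one' (x := (⟨_, h1⟩ : H)))
      have a2 : g.1.right ^ p ^ k = 1 := by
        have := congrArg SemidirectProduct.rightHom hk'
        rwa [map_pow] at this
      rw [← orderOf_eq_one_iff]
      exact Nat.eq_one_of_dvd_coprimes (((Nat.Prime.coprime_iff_not_dvd Fact.out).2 hp).pow_left k)
        (orderOf_dvd_of_pow_eq_one a2) (orderOf_dvd_of_pow_eq_one (eq_one_of_dg (e' ▸ a1)))
    have h3 : g.1 = SemidirectProduct.inl g.1.left := by ext <;> simp [h2]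
    rw [h3, ← map_pow, map_eq_one_iff _ SemidirectProduct.inl_injective, Units.ext_iff,
      Units.val_pow_eq_pow_val, e] at hk'
    rw [eq_mat_of_pow hk', mul_one] at e
    exact ⟨x, Subtype.ext (h3.trans (congrArg _ (Units.ext e))).symm⟩
  · obtain ⟨x, ν, l, m, h1, e⟩ := norm_dec he hh' g hg
    refine ⟨x, _, h1, fun y => ?_⟩
    rw [conj_iff, e, mul_assoc, Dg_mat, ← mul_assoc, ← mul_assoc, ← mat_mul, ← mat_mul]
    simp
  · obtain ⟨l, m, σ, rfl⟩ := hH h hh
    have h1 := isU_Dg (ν := (1 : K)) (by simp) l.ne_zero m.ne_zero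
    have h2 := det_Dg (ν := (1 : K)) l.ne_zero m.ne_zero
    rw [one_pow, one_mul] at h2
    refine ⟨⟨⟨GeneralLinearGroup.mkOfDetNeZero _ (left_ne_zero_of_mul (h2.trans_ne (by simp))), σ⟩,
      h1, l, m, hh, h2⟩, fun y => ?_⟩
    rw [conj_iff]
    exact Dg_mat 1 l m σ y
  · refine ⟨⟨_, inl_mem H (A := ⟨w1 K, w1 K, w1_sq, w1_sq⟩) isU_w1 det_w1⟩, fun y hy => ?_⟩
    obtain ⟨y', h1, h2, h3⟩ := w1_mat hy
    exact ⟨y', h1, (conj_iff _ _ _).2 h2, h3⟩
  · refine ⟨⟨_, inl_mem H (A := ⟨w2 K, w2 K, w2_sq, w2_sq⟩) isU_w2 det_w2⟩, fun y hy => ?_⟩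
    obtain ⟨y', h1, h2, h3⟩ := w2_mat hy
    exact ⟨y', h1, (conj_iff _ _ _).2 h2, h3⟩

end Cfsg.Agent.U5
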