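import Cfsg.Agent.Lib.U5.L2
import Cfsg.Agent.Lib.U5.Final
import Cfsg.Agent.Lib.Solv.SZ
import Cfsg.Agent.Lib.Ess.Ctl

/-!
Row NRM: the normal form of `Aut_F(S)`.
-/

set_option autoImplicit false

namespace Cfsg.Agent.U5

open Cfsg.Agent.Fus Cfsg.Agent.Fus2 Subgroup

universe v

namespace Nr

variable {K : Type v} [Field K] [Fintype K] [Uf K]

theorem map_icj (α : MulAut (P K)) (g x : P K) :
    α (x⁻¹ * (g * x * g⁻¹)) = (α x)⁻¹ * (α g * α x * (α g)⁻¹) := by simp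

theorem map_icj' (α : MulAut (P K)) (g x : P K) :
    (α x)⁻¹ * (g * α x * g⁻¹) = α (x⁻¹ * (α⁻¹ g * x * (α⁻¹ g)⁻¹)) := by simp

theorem comm' (α : MulAut (P K)) {x y : P K} (h : x * α⁻¹ y = α⁻¹ y * x) : α x * y = y * α x := by
  simpa using congrArg α h

theorem inv_Z (α : MulAut (P K)) {x : P K} (hx : x ∈ Z K) : α x ∈ Z K := by
  have h : ∀ y, α x * y = y * α x := fun y => comm' α (comm_Z hx _)
  obtain ⟨h₁, h₂, h₃⟩ := L2.mem_W_of (E3.mem_Q2_of fun y _ => h y) fun y _ => h y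
  obtain ⟨y, y₁, y₂, -⟩ := exists_elt 1 0 0 (0 : K)
  have h₄ : (α x).t = 0 := by simpa [h₁, h₃, h₂, y₁] using (commute_iff.1 (h y)).2.2.1.symm
  exact mem_Z_of_comm ⟨h₂, h₄⟩ fun y _ => h y

theorem mem_Z3_of {x : P K} (h : ∀ g, (x⁻¹ * (g * x * g⁻¹)).d = 0) : x ∈ Z3 K := by
  obtain ⟨g, g₁, g₂, -⟩ := exists_elt 1 0 0 (0 : K)
  obtain ⟨g', k₁, k₂, -⟩ := exists_elt 0 1 0 (0 : K)
  have h₁ := h g
  have h₂ := h g'
  rw [icj_d] at h₁ h₂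
  exact ⟨by simpa [k₁, k₂] using h₂, by simpa [g₁, g₂] using h₁⟩

theorem inv_Z2 (α : MulAut (P K)) {x : P K} (hx : x ∈ Z2 K) : α x ∈ Z2 K := by
  have h : ∀ g, (α x)⁻¹ * (g * α x * g⁻¹) ∈ Z K := fun g => by
    rw [map_icj']; exact inv_Z α (icj_mem_Z _ hx)
  obtain ⟨h₁, h₂⟩ := mem_Z3_of fun g => (h g).2.2.1
  obtain ⟨g, g₁, g₂, -⟩ := exists_elt 1 0 0 (0 : K)
  obtain ⟨g', k₁, k₂, -⟩ := exists_elt 0 1 0 (0 : K)
  have h₃ := (h g).2.2.2.2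
  have h₄ := (h g').2.2.2.2
  rw [icj_c] at h₃ h₄
  exact ⟨h₁, h₂, by simpa [k₁, k₂, h₁, h₂] using h₄, by simpa [g₁, g₂, h₁, h₂] using h₃⟩

theorem inv_Z3 (α : MulAut (P K)) {x : P K} (hx : x ∈ Z3 K) : α x ∈ Z3 K :=
  mem_Z3_of fun g => by rw [map_icj']; exact (inv_Z2 α (icj_mem_Z2 _ hx)).2.2.1

theorem inv_Q2 (α : MulAut (P K)) {x : P K} (hx : x ∈ Q2 K) : α x ∈ Q2 K :=
  E3.mem_Q2_of fun _ hy => comm' α (comm_W (Z2_le_W (inv_Z2 _ hy)) hx).symm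

theorem inv_W (α : MulAut (P K)) {x : P K} (hx : x ∈ W K) : α x ∈ W K :=
  L2.mem_W_of (inv_Q2 α (W_le_Q2 hx)) fun _ hy => comm' α (comm_W hx (inv_Q2 _ hy))

theorem inv_Qt (α : MulAut (P K)) {x : P K} (hx : x ∈ Qt K) : α x ∈ Qt K := by
  by_contra hb
  have hb : star (α x).b ≠ 0 := star_ne_zero.2 hb
  have key : ∀ r : K, ∃ t, star t = -t ∧ r = (α x).a * t := fun r => by
    obtain ⟨y, y₁, y₂, y₃, -, y₄⟩ := exists_elt 0 0 (r / star (α x).b) (0 : K)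
    have hy := inv_Z3 α⁻¹ (x := y) ⟨y₁, y₂⟩
    obtain ⟨w, hw, ew⟩ : ∃ w ∈ W K, w.t = (α⁻¹ y).t :=
      ⟨xw 0 (α⁻¹ y).t 0 (by rw [P.star_t, hy.2]; ring) (by simp), ⟨rfl, rfl, rfl⟩, rfl⟩
    have h₁ := icj_mem_Z2 x hy
    have h₂ := icj_mem_Z2 x (W_le_Z3 hw)
    have h₃ : (w⁻¹ * (x * w * x⁻¹))⁻¹ * ((α⁻¹ y)⁻¹ * (x * α⁻¹ y * x⁻¹)) ∈ Z K := by
      have := mul_mem (inv_mem h₂) h₁
      refine ⟨this.1, this.2.1, this.2.2.1, this.2.2.2, ?_⟩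
      rw [P.mul_c, P.inv_c, P.inv_a, h₂.1, h₁.2.1, h₂.2.1, icj_c, icj_c]
      rw [hy.1, hy.2, hw.1, hw.2.1, ew, show x.b = 0 from hx]
      simp
    have h₄ := (inv_Z α h₃).2.2.2.2
    obtain ⟨w₁, w₂, w₃⟩ := inv_W α hw
    rw [map_mul, map_inv, map_icj, map_icj, MulAut.apply_inv_self, P.mul_c, P.inv_c, P.inv_a, icj_a,
      icj_b, icj_b, icj_c, icj_c] at h₄
    refine ⟨(α w).t, by simp [P.star_t, w₂], ?_⟩
    simp only [w₁, w₂, w₃, y₁, y₂, y₃, y₄ rfl, star_zero] at h₄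
    field_simp at h₄
    linear_combination h₄
  obtain ⟨t, -, h₁⟩ := key 1
  have ha : (α x).a ≠ 0 := fun e => by simp [e] at h₁
  refine one_ne_zero (eq_zero_of_trace (K := K) fun y => ?_)
  obtain ⟨t, ht, e⟩ := key ((α x).a * y)
  rw [one_mul, mul_left_cancel₀ ha e, ht, add_neg_cancel]

theorem exists_dg (α : MulAut (P K)) : ∃ (l m : Kˣ) (σ : K ≃+* K),
    ∀ x, (α x).a = l * σ x.a ∧ (α x).b = m * σ x.b := by
  choose xs x₁ x₂ x₃ x₄ x₅ using fun a b d : K => exists_elt a b d (0 : K)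
  have hA : ∀ x, (α x).a = (α (xs x.a 0 0)).a := fun x => by
    have := inv_Q2 α (x := x⁻¹ * xs x.a 0 0) (by simp [mem_Q2, x₁])
    rw [mem_Q2, map_mul, map_inv, P.mul_a, P.inv_a] at this
    linear_combination -this
  have hB : ∀ x, (α x).b = (α (xs 0 x.b 0)).b := fun x => by
    have := inv_Qt α (x := x⁻¹ * xs 0 x.b 0) (by simp [mem_Qt, x₂])
    rw [mem_Qt, map_mul, map_inv, P.mul_b, P.inv_b] at this
    linear_combination -this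
  have hD : ∀ x ∈ Z3 K, (α x).d = (α (xs 0 0 x.d)).d := fun x hx => by
    have := (inv_W α (x := x⁻¹ * xs 0 0 x.d) (by simp [mem_W, x₁, x₂, x₃, hx.1, hx.2])).2.2
    rw [map_mul, map_inv, P.mul_d, P.inv_d, P.inv_a, (inv_Z3 α hx).1] at this
    linear_combination -this
  have hm : ∀ a b, (α (xs 0 0 (a * b))).d = (α (xs a 0 0)).a * (α (xs 0 b 0)).b := fun a b => by
    have := hD _ (icj_mem_Z3 (xs a 0 0) (xs 0 b 0))
    rw [map_icj, icj_d, icj_d, show (α (xs 0 b 0)).a = 0 from inv_Q2 α (x₁ ..)] at this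
    simpa [x₁, x₂] using this.symm
  have h₁ : (α (xs 0 0 1)).d ≠ 0 := fun e => by
    have h := inv_Z3 α (x := xs 0 0 1) ⟨x₁ .., x₂ ..⟩
    simpa [x₃] using (inv_W α⁻¹ ⟨h.1, h.2, e⟩).2.2
  obtain ⟨σ, a₁, a₂, -⟩ := semilin (fun a => (α (xs a 0 0)).a) (fun b => (α (xs 0 b 0)).b)
    (fun d => (α (xs 0 0 d)).d) (fun d d' => by
      have := hD (xs 0 0 d * xs 0 0 d') (mul_mem ⟨x₁ .., x₂ ..⟩ ⟨x₁ .., x₂ ..⟩)
      rw [map_mul, P.mul_d, P.mul_d, show (α (xs 0 0 d)).a = 0 from inv_Q2 α (x₁ ..)] at this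
      simpa [x₁, x₃] using this.symm) hm h₁
  have h₂ := hm 1 1
  rw [one_mul] at h₂
  rw [h₂] at h₁
  exact ⟨Units.mk0 _ (left_ne_zero_of_mul h₁), Units.mk0 _ (right_ne_zero_of_mul h₁), σ,
    fun x => ⟨(hA x).trans (a₁ _), (hB x).trans (a₂ _)⟩⟩

theorem pow_eq_one (p : ℕ) [Fact p.Prime] [CharP K p] {β : MulAut (P K)}
    (h : TrivOn β ⊤ (Z3 K)) : ∃ k : ℕ, β ^ p ^ k = 1 := by
  have ha : ∀ x, (β x).a = x.a := fun x => by
    have := (h x trivial).1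
    rw [P.mul_a, P.inv_a] at this
    linear_combination this
  have hb : ∀ x, (β x).b = x.b := fun x => by
    have := (h x trivial).2
    rw [P.mul_b, P.inv_b] at this
    linear_combination this
  have h₃ : ∀ x ∈ Z3 K, (β x).d = x.d ∧ (β x).t = x.t := fun x hx => by
    obtain ⟨e, he⟩ := exists_trace (K := K) (y := 1) (star_one K)
    obtain ⟨g, g₁, g₂, -⟩ := exists_elt x.d 0 0 (0 : K)
    obtain ⟨y, y₁, y₂, -⟩ := exists_elt 0 1 0 (0 : K)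
    obtain ⟨u, u₁, u₂, -⟩ := exists_elt 0 (e * x.t) 0 (0 : K)
    have hw : (y⁻¹ * (g * y * g⁻¹) * (u⁻¹ * (y * u * y⁻¹)))⁻¹ * x ∈ Z2 K := by
      refine ⟨?_, ?_, ?_, ?_⟩ <;>
        simp only [P.mul_a, P.mul_b, P.mul_d, P.mul_t, P.inv_a, P.inv_b, P.inv_d, P.inv_t, g₁, g₂,
          y₁, y₂, u₁, u₂, hx.1, hx.2, star_add, star_sub, star_mul', star_neg, star_star, star_zero,
          star_one, P.star_t]
      · ring
      · ring
      · ring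
      · linear_combination -x.t * he
    have hw' := inv_Z2 β hw
    rw [← mul_inv_cancel_left (y⁻¹ * (g * y * g⁻¹) * (u⁻¹ * (y * u * y⁻¹))) x]
    generalize (y⁻¹ * (g * y * g⁻¹) * (u⁻¹ * (y * u * y⁻¹)))⁻¹ * x = w at hw hw'
    rw [map_mul, map_mul, map_icj, map_icj]
    simp only [P.mul_d _ (β w), P.mul_d _ w, P.mul_t _ (β w), P.mul_t _ w, hw.2.1, hw'.2.1,
      hw.2.2.1, hw'.2.2.1, hw.2.2.2, hw'.2.2.2]
    rw [P.mul_d, P.mul_d (_ * _), P.mul_t, P.mul_t (_ * _)]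
    simp only [icj_a, icj_b, icj_d, icj_t, ha, hb]
    simp
  have h₂ : ∀ x ∈ Z2 K, (β x).c = x.c := fun x hx => by
    obtain ⟨g, hg, y, hy, z, hz, rfl⟩ := exists_icj_Z2 hx
    have hz' := inv_Z β hz
    rw [map_mul, map_icj, P.mul_c, P.mul_c (_ * _), icj_a, icj_a, icj_c, icj_c]
    simp [ha, hb, hz.2.2.2.2, hz'.2.2.2.2, hz.2.1, hy.1, hy.2, (h₃ y hy).1,
      show g.a = 0 from hg]
  have h₁ : ∀ x ∈ Z K, β x = x := fun x hx => by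
    have hx' := inv_Z β hx
    refine P.ext (ha x) (hb x) (h₃ x (Z2_le_Z3 (Z_le_Z2 hx))).1 (h₂ x (Z_le_Z2 hx))
      (h₃ x (Z2_le_Z3 (Z_le_Z2 hx))).2 ?_
    obtain ⟨g, hg, y, hy, rfl⟩ := exists_icj_Z hx
    rw [map_icj, L2.icj_z hg.1 hy.1, L2.icj_z (inv_Z3 β hg).1 (inv_Z3 β hy).1, (h₃ g hg).1,
      (h₃ y hy).1]
  refine exists_pow_eq_one_of_chain (pg K p) (ch (Z3 K)) 4 (ch_mono Z2_le_Z3) rfl (fun i hi => ?_)
    ⟨0, fun x hx => by rw [mem_bot.1 hx, map_one]⟩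
  interval_cases i
  · exact fun x hx => by rw [h₁ x hx, inv_mul_cancel]; exact one_mem _
  · refine fun x hx => ?_
    have := mul_mem (inv_mem (show x ∈ Z2 K from hx)) (inv_Z2 β hx)
    exact ⟨this.1, this.2.1, this.2.2.1, this.2.2.2, by simp [h₂ x hx, hx.1, hx.2.1, hb]⟩
  · refine fun x hx => ?_
    have := mul_mem (inv_mem (show x ∈ Z3 K from hx)) (inv_Z3 β hx)
    exact ⟨this.1, this.2, by simp [(h₃ x hx).1, hx.1],
      by simp [(h₃ x hx).2, hx.2, P.star_t]⟩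
  · exact h

/-- The diagonal and field automorphisms. -/
def Dg (K : Type v) [Field K] [Fintype K] [Uf K] : Subgroup (MulAut (P K)) where
  carrier := {h | ∃ l m σ, h = dg l m σ}
  one_mem' := ⟨1, 1, _, dg_one.symm⟩
  mul_mem' := by
    rintro _ _ ⟨l, m, σ, rfl⟩ ⟨l', m', σ', rfl⟩
    exact ⟨_, _, _, dg_mul ..⟩
  inv_mem' := by
    rintro _ ⟨l, m, σ, rfl⟩
    exact ⟨_, _, _, dg_inv ..⟩

theorem exists_conj (p : ℕ) [hp : Fact p.Prime] [CharP K p] {A : Subgroup (MulAut (P K))}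
    (hA : ¬ p ∣ Nat.card A) : ∃ θ : MulAut (P K), ∀ a ∈ A, θ⁻¹ * a * θ ∈ Dg K := by
  have h₁ : IsPGroup p (Ess.trivSub ⊤ (Z3 K) le_top) := fun β => by
    obtain ⟨k, hk⟩ := pow_eq_one p β.2
    exact ⟨k, Subtype.ext hk⟩
  have : (Ess.trivSub ⊤ (Z3 K) le_top).Normal :=
    ⟨fun β hβ γ => TrivOn.conj hβ (fun _ _ => trivial) fun _ => inv_Z3 γ⟩
  obtain ⟨θ, -, h⟩ := Solv.sz_star (A := A) (K := Ess.trivSub ⊤ (Z3 K) le_top) (S := Dg K)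
    le_normalizer_of_normal (by
      obtain ⟨k, hk⟩ := h₁.exists_card_eq
      rw [hk]
      exact ((hp.out.coprime_iff_not_dvd.2 hA).symm).pow_right k)
    (.inr (by have := h₁.isNilpotent; infer_instance)) fun a _ => by
      obtain ⟨l, m, σ, h⟩ := exists_dg a
      refine ⟨a * (dg l m σ)⁻¹, fun x _ => ?_, l, m, σ, by group⟩
      obtain ⟨x, rfl⟩ := (dg l m σ).surjective x
      exact ⟨by simp [(h x).1], by simp [(h x).2]⟩
  exact ⟨θ, h⟩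

end Nr

theorem nrm : NrmStmt.{v} := by
  intro K _ _ _ p hp _ F hF
  have hs := sat_sylow_top (pg_top K p) hF
  have := Inn_subgroupOf_normal (F.autGroup ⊤)
  obtain ⟨H, hH⟩ := exists_right_complement'_of_coprime
    (N := (Inn (⊤ : Subgroup (P K))).subgroupOf (F.autGroup ⊤)) (by
      obtain ⟨k, hk⟩ := (hs.isPGroup.comap_subtype (K := F.autGroup ⊤)).exists_card_eq
      rw [show Nat.card ((Inn (⊤ : Subgroup (P K))).subgroupOf (F.autGroup ⊤)) = _ from hk]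
      exact (hp.out.coprime_iff_not_dvd.2 hs.not_dvd_relIndex).pow_left k)
  let e : F.autGroup ⊤ →* MulAut (P K) :=
    (MulAut.congr topEquiv).toMonoidHom.comp (F.autGroup ⊤).subtype
  obtain ⟨θ, hθ⟩ := Nr.exists_conj p (A := H.map e) fun h => hs.not_dvd_relIndex (by
    rw [relIndex, hH.symm.index_eq_card]
    exact h.trans (card_map_dvd H e))
  refine ⟨θ⁻¹, fun f hf => ?_⟩
  obtain ⟨β, hβ, eβ⟩ := hf.exists_aut' fun _ _ => trivial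
  obtain ⟨⟨⟨n, hn⟩, h⟩, e₁⟩ := hH.2 ⟨β, hβ⟩
  obtain ⟨g, -, hg⟩ := (Fus2.mem_Inn_iff (α := n.1)).1 hn
  obtain ⟨l, m, σ, e₂⟩ := hθ _ ⟨h, h.2, rfl⟩
  refine ⟨θ⁻¹ g, l, m, σ, fun y => ?_⟩
  have e₃ : β = n.1 * h.1.1 := (congrArg Subtype.val e₁).symm
  rw [← eβ _ trivial, e₃, afn_mul, hg _ trivial, ← e₂, afn_apply _ (mem_top _), map_mul, map_mul,
    map_inv]
  rfl

end Cfsg.Agent.U5
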